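import Cfsg.Agent.Mrg.Omega.NO3S.ThmB.End.NatIdx
import Cfsg.Agent.Mrg.Omega.NO3S.ThmB.Cyc


/-!
# THEOREM B, (B2): the end, natural case, without hypotheses on `[V, B]`

* `Nb.trHyp` : `TrHyp` from the fields `fx`, `nZ`, `tr` and `Z ≤ V`, `¬ Z ≤ D`;
* `Nb.no_nat` : **(B2)**: `P'` natural, `W = ⟨Z^P⟩` a sum of natural `SL₂(F₀)`-modules for `P`, `4 ≤ |F₀|`, `N_P(S)`
  transitive on `Z#`: impossible.
-/

set_option autoImplicit false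

namespace Cfsg.Agent.Omega.NO3S.ThmB

open Subgroup Cfsg Cfsg.Agent.ZN Cfsg.Agent.ZN.ChoiceBase Cfsg.Agent.ZN.ChoiceSit
open Cfsg.Agent.Omega.FFThm Cfsg.Agent.Omega.NatPair Cfsg.Agent.Lib.SL2Mat

universe u

variable {G : Type u} [Group G]

namespace Nb

variable [Finite G] {F : Type} [Field F] [Finite F] [CharP F 2] {S P P' V D U L : Subgroup G} {k : ℕ}
  {M : NatKM F S P' V D k} (h : Nb M) {AA : Set (Subgroup G)} (X : BSit S P P' U V L AA)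

include h X

/-- the hypotheses of (7) -/
theorem trHyp {Z : Subgroup G}
    (fx : ∀ M : Subgroup G, M ≤ U → S ≤ normalizer (M : Set G) → M ≠ ⊥ → ∃ z ∈ M, z ∈ Z ∧ z ≠ 1)
    (nZ : ∀ g ∈ P, g ∈ normalizer (S : Set G) → ∀ z ∈ Z, g * z * g⁻¹ ∈ Z)
    (tr : ∀ z ∈ Z, ∀ z' ∈ Z, z ≠ 1 → z' ≠ 1 → ∃ g ∈ P, g ∈ normalizer (S : Set G) ∧ g * z * g⁻¹ = z')
    (hZV : Z ≤ V) (hZD : ¬ Z ≤ D) : TrHyp S P P' U V (DM U AA) Z where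
  fx := fx
  nZ := nZ
  tr := tr
  mv := h.mv X hZV hZD
  orb := fun _ hB _ hB' => h.orb X hB hB'
  n0 := fun _ hB => h.n0 X hB

variable {Z : Subgroup G} (T : TrHyp S P P' U V (DM U AA) Z)
variable {F0 : Type} [Field F0] [Finite F0] [CharP F0 2] {W D0 : Subgroup G} {k0 : ℕ} (N : NatK F0 S P W D0 k0)

include T N

/-- **(B2), natural modules, `4 ≤ |F₀|`.** -/
theorem no_nat (h4 : 4 ≤ Nat.card F0) (hS : Syl S P) (hWP : P ≤ normalizer (W : Set G)) (hD0 : D0 = ⊥) (hZW : Z ≤ W)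
    (gen : ∀ K : Subgroup G, Z ≤ K → P ≤ normalizer (K : Set G) → W ≤ K) : False := by
  obtain ⟨B, hB⟩ := X.ex
  obtain ⟨i, O⟩ := h.one X hB
  have key : ∀ s ∈ S, ∀ t ∈ S, t ∈ normalizer ((⁅V, B⁆ : Subgroup G) : Set G) → ∀ n : ℕ,
      (∀ x ∈ ⁅V, B⁆, s * t ^ n * x = x * (s * t ^ n)) →
      ∃ n : ℤ, ∀ x ∈ ⁅V, B⁆, s * x * s⁻¹ = t ^ n * x * (t ^ n)⁻¹ := by
    intro s _ t _ htN n hn
    refine ⟨-(n : ℤ), fun x hx => ?_⟩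
    have hy : t ^ (-(n : ℤ)) * x * (t ^ (-(n : ℤ)))⁻¹ ∈ ⁅V, B⁆ :=
      (mem_normalizer_iff.1 (zpow_mem htN (-(n : ℤ))) x).1 hx
    have h1 := hn _ hy
    rw [zpow_neg, zpow_natCast, inv_inv] at h1 ⊢
    calc s * x * s⁻¹ = (s * t ^ n * ((t ^ n)⁻¹ * x * t ^ n)) * (s * t ^ n)⁻¹ := by group
      _ = ((t ^ n)⁻¹ * x * t ^ n * (s * t ^ n)) * (s * t ^ n)⁻¹ := by rw [h1]
      _ = (t ^ n)⁻¹ * x * t ^ n := by group
  refine h.b2 X T N h4 hS hWP hD0 hZW gen hB fun s hs hsN s' hs' hsN' => ?_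
  obtain ⟨n, h1 | h1⟩ := h.chain hS.2.1 (X.le _ hB.1.1) X.VU O hs hsN hs' hsN'
  · exact Or.inl (key s hs s' hs' hsN' n h1)
  · exact Or.inr (key s' hs' s hs hsN n h1)

end Nb

end Cfsg.Agent.Omega.NO3S.ThmB
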