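import Cfsg.Agent.Mrg.Omega.NO3S.ThmB.Fam
import Cfsg.Agent.Mrg.Omega.VP


/-!
# The torus lemma

Setting of THEOREM B, (7): `N_P(S)` is transitive on `Z#` (e.g. `|Z| = 2`).  Let `V` be a sum of natural
`SL₂(F)`-modules for `P'` and let every group `[V, B]`, `B ∈ DD` not centralising `V`, be the line of one
summand.  Then `z^P ⊆ z^{P'}` for every `z ∈ Z` centralised by `S`:

`P` permutes the lines (`Trans.step4`), all components of `z` are nontrivial, so all components of `z^g`, `g ∈ P`, are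
nontrivial, and the tori of `SL₂(F)^k` are transitive on the elements with all components nontrivial.

Consequence (`torus_le`): a group which contains `P'` and `C_G(z)` contains `P`.
-/

set_option autoImplicit false

namespace Cfsg.Agent.Omega.NO3S.ThmB

open Subgroup Cfsg Cfsg.Agent.ZN Cfsg.Agent.ZN.ChoiceBase
open Cfsg.Agent.Omega.FFThm (NatK ActsSL)
open Cfsg.Agent.Omega.NatPair (ap)
open Cfsg.Agent.Lib.SL2Mat

universe u

variable {G : Type u} [Group G]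

/-- the product of the groups `[V, B']` different from `[V, B]` -/
def KB (V : Subgroup G) (DD : Set (Subgroup G)) (B : Subgroup G) : Subgroup G :=
  closure {x | ∃ B', Fr V DD B' ∧ ⁅V, B'⁆ ≠ ⁅V, B⁆ ∧ x ∈ ⁅V, B'⁆}

theorem KB_congr {V : Subgroup G} {DD : Set (Subgroup G)} {B B' : Subgroup G} (h : ⁅V, B⁆ = ⁅V, B'⁆) :
    KB V DD B = KB V DD B' := by
  unfold KB; rw [h]

/-- Every `[V, B]` is the line of one summand. -/
def Root {F : Type} [Field F] {k : ℕ} (e : G → Fin k → Fin 2 → F) (V : Subgroup G) (DD : Set (Subgroup G)) : Prop :=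
  ∀ B, Fr V DD B → ∃ i, ∀ x ∈ V, x ∈ ⁅V, B⁆ ↔ e x i 1 = 0 ∧ ∀ j, j ≠ i → e x j = 0

namespace Fam

variable {S P P' U V J : Subgroup G} {DD : Set (Subgroup G)} (F : Fam S P P' U V J DD)
variable {Z : Subgroup G} (T : TrHyp S P P' U V DD Z)

include F

theorem com_le {B : Subgroup G} (hB : Fr V DD B) : ⁅V, B⁆ ≤ V := comm_le fun v hv b hb => by
  have h2 := mul_mem hv (conj_mem F.VP' (F.SP' (F.DS hB.1 hb)) (inv_mem hv))
  have e : v * (b * v⁻¹ * b⁻¹) = v * b * v⁻¹ * b⁻¹ := by group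
  rwa [e] at h2

theorem KB_le (B : Subgroup G) : KB V DD B ≤ V := by
  rw [KB, closure_le]
  rintro x ⟨B', hB', -, hx⟩
  exact F.com_le hB' hx

/-- `M1 = [V, B] K_B` -/
theorem M1_dec {B : Subgroup G} (hBF : Fr V DD B) {x : G} (hx : x ∈ M1 V DD) :
    ∃ a ∈ ⁅V, B⁆, ∃ b ∈ KB V DD B, x = a * b := by
  induction hx using closure_induction with
  | mem x hx =>
    obtain ⟨B', hB', hx⟩ := hx
    by_cases h : ⁅V, B'⁆ = ⁅V, B⁆
    · exact ⟨x, h ▸ hx, 1, one_mem _, (mul_one x).symm⟩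
    · exact ⟨1, one_mem _, x, subset_closure ⟨B', hB', h, hx⟩, (one_mul x).symm⟩
  | one => exact ⟨1, one_mem _, 1, one_mem _, (mul_one 1).symm⟩
  | mul x y _ _ ihx ihy =>
    obtain ⟨a, ha, b, hb, rfl⟩ := ihx
    obtain ⟨a', ha', b', hb', rfl⟩ := ihy
    refine ⟨a * a', mul_mem ha ha', b * b', mul_mem hb hb', ?_⟩
    have h1 : b * a' = a' * b := F.comm (F.VU (F.KB_le B hb)) (F.VU (F.com_le hBF ha'))
    calc a * b * (a' * b') = a * (b * a') * b' := by group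
      _ = a * a' * (b * b') := by rw [h1]; group
  | inv x _ ih =>
    obtain ⟨a, ha, b, hb, rfl⟩ := ih
    refine ⟨a⁻¹, inv_mem ha, b⁻¹, inv_mem hb, ?_⟩
    rw [mul_inv_rev]
    exact F.comm (F.VU (inv_mem (F.KB_le B hb))) (F.VU (inv_mem (F.com_le hBF ha)))

include T

/-- `P` permutes the groups `K_B` -/
theorem cj_KB {g : G} (hg : g ∈ P) {B : Subgroup G} (hB : Fr V DD B) :
    cj g (KB V DD B) ≤ KB V DD (cj g B) := by
  have key : ∀ B', Fr V DD B' → cj g ⁅V, B'⁆ = ⁅V, cj g B'⁆ := fun B' hB' => by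
    rw [F.conj_commutator hB' hg, F.commutator_eq (F.step4 T hg hB')]
  rw [cj_le_iff, KB, closure_le]
  rintro x ⟨B', hB', hne, hx⟩
  rw [SetLike.mem_coe, mem_cj]
  refine subset_closure ⟨cj g B', F.step4 T hg hB', fun h => hne ?_, ?_⟩
  · rw [← key B' hB', ← key B hB] at h
    have h2 := congrArg (cj g⁻¹) h
    rwa [cj_inv_cj, cj_inv_cj] at h2
  · rw [← key B' hB']
    have h1 := mem_cj_of (g := g) hx
    rwa [inv_inv]

/-- all components of `z` are nontrivial -/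
theorem not_mem_KB {z : G} (hz1 : z ≠ 1) (hzS : ∀ s ∈ S, s * z = z * s) (hzZ : z ∈ Z)
    (hker : ∀ x ∈ V, (∀ B, Fr V DD B → x ∈ KB V DD B) → x = 1) {B : Subgroup G} (hB : Fr V DD B) :
    z ∉ KB V DD B := by
  intro h
  apply hz1
  refine hker z (F.M1_le (F.Z_le_M1 T hzZ)) fun B' hB' => ?_
  obtain ⟨s, hs, e⟩ := T.orb B hB B' hB'
  have h1 := F.cj_KB T (F.SP hs) hB (mem_cj_of h)
  have h2 : s * z * s⁻¹ = z := by rw [hzS s hs]; group
  rw [h2] at h1
  have h3 : ⁅V, cj s B⁆ = ⁅V, B'⁆ := by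
    rw [← e, cj_comm, cj_eq_of_mem_normalizer (F.VP' (F.SP' hs))]
  rwa [KB_congr h3] at h1


end Fam

section nat

variable {S P P' U V J : Subgroup G} {DD : Set (Subgroup G)} {K : Type} [Field K] {D : Subgroup G} {k : ℕ}
  (h : NatK K S P' V D k)

include h

theorem e_one : h.e 1 = 0 := by
  have h1 := h.mul 1 (one_mem _) 1 (one_mem _)
  rw [mul_one] at h1
  exact left_eq_add.1 h1

theorem e_inv {v : G} (hv : v ∈ V) : h.e v⁻¹ = - h.e v := by
  have h1 := h.mul v⁻¹ (inv_mem hv) v hv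
  rw [inv_mul_cancel, e_one h] at h1
  exact eq_neg_of_add_eq_zero_left h1.symm

/-- two elements with the same coordinates are equal, if `D = 1` -/
theorem e_inj (hD : D = ⊥) {v w : G} (hv : v ∈ V) (hw : w ∈ V) (hvw : h.e v = h.e w) : v = w := by
  have h1 : h.e (v * w⁻¹) = 0 := by
    rw [h.mul v hv _ (inv_mem hw), e_inv h hw, hvw]
    exact add_neg_cancel _
  have h2 := (h.ker _ (mul_mem hv (inv_mem hw))).1 h1
  rw [hD, mem_bot] at h2
  exact mul_inv_eq_one.1 h2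

variable (F : Fam S P P' U V J DD) (hR : Root h.e V DD)

include F hR

/-- every index is the index of some `B` -/
theorem idx_surj (i : Fin k) :
    ∃ B, Fr V DD B ∧ ∀ x ∈ V, x ∈ ⁅V, B⁆ ↔ h.e x i 1 = 0 ∧ ∀ j, j ≠ i → h.e x j = 0 := by
  obtain ⟨B0, hB0⟩ := F.ex
  obtain ⟨i0, hi0⟩ := hR B0 hB0
  obtain ⟨t, ht, hte⟩ := h.trans i0 i
  have hB1 := F.Fr_conj_S ht hB0
  obtain ⟨j, hj⟩ := hR _ hB1
  obtain ⟨v, hv, hev⟩ := h.surj (Pi.single i0 ![1, 0])
  have hv0 : v ∈ ⁅V, B0⁆ := by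
    refine (hi0 v hv).2 ⟨?_, fun j' hj' => ?_⟩
    · rw [hev, Pi.single_eq_same]; rfl
    · rw [hev, Pi.single_eq_of_ne hj']
  have h1 : t * v * t⁻¹ ∈ ⁅V, cj t B0⁆ := by
    have h2 := mem_cj_of (g := t) hv0
    rwa [cj_comm, cj_eq_of_mem_normalizer (F.VP' (F.SP' ht))] at h2
  have h2 : h.e (t * v * t⁻¹) i ≠ 0 := by
    intro h3
    have h4 := (hte v hv).1 h3
    rw [hev, Pi.single_eq_same] at h4
    have h5 := congrFun h4 0
    simp at h5
  have h3 : i = j := by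
    by_contra hne
    exact h2 (((hj _ (conj_mem F.VP' (F.SP' ht) hv)).1 h1).2 i hne)
  subst h3
  exact ⟨_, hB1, hj⟩

/-- `K_B` has trivial component at the index of `B` -/
theorem KB_zero {B : Subgroup G} (hB : Fr V DD B) {i : Fin k} (hi : ∀ x ∈ V, x ∈ ⁅V, B⁆ ↔ h.e x i 1 = 0 ∧ ∀ j, j ≠ i → h.e x j = 0)
    {x : G} (hx : x ∈ KB V DD B) : h.e x i = 0 := by
  have hle := F.KB_le B
  rw [KB] at hx
  induction hx using closure_induction with
  | mem x hx =>
    obtain ⟨B', hB', hne, hx⟩ := hx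
    obtain ⟨j, hj⟩ := hR B' hB'
    have hji : i ≠ j := by
      intro e
      subst e
      apply hne
      ext y
      constructor
      · intro hy
        have hyV := F.com_le hB' hy
        exact (hi y hyV).2 ((hj y hyV).1 hy)
      · intro hy
        have hyV := F.com_le hB hy
        exact (hj y hyV).2 ((hi y hyV).1 hy)
    exact ((hj x (F.com_le hB' hx)).1 hx).2 i hji
  | one => rw [e_one h]; rfl
  | mul x y hx hy ihx ihy =>
    rw [h.mul x (hle hx) y (hle hy), Pi.add_apply, ihx, ihy, add_zero]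
  | inv x hx ih =>
    rw [e_inv h (hle hx), Pi.neg_apply, ih, neg_zero]

/-- the elements of `M1` are in the lines -/
theorem M1_line {x : G} (hx : x ∈ M1 V DD) (i : Fin k) : h.e x i 1 = 0 := by
  have hle := F.M1_le
  rw [M1] at hx
  induction hx using closure_induction with
  | mem x hx =>
    obtain ⟨B', hB', hx⟩ := hx
    obtain ⟨j, hj⟩ := hR B' hB'
    have h1 := (hj x (F.com_le hB' hx)).1 hx
    by_cases hji : i = j
    · subst hji; exact h1.1
    · rw [h1.2 i hji]; rfl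
  | one => rw [e_one h]; rfl
  | mul x y hx hy ihx ihy =>
    rw [h.mul x (hle hx) y (hle hy), Pi.add_apply, Pi.add_apply, ihx, ihy, add_zero]
  | inv x hx ih =>
    rw [e_inv h (hle hx), Pi.neg_apply, Pi.neg_apply, ih, neg_zero]

variable {Z : Subgroup G} (T : TrHyp S P P' U V DD Z)

include T

/-- all components of `z^g` are nontrivial -/
theorem full_conj (hD : D = ⊥) {z : G} (hz1 : z ≠ 1) (hzS : ∀ s ∈ S, s * z = z * s) (hzZ : z ∈ Z) {g : G}
    (hg : g ∈ P) (i : Fin k) :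
    h.e (g * z * g⁻¹) i 1 = 0 ∧ h.e (g * z * g⁻¹) i 0 ≠ 0 := by
  have hzM := F.Z_le_M1 T hzZ
  have hgM : g * z * g⁻¹ ∈ M1 V DD := conj_mem (F.M1_norm T) hg hzM
  refine ⟨M1_line h F hR hgM i, fun h0 => ?_⟩
  have h1 : h.e (g * z * g⁻¹) i = 0 := by
    funext j
    fin_cases j
    · exact h0
    · exact M1_line h F hR hgM i
  obtain ⟨B, hB, hi⟩ := idx_surj h F hR i
  have hker : ∀ x ∈ V, (∀ B, Fr V DD B → x ∈ KB V DD B) → x = 1 := by
    intro x hx hxB
    refine e_inj h hD hx (one_mem _) ?_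
    rw [e_one h]
    funext j
    obtain ⟨B', hB', hj⟩ := idx_surj h F hR j
    exact KB_zero h F hR hB' hj (hxB B' hB')
  obtain ⟨a, ha, b, hb, hab⟩ := F.M1_dec hB hgM
  have haV := F.com_le hB ha
  have ha1 : a = 1 := by
    refine e_inj h hD haV (one_mem _) ?_
    rw [e_one h]
    funext j
    by_cases hj : j = i
    · subst hj
      have h2 : h.e (g * z * g⁻¹) j = h.e a j + h.e b j := by
        rw [hab, h.mul a haV b (F.KB_le B hb)]; rfl
      rw [h1, KB_zero h F hR hB hi hb, add_zero] at h2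
      exact h2.symm
    · exact ((hi a haV).1 ha).2 j hj
  rw [ha1, one_mul] at hab
  rw [← hab] at hb
  -- `z ∈ K_{B^(g⁻¹)}`
  have hB2 := F.step4 T (inv_mem hg) hB
  refine F.not_mem_KB T hz1 hzS hzZ hker hB2 ?_
  have h3 := F.cj_KB T (inv_mem hg) hB (mem_cj_of hb)
  have e : g⁻¹ * (g * z * g⁻¹) * g⁻¹⁻¹ = z := by group
  rwa [e] at h3

/-- **The torus lemma.** -/
theorem torus (hD : D = ⊥) {z : G} (hz1 : z ≠ 1) (hzS : ∀ s ∈ S, s * z = z * s) (hzZ : z ∈ Z) {g : G}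
    (hg : g ∈ P) : ∃ t ∈ P', t * z * t⁻¹ = g * z * g⁻¹ := by
  have hzV : z ∈ V := F.M1_le (F.Z_le_M1 T hzZ)
  have hgV : g * z * g⁻¹ ∈ V := F.M1_le (conj_mem (F.M1_norm T) hg (F.Z_le_M1 T hzZ))
  have h1 := full_conj h F hR T hD hz1 hzS hzZ (one_mem P)
  have h2 := full_conj h F hR T hD hz1 hzS hzZ hg
  simp only [one_mul, inv_one, mul_one] at h1
  obtain ⟨t, ht, hA⟩ := h.lift fun i => dg (h.e (g * z * g⁻¹) i 0 / h.e z i 0) (div_ne_zero (h2 i).2 (h1 i).2)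
  refine ⟨t, ht, e_inj h hD (conj_mem F.VP' ht hzV) hgV ?_⟩
  funext i
  rw [hA.1 z hzV i]
  apply Cfsg.Agent.Omega.NatPair.ext2
  · have h3 := (h1 i).2
    have h4 : ap (dg (h.e (g * z * g⁻¹) i 0 / h.e z i 0) (div_ne_zero (h2 i).2 (h1 i).2)) (h.e z i) 0 =
        (h.e (g * z * g⁻¹) i 0 / h.e z i 0) * h.e z i 0 + 0 * h.e z i 1 := rfl
    rw [h4]
    field_simp
    ring
  · have h4 : ap (dg (h.e (g * z * g⁻¹) i 0 / h.e z i 0) (div_ne_zero (h2 i).2 (h1 i).2)) (h.e z i) 1 =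
        0 * h.e z i 0 + (h.e (g * z * g⁻¹) i 0 / h.e z i 0)⁻¹ * h.e z i 1 := rfl
    rw [h4, (h1 i).1, (h2 i).1]
    ring

/-- A group which contains `P'` and `C_G(z)` contains `P`. -/
theorem torus_le (hD : D = ⊥) {z : G} (hz1 : z ≠ 1) (hzS : ∀ s ∈ S, s * z = z * s) (hzZ : z ∈ Z)
    {H : Subgroup G} (hP' : P' ≤ H) (hC : ∀ x : G, x * z = z * x → x ∈ H) : P ≤ H := by
  intro g hg
  obtain ⟨t, ht, e⟩ := torus h F hR T hD hz1 hzS hzZ hg
  have h1 : (g⁻¹ * t) * z = z * (g⁻¹ * t) := by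
    have h2 : t * z = g * z * g⁻¹ * t := by rw [← e]; group
    calc (g⁻¹ * t) * z = g⁻¹ * (t * z) := by group
      _ = g⁻¹ * (g * z * g⁻¹ * t) := by rw [h2]
      _ = z * (g⁻¹ * t) := by group
  have h2 := hC _ h1
  have h3 : g = t * (g⁻¹ * t)⁻¹ := by group
  rw [h3]
  exact mul_mem (hP' ht) (inv_mem h2)

end nat

end Cfsg.Agent.Omega.NO3S.ThmB
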