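import Cfsg.Agent.Mrg.Omega.NO3S.ThmB.Fam
import Cfsg.Agent.Mrg.Omega.FrameI

section


/-!
# THEOREM B, the family of the smallest best offenders

`BFam S U L AA` : the members of `AA` are subgroups of `S` which act on `U` as elementary abelian groups, are best
offenders on `U`, can be cut down, and `AA` contains the `L`-conjugates of its members as far as they are in `S`.
Instances: the largest elementary abelian subgroups of `S`, and the best offenders of each level.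

`DM U AA` : the members of `AA` which do not centralise `U`, with `|A / C_A(U)|` as small as possible.

* `BFam.offM` : `A` is an offender on `V ≤ U`, if it does not centralise `V`;
* `BFam.min_cut` : `A ∩ C(U) ≤ B < A`, `|A| |C_U(A)| ≤ |B| |C_U(B)|`, `A ∈ DM` imply `B ≤ C(U)`;
* `BFam.DM_P`, `DM_P'`, `DM_ex` : the fields `DP, DP', ex` of `Fam`.
-/

set_option autoImplicit false

namespace Cfsg.Agent.Omega.NO3S.ThmB

open Subgroup Cfsg Cfsg.Agent.ZN Cfsg.Agent.ZN.ChoiceBase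
open Cfsg.Agent.Omega.FFThm (ElemM OffM)

universe u

variable {G : Type u} [Group G]

/-- A family of best offenders on `U`. -/
structure BFam (S U L : Subgroup G) (AA : Set (Subgroup G)) : Prop where
  le : ∀ A ∈ AA, A ≤ S
  elem : ∀ A ∈ AA, ElemM U A
  best : ∀ A ∈ AA, ∀ B : Subgroup G, A ⊓ centralizer (U : Set G) ≤ B → B ≤ A →
    Nat.card B * Nat.card ↥(U ⊓ centralizer (B : Set G)) ≤ Nat.card A * Nat.card ↥(U ⊓ centralizer (A : Set G))
  cut : ∀ A ∈ AA, ∀ B : Subgroup G, A ⊓ centralizer (U : Set G) ≤ B → B ≤ A →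
    Nat.card B * Nat.card ↥(U ⊓ centralizer (B : Set G)) = Nat.card A * Nat.card ↥(U ⊓ centralizer (A : Set G)) →
      ∃ B' ∈ AA, B' ⊔ centralizer (U : Set G) = B ⊔ centralizer (U : Set G)
  conj : ∀ A ∈ AA, ∀ g ∈ L, cj g A ≤ S → cj g A ∈ AA

/-- the members of `AA` which do not centralise `U`, with `|A / C_A(U)|` as small as possible -/
def DM (U : Subgroup G) (AA : Set (Subgroup G)) : Set (Subgroup G) :=
  {A | A ∈ AA ∧ ¬ A ≤ centralizer (U : Set G) ∧
    ∀ B ∈ AA, ¬ B ≤ centralizer (U : Set G) → (centralizer (U : Set G)).relIndex A ≤ (centralizer (U : Set G)).relIndex B}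

theorem card_inf_relIndex {A C : Subgroup G} : C.relIndex A * Nat.card ↥(A ⊓ C) = Nat.card A := by
  have e := relIndex_inf_mul_relIndex (⊥ : Subgroup G) C A
  rw [relIndex_bot_left, bot_inf_eq, relIndex_bot_left, mul_comm, inf_comm] at e
  exact e

theorem relIndex_cj {A C : Subgroup G} (g : G) : (cj g C).relIndex (cj g A) = C.relIndex A :=
  relIndex_map_map_of_injective _ _ (MulAut.conj g).injective

/-- `|V C| |V ∩ C| = |V| |C|` for `V` normalised by `C`. -/
theorem card_sup_mul_inf [Finite G] {V C : Subgroup G} (h : V ≤ centralizer (C : Set G)) :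
    Nat.card ↥(V ⊔ C) * Nat.card ↥(V ⊓ C) = Nat.card V * Nat.card C :=
  Cfsg.Agent.PLocal.ElemAbSup.card_sup_mul_card_inf (le_centralizer_iff.1 h)

/-- `|H K : K| = |H : H ∩ K|` for `K` normalised by `H`. -/
theorem relIndex_sup_nrm {K H : Subgroup G} (h : H ≤ normalizer (K : Set G)) : K.relIndex (H ⊔ K) = K.relIndex H := by
  have hKn : (K.subgroupOf (K ⊔ H)).Normal :=
    normal_subgroupOf_of_le_normalizer (sup_le le_normalizer h)
  have h1 := relIndex_sup_left (H.subgroupOf (K ⊔ H)) (K.subgroupOf (K ⊔ H))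
  rw [← Subgroup.subgroupOf_sup le_sup_left le_sup_right, Subgroup.subgroupOf_self,
    Subgroup.relIndex_subgroupOf le_sup_right, relIndex_top_right] at h1
  rw [sup_comm, ← h1]
  rfl

theorem cj_le_cj_iff {g : G} {H K : Subgroup G} : cj g H ≤ cj g K ↔ H ≤ K := by
  rw [cj_le_iff, cj_inv_cj]

theorem le_normalizer_centralizer {S U : Subgroup G} (h : S ≤ normalizer (U : Set G)) :
    S ≤ normalizer ((centralizer (U : Set G) : Subgroup G) : Set G) := fun s hs => by
  have h1 : cj s (centralizer (U : Set G)) = centralizer (U : Set G) := by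
    rw [cj_centralizer, cj_eq_of_mem_normalizer (h hs)]
  refine mem_normalizer_iff.2 fun x => ⟨fun hx => ?_, fun hx => ?_⟩
  · have h2 := mem_cj_of (g := s) hx
    rwa [h1] at h2
  · rw [← h1] at hx
    obtain ⟨y, hy, e⟩ := exists_of_mem_cj hx
    rw [mul_left_cancel (mul_right_cancel e)]
    exact hy

theorem norm_sSup [Finite G] {P : Subgroup G} {D : Set (Subgroup G)} (h : ∀ A ∈ D, ∀ g ∈ P, cj g A ∈ D) :
    P ≤ normalizer ((sSup D : Subgroup G) : Set G) := fun g hg =>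
  mem_normalizer_of_cj_le (cj_le_iff.2 (sSup_le fun A hA => cj_le_iff.1 (le_sSup (h A hA g hg))))

namespace BFam

variable {S U L : Subgroup G} {AA : Set (Subgroup G)} (F : BFam S U L AA)

include F

/-- A best offender on `U` is an offender on `V ≤ U`. -/
theorem le_of_best [Finite G] (hU : IsElementaryAbelian 2 U) {V A : Subgroup G} (hVU : V ≤ U) (hA : A ∈ AA) :
    Nat.card V * Nat.card ↥(A ⊓ centralizer (V : Set G)) ≤ Nat.card A * Nat.card ↥(V ⊓ centralizer (A : Set G)) := by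
  have hC : centralizer (U : Set G) ≤ centralizer (V : Set G) := centralizer_le hVU
  have h1 := F.best A hA (A ⊓ centralizer (V : Set G)) (inf_le_inf_left A hC) inf_le_left
  have h2 : V ⊔ (U ⊓ centralizer (A : Set G)) ≤ U ⊓ centralizer ((A ⊓ centralizer (V : Set G) : Subgroup G) : Set G) := by
    refine sup_le (le_inf hVU fun v hv => mem_centralizer_iff.2 fun a ha => ?_)
      (inf_le_inf_left U (centralizer_le inf_le_left))
    exact (mem_centralizer_iff.1 ha.2 v hv).symm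
  have h3 := card_le_of_le h2
  have h4 : V ≤ centralizer ((U ⊓ centralizer (A : Set G) : Subgroup G) : Set G) := fun v hv =>
    mem_centralizer_iff.2 fun c hc => elem_comm hU hc.1 (hVU hv)
  have h5 := card_sup_mul_inf h4
  have e : V ⊓ (U ⊓ centralizer (A : Set G)) = V ⊓ centralizer (A : Set G) := by
    rw [← inf_assoc, inf_eq_left.2 hVU]
  rw [e] at h5
  have hp1 : 0 < Nat.card ↥(U ⊓ centralizer (A : Set G)) := Nat.card_pos
  refine Nat.le_of_mul_le_mul_right (c := Nat.card ↥(U ⊓ centralizer (A : Set G))) ?_ hp1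
  calc Nat.card V * Nat.card ↥(A ⊓ centralizer (V : Set G)) * Nat.card ↥(U ⊓ centralizer (A : Set G))
      = Nat.card ↥(A ⊓ centralizer (V : Set G)) * (Nat.card V * Nat.card ↥(U ⊓ centralizer (A : Set G))) := by ring
    _ = Nat.card ↥(A ⊓ centralizer (V : Set G)) *
        (Nat.card ↥(V ⊔ (U ⊓ centralizer (A : Set G))) * Nat.card ↥(V ⊓ centralizer (A : Set G))) := by rw [h5]
    _ ≤ Nat.card ↥(A ⊓ centralizer (V : Set G)) *
        (Nat.card ↥(U ⊓ centralizer ((A ⊓ centralizer (V : Set G) : Subgroup G) : Set G)) *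
          Nat.card ↥(V ⊓ centralizer (A : Set G))) :=
        Nat.mul_le_mul_left _ (Nat.mul_le_mul_right _ h3)
    _ = Nat.card ↥(A ⊓ centralizer (V : Set G)) *
        Nat.card ↥(U ⊓ centralizer ((A ⊓ centralizer (V : Set G) : Subgroup G) : Set G)) *
          Nat.card ↥(V ⊓ centralizer (A : Set G)) := by ring
    _ ≤ Nat.card A * Nat.card ↥(U ⊓ centralizer (A : Set G)) * Nat.card ↥(V ⊓ centralizer (A : Set G)) :=
        Nat.mul_le_mul_right _ h1
    _ = Nat.card A * Nat.card ↥(V ⊓ centralizer (A : Set G)) * Nat.card ↥(U ⊓ centralizer (A : Set G)) := by ring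

theorem offM [Finite G] (hU : IsElementaryAbelian 2 U) {V A : Subgroup G} (hVU : V ≤ U) (hA : A ∈ AA)
    (hne : ¬ A ≤ centralizer (V : Set G)) : OffM V A where
  sq a ha := centralizer_le hVU ((F.elem A hA).sq a ha)
  comm a ha b hb := centralizer_le hVU ((F.elem A hA).comm a ha b hb)
  ne := hne
  le := F.le_of_best hU hVU hA

/-- A member of `DM` cannot be cut down. -/
theorem min_cut [Finite G] (hSU : S ≤ normalizer (U : Set G)) {A B : Subgroup G} (hA : A ∈ DM U AA) (h1 : A ⊓ centralizer (U : Set G) ≤ B) (h2 : B ≤ A)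
    (hne : B ≠ A)
    (h3 : Nat.card A * Nat.card ↥(U ⊓ centralizer (A : Set G)) ≤ Nat.card B * Nat.card ↥(U ⊓ centralizer (B : Set G))) :
    B ≤ centralizer (U : Set G) := by
  by_contra hB
  obtain ⟨B', hB', e⟩ := F.cut A hA.1 B h1 h2 (le_antisymm (F.best A hA.1 B h1 h2) h3)
  have hB'U : ¬ B' ≤ centralizer (U : Set G) := fun h => hB (by
    have h4 : B' ⊔ centralizer (U : Set G) ≤ centralizer (U : Set G) := sup_le h le_rfl
    rw [e] at h4
    exact le_sup_left.trans h4)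
  have h4 := hA.2.2 B' hB' hB'U
  have h5 : (centralizer (U : Set G)).relIndex B' = (centralizer (U : Set G)).relIndex B := by
    have h6 := le_normalizer_centralizer hSU
    rw [← relIndex_sup_nrm ((F.le B' hB').trans h6), ← relIndex_sup_nrm ((h2.trans (F.le A hA.1)).trans h6), e]
  rw [h5] at h4
  have e1 := card_inf_relIndex (A := A) (C := centralizer (U : Set G))
  have e2 := card_inf_relIndex (A := B) (C := centralizer (U : Set G))
  have e3 : B ⊓ centralizer (U : Set G) = A ⊓ centralizer (U : Set G) :=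
    le_antisymm (inf_le_inf_right _ h2) (le_inf h1 inf_le_right)
  rw [e3] at e2
  have h6 : Nat.card A ≤ Nat.card B := by
    rw [← e1, ← e2]
    exact Nat.mul_le_mul_right _ h4
  exact hne (eq_of_le_of_card_ge h2 h6)

/-- `DM` is invariant under the elements of `L` which normalise `U` and do not move its members out of `S`. -/
theorem DM_conj (hL : L ≤ normalizer (U : Set G)) {A : Subgroup G} (hA : A ∈ DM U AA) {g : G} (hg : g ∈ L)
    (hS : cj g A ≤ S) : cj g A ∈ DM U AA := by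
  have e : cj g (centralizer (U : Set G)) = centralizer (U : Set G) := by
    rw [cj_centralizer, cj_eq_of_mem_normalizer (hL hg)]
  refine ⟨F.conj A hA.1 g hg hS, fun h => hA.2.1 ?_, fun B hB hB' => ?_⟩
  · rw [← e] at h
    exact cj_le_cj_iff.1 h
  · have h1 := hA.2.2 B hB hB'
    have h2 := relIndex_cj (A := A) (C := centralizer (U : Set G)) g
    rw [e] at h2
    rwa [h2]

/-- **The fields of `Fam`** which do not depend on the action on `V`. -/
theorem DM_P (hL : L ≤ normalizer (U : Set G)) {P : Subgroup G} (hP : P ≤ L) (hPS : ∀ A ∈ AA, ∀ g ∈ P, cj g A ≤ S)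
    {A : Subgroup G} (hA : A ∈ DM U AA) {g : G} (hg : g ∈ P) : cj g A ∈ DM U AA :=
  F.DM_conj hL hA (hP hg) (hPS A hA.1 g hg)

/-- Some member of `DM` does not centralise `V`. -/
theorem DM_ex [Finite G] (hL : L ≤ normalizer (U : Set G)) {P P' V : Subgroup G} (hP : P ≤ L) (hP' : P' ≤ L)
    (hVU : V ≤ U) (hPS : ∀ A ∈ AA, ∀ g ∈ P, cj g A ≤ S)
    (hPS' : ∀ A ∈ AA, A ≤ centralizer (V : Set G) → ∀ h ∈ P', cj h A ≤ S)
    (hne : ∃ A ∈ AA, ¬ A ≤ centralizer (V : Set G))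
    (hO : ∀ N : Subgroup G, N ≤ S → P ≤ normalizer (N : Set G) → P' ≤ normalizer (N : Set G) →
      N ≤ centralizer (U : Set G)) : ∃ A, Fr V (DM U AA) A := by
  by_contra h0
  have h0' : ∀ A ∈ DM U AA, A ≤ centralizer (V : Set G) := fun A hA => by
    by_contra h1
    exact h0 ⟨A, hA, h1⟩
  have hC : centralizer (U : Set G) ≤ centralizer (V : Set G) := centralizer_le hVU
  -- `DM` is not empty
  obtain ⟨A, hA⟩ : ∃ A, A ∈ DM U AA := by
    obtain ⟨A1, hA1, hA1'⟩ := hne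
    have h1 : ∃ n, ∃ A ∈ AA, ¬ A ≤ centralizer (U : Set G) ∧ (centralizer (U : Set G)).relIndex A = n :=
      ⟨_, A1, hA1, fun h => hA1' (h.trans hC), rfl⟩
    classical
    obtain ⟨A, hA, hA', hn⟩ := Nat.find_spec h1
    refine ⟨A, hA, hA', fun B hB hB' => ?_⟩
    rw [hn]
    exact Nat.find_min' h1 ⟨B, hB, hB', rfl⟩
  refine hA.2.1 ((le_sSup hA).trans (hO (sSup (DM U AA)) (sSup_le fun B hB => F.le B hB.1) ?_ ?_))
  · exact norm_sSup fun B hB g hg => F.DM_P hL hP hPS hB hg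
  · exact norm_sSup fun B hB g hg => F.DM_conj hL hB (hP' hg) (hPS' B hB.1 (h0' B hB) g hg)

end BFam

end Cfsg.Agent.Omega.NO3S.ThmB

end

section


/-!
# THEOREM B: natural modules for `P'`, the action on `V`

`M : NatKM F S P' V D k`, and an element of `P'` which is trivial on `V / D` and on `D` is trivial on `V` (`Nb`).

* `Nb.dir` : an element which acts as `A ∈ SL₂(F)^k` with `A j = 1` and centralises `D` centralises the full preimage
  of the `j`-th summand of `V / D`;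
* `Nb.upact` : `J` acts as a group of upper unitriangular families.
-/

set_option autoImplicit false

namespace Cfsg.Agent.Omega.NO3S.ThmB

open Subgroup Cfsg Cfsg.Agent.ZN Cfsg.Agent.ZN.ChoiceBase
open Cfsg.Agent.Omega.FFThm Cfsg.Agent.Omega.NatPair Cfsg.Agent.Lib.SL2Mat

universe u

/-! ### Families with one entry -/

section sg

variable {k : ℕ} {α : Type*} [Group α]

/-- the family with entry `A` at `i` -/
def sg (i : Fin k) (A : α) : Fin k → α := Function.update 1 i A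

theorem sg_self (i : Fin k) (A : α) : sg i A i = A := Function.update_self _ _ _

theorem sg_ne {i l : Fin k} (hl : l ≠ i) (A : α) : sg i A l = 1 := by
  rw [sg, Function.update_of_ne hl]; rfl

theorem sg_mul (i : Fin k) (A B : α) : sg i (A * B) = sg i A * sg i B := by
  funext l
  rw [Pi.mul_apply]
  by_cases hl : l = i
  · rw [hl, sg_self, sg_self, sg_self]
  · rw [sg_ne hl, sg_ne hl, sg_ne hl, one_mul]

theorem sg_one (i : Fin k) : sg i (1 : α) = 1 := by
  funext l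
  by_cases hl : l = i
  · rw [hl, sg_self]; rfl
  · rw [sg_ne hl]; rfl

theorem eq_sg {i : Fin k} {A : Fin k → α} (h : ∀ l, l ≠ i → A l = 1) : A = sg i (A i) := by
  funext l
  by_cases hl : l = i
  · rw [hl, sg_self]
  · rw [sg_ne hl, h l hl]

theorem sg_comm {i : Fin k} {A : Fin k → α} (h : A i = 1) (B : α) : A * sg i B = sg i B * A := by
  funext l
  rw [Pi.mul_apply, Pi.mul_apply]
  by_cases hl : l = i
  · rw [hl, h, one_mul, mul_one]
  · rw [sg_ne hl, one_mul, mul_one]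

end sg

section mat

variable {F : Type} [Field F]

theorem ap_up_0 (b : F) (x : Fin 2 → F) : ap (up b) x 0 = x 0 + b * x 1 := by
  rw [ap_zero', up_00, up_01, one_mul]

theorem ap_up_1 (b : F) (x : Fin 2 → F) : ap (up b) x 1 = x 1 := by
  rw [ap_one', up_10, up_11, zero_mul, one_mul, zero_add]

theorem ap_lo_0 (b : F) (x : Fin 2 → F) : ap (lo b) x 0 = x 0 := by
  rw [ap_zero', lo_00, lo_01, one_mul, zero_mul, add_zero]

theorem ap_lo_1 (b : F) (x : Fin 2 → F) : ap (lo b) x 1 = b * x 0 + x 1 := by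
  rw [ap_one', lo_10, lo_11, one_mul]

theorem ap_zr (A : Matrix.SpecialLinearGroup (Fin 2) F) : ap A 0 = 0 := by
  have h := ap_add A 0 0
  rw [add_zero] at h
  exact left_eq_add.1 h

theorem vec_eq {x y : Fin 2 → F} (h0 : x 0 = y 0) (h1 : x 1 = y 1) : x = y := by
  funext i
  fin_cases i
  · exact h0
  · exact h1

end mat

variable {G : Type u} [Group G] {F : Type} [Field F] {S P' V D : Subgroup G} {k : ℕ}

/-- the block of `P'` -/
structure Nb (M : NatKM F S P' V D k) : Prop where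
  SP' : S ≤ P'
  V2 : IsElementaryAbelian 2 V
  VP' : P' ≤ normalizer (V : Set G)
  DV : D ≤ V
  DP' : P' ≤ normalizer (D : Set G)
  triv : ∀ g ∈ P', (∀ v ∈ V, M.e (g * v * g⁻¹) = M.e v) → (∀ d ∈ D, g * d = d * g) → ∀ v ∈ V, g * v = v * g

namespace Nb

variable {M : NatKM F S P' V D k} (h : Nb M)

include h

theorem cm {v w : G} (hv : v ∈ V) (hw : w ∈ V) : v * w = w * v := elem_comm h.V2 hv hw

theorem sq {v : G} (hv : v ∈ V) : v * v = 1 := by
  have := h.V2.2 v hv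
  rwa [pow_two] at this

theorem inv_eq {v : G} (hv : v ∈ V) : v⁻¹ = v := inv_eq_of_mul_eq_one_left (h.sq hv)

omit h in
theorem e_one : M.e 1 = 0 := by
  have h1 := M.mul 1 (one_mem _) 1 (one_mem _)
  rw [one_mul] at h1
  exact left_eq_add.1 h1

theorem e_inv {v : G} (hv : v ∈ V) : M.e v⁻¹ = M.e v := by rw [h.inv_eq hv]

theorem add_self [CharP F 2] (x : Fin k → Fin 2 → F) : x + x = 0 := by
  funext i j
  exact CharTwo.add_self_eq_zero _

theorem memV {g v : G} (hg : g ∈ P') (hv : v ∈ V) : g * v * g⁻¹ ∈ V := conj_mem h.VP' hg hv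

theorem e_div {v w : G} (hv : v ∈ V) (hw : w ∈ V) : M.e (v * w⁻¹) = M.e v + M.e w := by
  rw [M.mul v hv _ (inv_mem hw), h.e_inv hw]

theorem mem_D [CharP F 2] {v w : G} (hv : v ∈ V) (hw : w ∈ V) : v * w⁻¹ ∈ D ↔ M.e v = M.e w := by
  rw [← M.ker _ (mul_mem hv (inv_mem hw)), h.e_div hv hw]
  constructor
  · intro h1
    have h2 := congrArg (· + M.e w) h1
    simp only [add_assoc, h.add_self, add_zero, zero_add] at h2
    exact h2
  · intro h1
    rw [h1, h.add_self]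

omit h in
/-- an element of `V` with one nonzero coordinate -/
theorem exists_single (M : NatKM F S P' V D k) (i : Fin k) (x : Fin 2 → F) :
    ∃ v ∈ V, M.e v i = x ∧ ∀ l, l ≠ i → M.e v l = 0 := by
  obtain ⟨v, hv, hx⟩ := M.surj (Function.update (0 : Fin k → Fin 2 → F) i x)
  refine ⟨v, hv, by rw [hx, Function.update_self], fun l hl => ?_⟩
  rw [hx, Function.update_of_ne hl]
  rfl

theorem acts_mul {g x : G} {A B : Fin k → Matrix.SpecialLinearGroup (Fin 2) F} (hx : x ∈ P')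
    (hA : ActsSL M.e V D g A) (hB : ActsSL M.e V D x B) : ActsSL M.e V D (g * x) (A * B) := by
  refine ⟨fun v hv i => ?_, fun d hd => ?_⟩
  · have e1 : g * x * v * (g * x)⁻¹ = g * (x * v * x⁻¹) * g⁻¹ := by group
    rw [e1, hA.1 _ (h.memV hx hv), hB.1 v hv, Pi.mul_apply, ap_mul]
  · exact (show Commute g d from hA.2 d hd).mul_left (hB.2 d hd)

theorem acts_inv {g : G} {A : Fin k → Matrix.SpecialLinearGroup (Fin 2) F} (hg : g ∈ P')
    (hA : ActsSL M.e V D g A) : ActsSL M.e V D g⁻¹ A⁻¹ := by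
  refine ⟨fun v hv i => ?_, fun d hd => ?_⟩
  · have h1 := hA.1 _ (h.memV (inv_mem hg) hv) i
    have e1 : g * (g⁻¹ * v * g⁻¹⁻¹) * g⁻¹ = v := by group
    rw [e1] at h1
    rw [h1, Pi.inv_apply, ap_inv_ap]
  · exact (show Commute g d from hA.2 d hd).inv_left

omit h in
theorem acts_one : ActsSL M.e V D 1 1 := by
  refine ⟨fun v _ i => ?_, fun d _ => by rw [one_mul, mul_one]⟩
  rw [Pi.one_apply, ap_one, one_mul, inv_one, mul_one]

theorem comm_of_one {g : G} (hg : g ∈ P') (hA : ActsSL M.e V D g 1) {v : G} (hv : v ∈ V) : g * v = v * g := by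
  refine h.triv g hg (fun w hw => ?_) hA.2 v hv
  funext i
  rw [hA.1 w hw i, Pi.one_apply, ap_one]

/-- two elements with the same action on `V / D` and `D` act in the same way on `V` -/
theorem same {g x : G} {A : Fin k → Matrix.SpecialLinearGroup (Fin 2) F} (hg : g ∈ P') (hx : x ∈ P')
    (hA : ActsSL M.e V D g A) (hB : ActsSL M.e V D x A) {v : G} (hv : v ∈ V) : g * v * g⁻¹ = x * v * x⁻¹ := by
  have h1 := h.acts_mul hg (h.acts_inv hx hB) hA
  rw [inv_mul_cancel] at h1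
  have h2 := h.comm_of_one (mul_mem (inv_mem hx) hg) h1 hv
  calc g * v * g⁻¹ = x * (x⁻¹ * g * v) * g⁻¹ := by group
    _ = x * (v * (x⁻¹ * g)) * g⁻¹ := by rw [h2]
    _ = x * v * x⁻¹ := by group

/-- commuting families: `g` and `x` commute on `V` -/
theorem swap {g x : G} {A B : Fin k → Matrix.SpecialLinearGroup (Fin 2) F} (hg : g ∈ P') (hx : x ∈ P')
    (hA : ActsSL M.e V D g A) (hB : ActsSL M.e V D x B) (hAB : A * B = B * A) {v : G} (hv : v ∈ V) :
    g * (x * v * x⁻¹) * g⁻¹ = x * (g * v * g⁻¹) * x⁻¹ := by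
  have h1 := h.acts_mul hx hA hB
  have h2 := h.acts_mul hg hB hA
  rw [← hAB] at h2
  have h3 := h.same (mul_mem hg hx) (mul_mem hx hg) h1 h2 hv
  calc g * (x * v * x⁻¹) * g⁻¹ = g * x * v * (g * x)⁻¹ := by group
    _ = x * g * v * (x * g)⁻¹ := h3
    _ = x * (g * v * g⁻¹) * x⁻¹ := by group

/-- `g` acts trivially on the `j`-th summand: it centralises `[w, c]`, `w` in the `j`-th summand, `c` in the `j`-th
factor -/
theorem dir_aux [CharP F 2] {g : G} {A : Fin k → Matrix.SpecialLinearGroup (Fin 2) F} (hg : g ∈ P')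
    (hA : ActsSL M.e V D g A) {j : Fin k} (hj : A j = 1) {w : G} (hw : w ∈ V) (hwj : ∀ l, l ≠ j → M.e w l = 0)
    {c : G} (hc : c ∈ P') {B : Matrix.SpecialLinearGroup (Fin 2) F} (hB : ActsSL M.e V D c (sg j B)) :
    g * (c * w * c⁻¹ * w⁻¹) = (c * w * c⁻¹ * w⁻¹) * g := by
  have h1 : g * w * g⁻¹ * w⁻¹ ∈ D := by
    rw [h.mem_D (h.memV hg hw) hw]
    funext l
    rw [hA.1 w hw l]
    by_cases hl : l = j
    · rw [hl, hj, ap_one]
    · rw [hwj l hl, ap_zr]
  have h2 := hB.2 _ h1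
  have h3 := h.swap hg hc hA hB (sg_comm hj B) hw
  have h4 : g * (c * w * c⁻¹) * g⁻¹ = (g * w * g⁻¹ * w⁻¹) * (c * w * c⁻¹) := by
    rw [h3]
    calc c * (g * w * g⁻¹) * c⁻¹ = (c * (g * w * g⁻¹ * w⁻¹)) * w * c⁻¹ := by group
      _ = (g * w * g⁻¹ * w⁻¹ * c) * w * c⁻¹ := by rw [h2]
      _ = _ := by group
  have h5 : g * (c * w * c⁻¹ * w⁻¹) * g⁻¹ = c * w * c⁻¹ * w⁻¹ := by
    calc g * (c * w * c⁻¹ * w⁻¹) * g⁻¹ = (g * (c * w * c⁻¹) * g⁻¹) * (g * w * g⁻¹)⁻¹ := by group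
      _ = (g * w * g⁻¹ * w⁻¹) * (c * w * c⁻¹) * (g * w * g⁻¹)⁻¹ := by rw [h4]
      _ = (c * w * c⁻¹) * (g * w * g⁻¹ * w⁻¹) * (g * w * g⁻¹)⁻¹ := by
        rw [h.cm (h.DV h1) (h.memV hc hw)]
      _ = (c * w * c⁻¹) * ((g * w * g⁻¹) * w⁻¹ * (g * w * g⁻¹)⁻¹) := by group
      _ = (c * w * c⁻¹) * (w⁻¹ * (g * w * g⁻¹) * (g * w * g⁻¹)⁻¹) := by
        rw [h.cm (h.memV hg hw) (inv_mem hw)]
      _ = c * w * c⁻¹ * w⁻¹ := by group
  exact mul_inv_eq_iff_eq_mul.1 h5

/-- **(dir)** -/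
theorem dir [CharP F 2] {g : G} {A : Fin k → Matrix.SpecialLinearGroup (Fin 2) F} (hg : g ∈ P')
    (hA : ActsSL M.e V D g A) {j : Fin k} (hj : A j = 1) {v : G} (hv : v ∈ V) (hvj : ∀ l, l ≠ j → M.e v l = 0) :
    g * v = v * g := by
  obtain ⟨w1, hw1, hw1j, hw1l⟩ := exists_single M j ![0, M.e v j 0]
  obtain ⟨w2, hw2, hw2j, hw2l⟩ := exists_single M j ![M.e v j 1, 0]
  obtain ⟨c1, hc1, hc1A⟩ := M.lift (sg j (up 1))
  obtain ⟨c2, hc2, hc2A⟩ := M.lift (sg j (lo 1))
  have k1 := h.dir_aux hg hA hj hw1 hw1l hc1 hc1A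
  have k2 := h.dir_aux hg hA hj hw2 hw2l hc2 hc2A
  have m1 : c1 * w1 * c1⁻¹ * w1⁻¹ ∈ V := mul_mem (h.memV hc1 hw1) (inv_mem hw1)
  have m2 : c2 * w2 * c2⁻¹ * w2⁻¹ ∈ V := mul_mem (h.memV hc2 hw2) (inv_mem hw2)
  set x1 := c1 * w1 * c1⁻¹ * w1⁻¹ with hx1
  set x2 := c2 * w2 * c2⁻¹ * w2⁻¹ with hx2
  have e1 : M.e x1 = M.e (c1 * w1 * c1⁻¹) + M.e w1 := h.e_div (h.memV hc1 hw1) hw1
  have e2 : M.e x2 = M.e (c2 * w2 * c2⁻¹) + M.e w2 := h.e_div (h.memV hc2 hw2) hw2
  have hd : v * (x1 * x2)⁻¹ ∈ D := by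
    rw [h.mem_D hv (mul_mem m1 m2), M.mul _ m1 _ m2, e1, e2]
    funext l
    rw [Pi.add_apply, Pi.add_apply, Pi.add_apply, hc1A.1 w1 hw1 l, hc2A.1 w2 hw2 l]
    by_cases hl : l = j
    · subst hl
      rw [sg_self, sg_self, hw1j, hw2j]
      refine vec_eq ?_ ?_
      · rw [Pi.add_apply, Pi.add_apply, Pi.add_apply, ap_up_0, ap_lo_0]
        simp only [Matrix.cons_val_zero, Matrix.cons_val_one, one_mul, zero_add, add_zero]
        rw [CharTwo.add_self_eq_zero, add_zero]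
      · rw [Pi.add_apply, Pi.add_apply, Pi.add_apply, ap_up_1, ap_lo_1]
        simp only [Matrix.cons_val_zero, Matrix.cons_val_one, one_mul, zero_add, add_zero]
        rw [CharTwo.add_self_eq_zero, zero_add]
    · rw [sg_ne hl, sg_ne hl, hw1l l hl, hw2l l hl, hvj l hl, ap_zr]
      simp
  have e3 : v = (v * (x1 * x2)⁻¹) * (x1 * x2) := by group
  have h3 : Commute g (v * (x1 * x2)⁻¹) := hA.2 _ hd
  have h4 : Commute g (x1 * x2) := (show Commute g x1 from k1).mul_right k2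
  have h5 := h3.mul_right h4
  rw [← e3] at h5
  exact h5

/-- the upper unitriangular families commute -/
theorem up_comm (b c : Fin k → F) : ((fun i => up (b i)) * fun i => up (c i)) =
    ((fun i => up (c i)) * fun i => up (b i)) := by
  funext i
  rw [Pi.mul_apply, Pi.mul_apply, up_mul, up_mul, add_comm]

/-- the entry of an upper unitriangular element -/
theorem up_entry {g : G} {b : Fin k → F} (hA : ActsSL M.e V D g fun i => up (b i)) {w : G} (hw : w ∈ V) {i : Fin k}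
    (hwi : M.e w i = ![0, 1]) : M.e (g * w * g⁻¹) i 0 = b i := by
  rw [hA.1 w hw i, hwi, ap_up_0]
  simp

end Nb

end Cfsg.Agent.Omega.NO3S.ThmB

end

section


/-!
# THEOREM B: natural modules for `P'`, the smallest best offenders

`BSit` : the setting of THEOREM B over a family `BFam`.

* `Nb.one` : a smallest best offender `A` which does not centralise `V` acts on `V` as one full root group, and
  `U = V C_U(A)`: `One M U A i`.
-/

set_option autoImplicit false

namespace Cfsg.Agent.Omega.NO3S.ThmB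

open Subgroup Cfsg Cfsg.Agent.ZN Cfsg.Agent.ZN.ChoiceBase
open Cfsg.Agent.Omega.FFThm Cfsg.Agent.Omega.NatPair Cfsg.Agent.Lib.SL2Mat

universe u

variable {G : Type u} [Group G]

/-- The setting of THEOREM B over a family of best offenders. -/
structure BSit (S P P' U V L : Subgroup G) (AA : Set (Subgroup G)) : Prop extends BFam S U L AA where
  SP : S ≤ P
  SP' : S ≤ P'
  PL : P ≤ L
  PL' : P' ≤ L
  LU : L ≤ normalizer (U : Set G)
  U2 : IsElementaryAbelian 2 U
  VU : V ≤ U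
  VP' : P' ≤ normalizer (V : Set G)
  PS : ∀ A ∈ AA, ∀ g ∈ P, cj g A ≤ S
  PS' : ∀ A ∈ AA, A ≤ centralizer (V : Set G) → ∀ h ∈ P', cj h A ≤ S
  nC : ∃ A ∈ AA, ¬ A ≤ centralizer (V : Set G)
  op : ∀ N : Subgroup G, N ≤ S → P ≤ normalizer (N : Set G) → P' ≤ normalizer (N : Set G) →
    N ≤ centralizer (U : Set G)

theorem BSit.ex [Finite G] {S P P' U V L : Subgroup G} {AA : Set (Subgroup G)} (X : BSit S P P' U V L AA) :
    ∃ A, Fr V (DM U AA) A :=
  X.toBFam.DM_ex X.LU X.PL X.PL' X.VU X.PS X.PS' X.nC X.op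

theorem BSit.SU {S P P' U V L : Subgroup G} {AA : Set (Subgroup G)} (X : BSit S P P' U V L AA) :
    S ≤ normalizer (U : Set G) := (X.SP.trans X.PL).trans X.LU

/-- The `Fam` of a `BSit`. -/
theorem BSit.fam [Finite G] {S P P' U V L : Subgroup G} {AA : Set (Subgroup G)} (X : BSit S P P' U V L AA)
    (full : ∀ A, Fr V (DM U AA) A → ∀ u ∈ U, ∃ v ∈ V, ∃ c ∈ U, (∀ a ∈ A, a * c = c * a) ∧ u = v * c)
    (uq : ∀ A, Fr V (DM U AA) A → ∀ e ∈ sSup AA, (∀ v ∈ V, (∀ a ∈ A, a * v = v * a) → e * v = v * e) →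
      ∃ a ∈ A, ∀ v ∈ V, e * v * e⁻¹ = a * v * a⁻¹)
    (cJ : ∀ A, Fr V (DM U AA) A → ∀ x ∈ ⁅V, A⁆, ∀ e ∈ sSup AA, e * x = x * e) :
    Fam S P P' U V (sSup AA) (DM U AA) where
  SP := X.SP
  SP' := X.SP'
  JS := sSup_le X.le
  JP := norm_sSup fun A hA g hg => X.conj A hA g (X.PL hg) (X.PS A hA g hg)
  DJ A hA := le_sSup hA.1
  DP A hA g hg := X.toBFam.DM_P X.LU X.PL X.PS hA hg
  DP' A hA hc h hh := X.toBFam.DM_conj X.LU hA (X.PL' hh) (X.PS' A hA.1 hc h hh)
  U2 := X.U2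
  UP := X.PL.trans X.LU
  UP' := X.PL'.trans X.LU
  VU := X.VU
  VP' := X.VP'
  ex := X.ex
  full := full
  uq := uq
  cJ := cJ

/-- A map whose fibres are in cosets of `B`. -/
theorem card_le_of_map [Finite G] {α : Type} [Finite α] {A B : Subgroup G} (f : G → α)
    (hf : ∀ a ∈ A, ∀ a' ∈ A, f a = f a' → a⁻¹ * a' ∈ B) : Nat.card A ≤ Nat.card α * Nat.card B := by
  classical
  rw [← Nat.card_prod]
  have key : ∀ x : α, ∃ s : G, (∃ a ∈ A, f a = x) → s ∈ A ∧ f s = x := fun x => by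
    by_cases h : ∃ a ∈ A, f a = x
    · obtain ⟨a, ha, hx⟩ := h
      exact ⟨a, fun _ => ⟨ha, hx⟩⟩
    · exact ⟨1, fun h' => absurd h' h⟩
  choose s hs using key
  refine Nat.card_le_card_of_injective
    (fun a : A => (⟨f a, ⟨(s (f a))⁻¹ * a, ?_⟩⟩ : α × B)) fun a a' h => ?_
  · have h1 := hs (f a) ⟨a, a.2, rfl⟩
    exact hf _ h1.1 _ a.2 h1.2
  · have h1 : f a = f a' := congrArg Prod.fst h
    have h2 : (s (f a))⁻¹ * (a : G) = (s (f a'))⁻¹ * a' := congrArg (fun t : α × B => (t.2 : G)) h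
    rw [h1] at h2
    exact Subtype.ext (mul_left_cancel h2)

variable {F : Type} [Field F] {S P' V D : Subgroup G} {k : ℕ}

/-- `A` acts as the root group of the `i`-th summand. -/
structure One (M : NatKM F S P' V D k) (U A : Subgroup G) (i : Fin k) : Prop where
  act : ∀ a ∈ A, ∃ β, ActsSL M.e V D a (sg i (up β))
  all : ∀ β, ∃ a ∈ A, ActsSL M.e V D a (sg i (up β))
  full : ∀ u ∈ U, ∃ v ∈ V, (∀ l, l ≠ i → M.e v l = 0) ∧ ∃ c ∈ U, (∀ a ∈ A, a * c = c * a) ∧ u = v * c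
  cen : ∀ v ∈ V, (∀ a ∈ A, a * v = v * a) ↔ M.e v i 1 = 0

namespace Nb

variable {M : NatKM F S P' V D k} (h : Nb M)

include h

/-- the elements of `A` which are trivial on the `i`-th coordinate -/
def Ai (M : NatKM F S P' V D k) (A : Subgroup G) (hA : A ≤ P') (hV : P' ≤ normalizer (V : Set G)) (i : Fin k) :
    Subgroup G where
  carrier := {a | a ∈ A ∧ ∀ v ∈ V, M.e (a * v * a⁻¹) i = M.e v i}
  mul_mem' := by
    rintro a b ⟨ha, ha'⟩ ⟨hb, hb'⟩
    refine ⟨mul_mem ha hb, fun v hv => ?_⟩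
    have e : a * b * v * (a * b)⁻¹ = a * (b * v * b⁻¹) * a⁻¹ := by group
    rw [e, ha' _ (conj_mem hV (hA hb) hv), hb' v hv]
  one_mem' := ⟨one_mem _, fun v _ => by simp⟩
  inv_mem' := by
    rintro a ⟨ha, ha'⟩
    refine ⟨inv_mem ha, fun v hv => ?_⟩
    have h1 := ha' _ (conj_mem hV (inv_mem (hA ha)) hv)
    have e : a * (a⁻¹ * v * a⁻¹⁻¹) * a⁻¹ = v := by group
    rw [e] at h1
    exact h1.symm

theorem one [Finite G] [Finite F] [CharP F 2] {P U L : Subgroup G} {AA : Set (Subgroup G)}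
    (X : BSit S P P' U V L AA) {A : Subgroup G} (hA : Fr V (DM U AA) A) : ∃ i, One M U A i := by
  have hAS : A ≤ S := X.le A hA.1.1
  have hAP : A ≤ P' := hAS.trans h.SP'
  obtain ⟨I, hI1, hI2⟩ := M.offM A hAS (X.toBFam.offM X.U2 X.VU hA.1.1 hA.2)
  -- `I` is not empty
  obtain ⟨i, hi⟩ : I.Nonempty := by
    by_contra hne
    rw [Set.not_nonempty_iff_eq_empty] at hne
    refine hA.2 fun a ha => mem_centralizer_iff.2 fun v hv => ?_
    obtain ⟨b, hb, hab⟩ := hI1 a ha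
    have e : (fun i => up (b i)) = (1 : Fin k → Matrix.SpecialLinearGroup (Fin 2) F) := by
      funext l
      rw [hb l (by rw [hne]; exact fun h => h), up_zero]
      rfl
    rw [e] at hab
    exact (h.comm_of_one (hAP ha) hab hv).symm
  -- the element `a` with entry 1
  classical
  have hsg : ∀ l ∈ I, ∀ β, ∃ a ∈ A, ActsSL M.e V D a (sg l (up β)) := fun l hl β => by
    obtain ⟨a, ha, hab⟩ := hI2 (Function.update 0 l β) fun j hj => by
      rw [Function.update_of_ne (fun e => hj (by rw [e]; exact hl))]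
      rfl
    refine ⟨a, ha, ?_⟩
    have e : (fun j => up (Function.update (0 : Fin k → F) l β j)) = sg l (up β) := by
      funext j
      by_cases hj : j = l
      · rw [hj, Function.update_self, sg_self]
      · rw [Function.update_of_ne hj, sg_ne hj, Pi.zero_apply, up_zero]
    rwa [e] at hab
  -- `C_V(A)` is in `{e v i 1 = 0}`
  have hcen : ∀ v ∈ V, (∀ a ∈ A, a * v = v * a) → M.e v i 1 = 0 := fun v hv hc => by
    obtain ⟨a, ha, hab⟩ := hsg i hi 1
    have h1 := hab.1 v hv i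
    rw [sg_self] at h1
    have h2 : a * v * a⁻¹ = v := by rw [hc a ha]; group
    have h3 := congrFun h1 0
    rw [h2, ap_up_0, one_mul] at h3
    exact left_eq_add.1 h3
  obtain ⟨w0, hw0, hw0i, hw0l⟩ := exists_single M i ![0, 1]
  let B := Ai M A hAP h.VP' i
  have hBA : B ≤ A := fun a ha => ha.1
  -- entries
  have hent : ∀ a ∈ A, ∃ b : Fin k → F, (∀ l, l ∉ I → b l = 0) ∧ ActsSL M.e V D a (fun l => up (b l)) ∧
      M.e (a * w0 * a⁻¹) i 0 = b i := fun a ha => by
    obtain ⟨b, hb, hab⟩ := hI1 a ha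
    exact ⟨b, hb, hab, h.up_entry hab hw0 hw0i⟩
  have hBb : ∀ a ∈ A, ∀ b : Fin k → F, ActsSL M.e V D a (fun l => up (b l)) → (a ∈ B ↔ b i = 0) := by
    intro a ha b hab
    constructor
    · intro haB
      have h1 := haB.2 w0 hw0
      have h2 := h.up_entry hab hw0 hw0i
      rw [h1, hw0i] at h2
      exact h2.symm
    · intro h0
      refine ⟨ha, fun v hv => ?_⟩
      have h1 := hab.1 v hv i
      simp only [h0, up_zero, ap_one] at h1
      exact h1
  have h1B : A ⊓ centralizer (U : Set G) ≤ B := fun a ha => by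
    refine ⟨ha.1, fun v hv => ?_⟩
    have h1 : a * v * a⁻¹ = v := by
      rw [← (mem_centralizer_iff.1 ha.2 v (X.VU hv))]
      group
    rw [h1]
  have hBne : B ≠ A := fun e => by
    obtain ⟨a, ha, hab⟩ := hsg i hi 1
    have haB : a ∈ B := by rw [e]; exact ha
    have h1 := haB.2 w0 hw0
    have h2 := hab.1 w0 hw0 i
    rw [h1, sg_self, hw0i] at h2
    have h3 := congrFun h2 0
    rw [ap_up_0] at h3
    simp at h3
  -- `B` centralises the `i`-th summand
  have hBV : ∀ a ∈ B, ∀ v ∈ V, (∀ l, l ≠ i → M.e v l = 0) → a * v = v * a := by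
    intro a ha v hv hvl
    obtain ⟨b, hb, hab⟩ := hI1 a ha.1
    have h0 := (hBb a ha.1 b hab).1 ha
    exact h.dir (hAP ha.1) hab (by simp only [h0, up_zero]) hv hvl
  -- `|A| ≤ |F| |B|`
  have hcA : Nat.card A ≤ Nat.card F * Nat.card B := by
    refine card_le_of_map (fun a => M.e (a * w0 * a⁻¹) i 0) fun a ha a' ha' he => ?_
    obtain ⟨b, hb, hab, hbi⟩ := hent a ha
    obtain ⟨b', hb', hab', hbi'⟩ := hent a' ha'
    have h1 : b i = b' i := by rw [← hbi, ← hbi']; exact he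
    have h2 := h.acts_mul (hAP ha') (h.acts_inv (hAP ha) hab) hab'
    have e : ((fun l => up (b l))⁻¹ * fun l => up (b' l)) = fun l => up (-(b l) + b' l) := by
      funext l
      rw [Pi.mul_apply, Pi.inv_apply, up_inv, up_mul]
    rw [e] at h2
    exact (hBb _ (mul_mem (inv_mem ha) ha') _ h2).2 (by rw [h1, neg_add_cancel])
  -- the elements `w x`
  have hw : ∀ x : F, ∃ w ∈ V, M.e w i = ![0, x] ∧ ∀ l, l ≠ i → M.e w l = 0 := fun x => exists_single M i _
  choose w hwV hwi hwl using hw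
  have hinj : ∀ x c y d, c ∈ U → (∀ a ∈ A, a * c = c * a) → d ∈ U → (∀ a ∈ A, a * d = d * a) →
      w x * c = w y * d → x = y ∧ c = d := by
    intro x c y d hc hca hd hda e
    have h1 : (w y)⁻¹ * w x = d * c⁻¹ := by
      calc (w y)⁻¹ * w x = (w y)⁻¹ * (w x * c) * c⁻¹ := by group
        _ = (w y)⁻¹ * (w y * d) * c⁻¹ := by rw [e]
        _ = d * c⁻¹ := by group
    have h2 := hcen _ (mul_mem (inv_mem (hwV y)) (hwV x)) (fun a ha => by
      rw [h1]
      exact (show Commute a d from hda a ha).mul_right ((show Commute a c from hca a ha).inv_right))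
    rw [M.mul _ (inv_mem (hwV y)) _ (hwV x), h.e_inv (hwV y), Pi.add_apply, Pi.add_apply, hwi, hwi] at h2
    simp only [Matrix.cons_val_one, Matrix.cons_val_zero] at h2
    have h3 : x = y := by
      rw [add_comm] at h2
      exact CharTwo.add_eq_zero.1 h2
    refine ⟨h3, ?_⟩
    rw [h3] at e
    exact mul_left_cancel e
  have hcU : Nat.card F * Nat.card ↥(U ⊓ centralizer (A : Set G)) ≤ Nat.card ↥(U ⊓ centralizer (B : Set G)) := by
    rw [← Nat.card_prod]
    refine Nat.card_le_card_of_injective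
      (fun p : F × ↥(U ⊓ centralizer (A : Set G)) =>
        (⟨w p.1 * p.2, mul_mem ?_ ?_⟩ : ↥(U ⊓ centralizer (B : Set G)))) fun p q e => ?_
    · exact ⟨X.VU (hwV _), mem_centralizer_iff.2 fun a ha => hBV a ha _ (hwV _) (hwl _)⟩
    · exact ⟨p.2.2.1, mem_centralizer_iff.2 fun a ha => mem_centralizer_iff.1 p.2.2.2 a (hBA ha)⟩
    · have h1 := hinj p.1 p.2 q.1 q.2 p.2.2.1 (mem_centralizer_iff.1 p.2.2.2) q.2.2.1
        (mem_centralizer_iff.1 q.2.2.2) (congrArg Subtype.val e)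
      exact Prod.ext h1.1 (Subtype.ext h1.2)
  have hBU : B ≤ centralizer (U : Set G) := by
    refine X.toBFam.min_cut X.SU hA.1 h1B hBA hBne ?_
    calc Nat.card A * Nat.card ↥(U ⊓ centralizer (A : Set G)) ≤
        Nat.card F * Nat.card B * Nat.card ↥(U ⊓ centralizer (A : Set G)) := Nat.mul_le_mul_right _ hcA
      _ = Nat.card B * (Nat.card F * Nat.card ↥(U ⊓ centralizer (A : Set G))) := by ring
      _ ≤ _ := Nat.mul_le_mul_left _ hcU
  have hUB : U ⊓ centralizer (B : Set G) = U := inf_eq_left.2 (le_centralizer_iff.1 hBU)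
  -- `|U| ≤ |F| |C_U(A)|`
  have hUc : Nat.card U ≤ Nat.card F * Nat.card ↥(U ⊓ centralizer (A : Set G)) := by
    have h1 := X.best A hA.1.1 B h1B hBA
    rw [hUB] at h1
    have hp : 0 < Nat.card B := Nat.card_pos
    refine Nat.le_of_mul_le_mul_left ?_ hp
    calc Nat.card B * Nat.card U ≤ Nat.card A * Nat.card ↥(U ⊓ centralizer (A : Set G)) := h1
      _ ≤ Nat.card F * Nat.card B * Nat.card ↥(U ⊓ centralizer (A : Set G)) := Nat.mul_le_mul_right _ hcA
      _ = _ := by ring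
  have hfull : ∀ u ∈ U, ∃ x c, c ∈ U ∧ (∀ a ∈ A, a * c = c * a) ∧ u = w x * c := by
    let f : F × ↥(U ⊓ centralizer (A : Set G)) → U := fun p => ⟨w p.1 * p.2, mul_mem (X.VU (hwV _)) p.2.2.1⟩
    have hf : Function.Injective f := fun p q e => by
      have h1 := hinj p.1 p.2 q.1 q.2 p.2.2.1 (mem_centralizer_iff.1 p.2.2.2) q.2.2.1
        (mem_centralizer_iff.1 q.2.2.2) (congrArg Subtype.val e)
      exact Prod.ext h1.1 (Subtype.ext h1.2)
    have hb := hf.bijective_of_nat_card_le (by rw [Nat.card_prod]; exact hUc)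
    intro u hu
    obtain ⟨p, hp⟩ := hb.2 ⟨u, hu⟩
    exact ⟨p.1, p.2, p.2.2.1, mem_centralizer_iff.1 p.2.2.2, (congrArg Subtype.val hp).symm⟩
  refine ⟨i, fun a ha => ?_, hsg i hi, fun u hu => ?_, fun v hv => ⟨hcen v hv, fun h0 => ?_⟩⟩
  · -- `I = {i}`
    obtain ⟨b, hb, hab⟩ := hI1 a ha
    refine ⟨b i, ?_⟩
    have e : (fun l => up (b l)) = sg i (up (b i)) := by
      refine eq_sg (A := fun l => up (b l)) fun l hl => ?_
      by_cases hlI : l ∈ I
      · exfalso
        obtain ⟨a', ha', hab'⟩ := hsg l hlI 1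
        have haB : a' ∈ B := by
          refine ⟨ha', fun v hv => ?_⟩
          rw [hab'.1 v hv i, sg_ne (fun e => hl e.symm), ap_one]
        obtain ⟨w1, hw1, hw1l, -⟩ := exists_single M l ![0, 1]
        have h2 := mem_centralizer_iff.1 (hBU haB) w1 (X.VU hw1)
        have h3 : a' * w1 * a'⁻¹ = w1 := by rw [← h2]; group
        have h4 := congrFun (hab'.1 w1 hw1 l) 0
        rw [h3, sg_self, hw1l, ap_up_0] at h4
        simp at h4
      · simp only [hb l hlI, up_zero]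
    rwa [e] at hab
  · obtain ⟨x, c, hc, hca, e⟩ := hfull u hu
    exact ⟨w x, hwV x, hwl x, c, hc, hca, e⟩
  · obtain ⟨x, c, hc, hca, e⟩ := hfull v (X.VU hv)
    have hcV : c ∈ V := by
      have h1 : c = (w x)⁻¹ * v := by rw [e]; group
      rw [h1]
      exact mul_mem (inv_mem (hwV x)) hv
    have h1 := hcen c hcV hca
    have h2 := congrFun (congrFun (M.mul _ (hwV x) _ hcV) i) 1
    rw [← e, h0, Pi.add_apply, Pi.add_apply, h1, hwi] at h2
    have h3 : x = 0 := by simpa using h2.symm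
    have h4 : w x ∈ D := by
      rw [← M.ker _ (hwV x)]
      funext l
      by_cases hl : l = i
      · rw [hl, hwi, h3]
        refine vec_eq ?_ ?_ <;> simp
      · exact hwl x l hl
    intro a ha
    obtain ⟨b, -, hab⟩ := hI1 a ha
    rw [e]
    exact (show Commute a (w x) from hab.2 _ h4).mul_right (hca a ha)

end Nb

end Cfsg.Agent.Omega.NO3S.ThmB

end

section


/-!
# THEOREM B: natural modules for `P'`, the fields of `Fam` and `TrHyp`

* `Nb.fam` : `Fam`;
* `Nb.commutator` : the elements of `[V, A]`;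
* `Nb.hk` : an element of `V` which is centralised by `KK` is in `D`;
* `Nb.orb`, `Nb.n0`, `Nb.mv` : fields of `TrHyp`;
* `Nb.fix` : **(B1)** for `|F| = 2`.
-/

set_option autoImplicit false

namespace Cfsg.Agent.Omega.NO3S.ThmB

open Subgroup Cfsg Cfsg.Agent.ZN Cfsg.Agent.ZN.ChoiceBase
open Cfsg.Agent.Omega.FFThm Cfsg.Agent.Omega.NatPair Cfsg.Agent.Lib.SL2Mat

universe u

variable {G : Type u} [Group G] {F : Type} [Field F] {S P' V D : Subgroup G} {k : ℕ}

namespace Nb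

variable {M : NatKM F S P' V D k} (h : Nb M)

include h

/-- the elements of `P'` which act as upper unitriangular families -/
def upG : Subgroup G where
  carrier := {g | g ∈ P' ∧ ∃ b : Fin k → F, ActsSL M.e V D g fun i => up (b i)}
  mul_mem' := by
    rintro a b ⟨ha, x, hx⟩ ⟨hb, y, hy⟩
    refine ⟨mul_mem ha hb, x + y, ?_⟩
    have h1 := h.acts_mul hb hx hy
    have e : ((fun i => up (x i)) * fun i => up (y i)) = fun i => up ((x + y) i) := by
      funext l
      rw [Pi.mul_apply, up_mul, Pi.add_apply]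
    rwa [e] at h1
  one_mem' := by
    refine ⟨one_mem _, 0, ?_⟩
    have e : (fun i => up ((0 : Fin k → F) i)) = (1 : Fin k → Matrix.SpecialLinearGroup (Fin 2) F) := by
      funext l
      rw [Pi.zero_apply, up_zero]
      rfl
    rw [e]
    exact acts_one
  inv_mem' := by
    rintro a ⟨ha, x, hx⟩
    refine ⟨inv_mem ha, -x, ?_⟩
    have h1 := h.acts_inv ha hx
    have e : (fun i => up (x i))⁻¹ = fun i => up ((-x) i) := by
      funext l
      rw [Pi.inv_apply, up_inv, Pi.neg_apply]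
    rwa [e] at h1

theorem upact [Finite G] {P U L : Subgroup G} {AA : Set (Subgroup G)} (X : BSit S P P' U V L AA) {g : G}
    (hg : g ∈ sSup AA) : g ∈ P' ∧ ∃ b : Fin k → F, ActsSL M.e V D g fun i => up (b i) := by
  have h1 : sSup AA ≤ h.upG := by
    refine sSup_le fun A hA => ?_
    intro a ha
    refine ⟨h.SP' (X.le A hA ha), ?_⟩
    by_cases hc : A ≤ centralizer (V : Set G)
    · refine ⟨0, fun v hv i => ?_, fun d hd => (mem_centralizer_iff.1 (hc ha) d (h.DV hd)).symm⟩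
      have e : a * v * a⁻¹ = v := by
        rw [← mem_centralizer_iff.1 (hc ha) v hv]
        group
      rw [e]
      simp only [Pi.zero_apply, up_zero, ap_one]
    · obtain ⟨I, hI1, -⟩ := M.offM A (X.le A hA) (X.toBFam.offM X.U2 X.VU hA hc)
      obtain ⟨b, -, hb⟩ := hI1 a ha
      exact ⟨b, hb⟩
  exact h1 hg

omit h in
theorem sg_up (i : Fin k) (b : Fin k → F) (hb : ∀ l, l ≠ i → b l = 0) : (fun l => up (b l)) = sg i (up (b i)) :=
  eq_sg (A := fun l => up (b l)) fun l hl => by simp only [hb l hl, up_zero]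

omit h in
/-- the `i`-th part of the commutator -/
theorem one_comm_elem {U A : Subgroup G} {i : Fin k} (O : One M U A i) (VU : V ≤ U) {v a : G} (hv : v ∈ V)
    (ha : a ∈ A) : ∃ w ∈ V, (∀ l, l ≠ i → M.e w l = 0) ∧ M.e w i 1 = M.e v i 1 ∧ a * v * a⁻¹ * v⁻¹ = a * w * a⁻¹ * w⁻¹ := by
  obtain ⟨w, hw, hwl, c, hc, hca, e⟩ := O.full v (VU hv)
  have hcV : c ∈ V := by
    have h1 : c = w⁻¹ * v := by rw [e]; group
    rw [h1]
    exact mul_mem (inv_mem hw) hv
  have h0 : M.e c i 1 = 0 := (O.cen c hcV).1 hca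
  refine ⟨w, hw, hwl, ?_, ?_⟩
  · have h1 := congrFun (congrFun (M.mul _ hw _ hcV) i) 1
    rw [← e, Pi.add_apply, Pi.add_apply, h0, add_zero] at h1
    exact h1.symm
  · have h1 := hca a ha
    calc a * v * a⁻¹ * v⁻¹ = a * w * (c * a⁻¹ * c⁻¹) * w⁻¹ := by rw [e]; group
      _ = a * w * a⁻¹ * w⁻¹ := by
        have h2 : c * a⁻¹ * c⁻¹ = a⁻¹ := by
          calc c * a⁻¹ * c⁻¹ = a⁻¹ * (a * c) * a⁻¹ * c⁻¹ := by group
            _ = a⁻¹ * (c * a) * a⁻¹ * c⁻¹ := by rw [h1]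
            _ = a⁻¹ := by group
        rw [h2]

/-- an upper unitriangular element centralises `[v, a]` -/
theorem up_cen {U A : Subgroup G} (hA : A ≤ S) {i : Fin k} (O : One M U A i) (VU : V ≤ U) {g : G} (hg : g ∈ P')
    {b : Fin k → F} (hb : ActsSL M.e V D g fun l => up (b l)) {v a : G} (hv : v ∈ V) (ha : a ∈ A) :
    g * (a * v * a⁻¹ * v⁻¹) = (a * v * a⁻¹ * v⁻¹) * g := by
  obtain ⟨w, hw, hwl, -, e⟩ := one_comm_elem O VU hv ha
  rw [e]
  obtain ⟨β, hβ⟩ := O.act a ha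
  have haP := h.SP' (hA ha)
  have e1 : sg i (up β) = fun l => up ((Function.update (0 : Fin k → F) i β) l) := by
    have := sg_up i (Function.update (0 : Fin k → F) i β) fun l hl => by rw [Function.update_of_ne hl]; rfl
    rw [this, Function.update_self]
  have h1 : g * (a * w * a⁻¹) * g⁻¹ = a * (g * w * g⁻¹) * a⁻¹ := by
    refine h.swap hg haP hb hβ ?_ hw
    rw [e1]
    exact h.up_comm _ _
  -- `g w g⁻¹ w⁻¹` is centralised by `a`
  have hm : g * w * g⁻¹ * w⁻¹ ∈ V := mul_mem (h.memV hg hw) (inv_mem hw)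
  have h2 : a * (g * w * g⁻¹ * w⁻¹) = (g * w * g⁻¹ * w⁻¹) * a := by
    refine (O.cen _ hm).2 ?_ a ha
    rw [h.e_div (h.memV hg hw) hw, Pi.add_apply, Pi.add_apply, hb.1 w hw i, ap_up_1]
    have h3 := h.sq hw
    have h4 := M.mul w hw w hw
    rw [h3, e_one] at h4
    exact (congrFun (congrFun h4 i) 1).symm
  have h3 : g * (a * w * a⁻¹ * w⁻¹) * g⁻¹ = a * w * a⁻¹ * w⁻¹ := by
    calc g * (a * w * a⁻¹ * w⁻¹) * g⁻¹ = (g * (a * w * a⁻¹) * g⁻¹) * (g * w * g⁻¹)⁻¹ := by group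
      _ = a * (g * w * g⁻¹) * a⁻¹ * (g * w * g⁻¹)⁻¹ := by rw [h1]
      _ = (a * (g * w * g⁻¹ * w⁻¹)) * w * a⁻¹ * (g * w * g⁻¹)⁻¹ := by group
      _ = (g * w * g⁻¹ * w⁻¹) * (a * w * a⁻¹) * (g * w * g⁻¹)⁻¹ := by rw [h2]; group
      _ = (a * w * a⁻¹) * (g * w * g⁻¹ * w⁻¹) * (g * w * g⁻¹)⁻¹ := by rw [h.cm hm (h.memV haP hw)]
      _ = (a * w * a⁻¹) * ((g * w * g⁻¹) * w⁻¹ * (g * w * g⁻¹)⁻¹) := by group
      _ = (a * w * a⁻¹) * (w⁻¹ * (g * w * g⁻¹) * (g * w * g⁻¹)⁻¹) := by rw [h.cm (h.memV hg hw) (inv_mem hw)]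
      _ = _ := by group
  exact mul_inv_eq_iff_eq_mul.1 h3

theorem up_cen_comm {U A : Subgroup G} (hA : A ≤ S) {i : Fin k} (O : One M U A i) (VU : V ≤ U) {g : G} (hg : g ∈ P')
    {b : Fin k → F} (hb : ActsSL M.e V D g fun l => up (b l)) {x : G} (hx : x ∈ ⁅V, A⁆) : g * x = x * g := by
  have h1 : ⁅V, A⁆ ≤ centralizer ({g} : Set G) := comm_le fun v hv a ha => by
    rw [mem_centralizer_iff]
    intro y hy
    rw [Set.mem_singleton_iff] at hy
    rw [hy]
    have h2 := h.up_cen hA O VU hg hb hv ha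
    have e : v * a * v⁻¹ * a⁻¹ = (a * v * a⁻¹ * v⁻¹)⁻¹ := by group
    rw [e]
    exact ((show Commute g _ from h2).inv_right)
  exact mem_centralizer_iff.1 (h1 hx) g rfl

/-- **the family of `THEOREM B`** -/
theorem fam [Finite G] [Finite F] [CharP F 2] {P U L : Subgroup G} {AA : Set (Subgroup G)}
    (X : BSit S P P' U V L AA) : Fam S P P' U V (sSup AA) (DM U AA) := by
  refine X.fam (fun A hA u hu => ?_) (fun A hA g hg hc => ?_) (fun A hA x hx g hg => ?_)
  · obtain ⟨i, O⟩ := h.one X hA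
    obtain ⟨v, hv, -, c, hc, hca, e⟩ := O.full u hu
    exact ⟨v, hv, c, hc, hca, e⟩
  · obtain ⟨i, O⟩ := h.one X hA
    obtain ⟨hgP, b, hb⟩ := h.upact X hg
    have hb0 : ∀ l, l ≠ i → b l = 0 := fun l hl => by
      obtain ⟨w, hw, hwl, hwj⟩ := exists_single M l ![0, 1]
      have h1 : g * w = w * g := by
        refine hc w hw ((O.cen w hw).2 ?_)
        rw [hwj i (Ne.symm hl)]
        rfl
      have h2 := h.up_entry hb hw hwl
      have h3 : g * w * g⁻¹ = w := by rw [h1]; group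
      rw [h3, hwl] at h2
      exact h2.symm
    obtain ⟨a, ha, hab⟩ := O.all (b i)
    refine ⟨a, ha, fun v hv => ?_⟩
    rw [sg_up i b hb0] at hb
    exact h.same hgP (h.SP' (X.le A hA.1.1 ha)) hb hab hv
  · obtain ⟨i, O⟩ := h.one X hA
    obtain ⟨hgP, b, hb⟩ := h.upact X hg
    exact h.up_cen_comm (X.le A hA.1.1) O X.VU hgP hb hx

/-! ### `[V, A]` -/

theorem e_comm {A : Subgroup G} (hA : A ≤ S) {i : Fin k} {U : Subgroup G} (O : One M U A i) {x : G} (hx : x ∈ ⁅V, A⁆) :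
    x ∈ V ∧ (∀ l, l ≠ i → M.e x l = 0) ∧ M.e x i 1 = 0 := by
  let K : Subgroup G :=
    { carrier := {x | x ∈ V ∧ (∀ l, l ≠ i → M.e x l = 0) ∧ M.e x i 1 = 0}
      mul_mem' := by
        rintro a b ⟨ha, ha1, ha2⟩ ⟨hb, hb1, hb2⟩
        refine ⟨mul_mem ha hb, fun l hl => ?_, ?_⟩
        · rw [M.mul a ha b hb, Pi.add_apply, ha1 l hl, hb1 l hl, add_zero]
        · rw [M.mul a ha b hb, Pi.add_apply, Pi.add_apply, ha2, hb2, add_zero]
      one_mem' := ⟨one_mem _, fun l _ => by rw [e_one]; rfl, by rw [e_one]; rfl⟩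
      inv_mem' := by
        rintro a ⟨ha, ha1, ha2⟩
        refine ⟨inv_mem ha, fun l hl => ?_, ?_⟩
        · rw [h.e_inv ha, ha1 l hl]
        · rw [h.e_inv ha, ha2] }
  have h1 : ⁅V, A⁆ ≤ K := comm_le fun v hv a ha => by
    obtain ⟨β, hβ⟩ := O.act a ha
    have e : v * a * v⁻¹ * a⁻¹ = (a * v * a⁻¹ * v⁻¹)⁻¹ := by group
    rw [e]
    refine inv_mem (show a * v * a⁻¹ * v⁻¹ ∈ K from ?_)
    have hm := h.memV (h.SP' (hA ha)) hv
    have hs : M.e v + M.e v = 0 := by rw [← M.mul v hv v hv, h.sq hv, e_one]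
    refine ⟨mul_mem hm (inv_mem hv), fun l hl => ?_, ?_⟩
    · rw [h.e_div hm hv, Pi.add_apply, hβ.1 v hv l, sg_ne hl, ap_one]
      exact congrFun hs l
    · rw [h.e_div hm hv, Pi.add_apply, Pi.add_apply, hβ.1 v hv i, sg_self, ap_up_1]
      exact congrFun (congrFun hs i) 1
  exact h1 hx

/-- an element of `[V, A]` with a given entry -/
theorem exists_comm [CharP F 2] {A : Subgroup G} (hA : A ≤ S) {i : Fin k} {U : Subgroup G} (O : One M U A i) (β : F) :
    ∃ x ∈ ⁅V, A⁆, M.e x i 0 = β := by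
  obtain ⟨w, hw, hwi, -⟩ := exists_single M i ![0, 1]
  obtain ⟨a, ha, hab⟩ := O.all β
  refine ⟨a * w * a⁻¹ * w⁻¹, ?_, ?_⟩
  · have h1 := mem_comm hw ha
    have e : a * w * a⁻¹ * w⁻¹ = (w * a * w⁻¹ * a⁻¹)⁻¹ := by group
    rw [e]
    exact inv_mem h1
  · rw [h.e_div (h.memV (h.SP' (hA ha)) hw) hw, Pi.add_apply, Pi.add_apply, hab.1 w hw i, sg_self, hwi, ap_up_0]
    simp

/-- the index of a conjugate -/
theorem idx_conj {B : Subgroup G} {U : Subgroup G} {i j j' : Fin k} (O : One M U B i) {s : G} (hs : s ∈ S)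
    (hsj : ∀ v ∈ V, M.e (s * v * s⁻¹) j = 0 ↔ M.e v i = 0) (O' : One M U (cj s B) j') : j' = j := by
  by_contra hne
  obtain ⟨w, hw, hwj', hwl⟩ := exists_single M j' ![0, 1]
  have hv := h.memV (inv_mem (h.SP' hs)) hw
  rw [inv_inv] at hv
  have e : s * (s⁻¹ * w * s) * s⁻¹ = w := by group
  have h1 := (hsj _ hv).1 (by rw [e]; exact hwl j (Ne.symm hne))
  have h2 : M.e (s⁻¹ * w * s) i 1 = 0 := by rw [h1]; rfl
  have h3 := (O.cen _ hv).2 h2
  have h4 := (O'.cen w hw).1 fun a ha => by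
    obtain ⟨b, hb, rfl⟩ := exists_of_mem_cj ha
    have h5 := comm_conj (g := s) (h3 b hb)
    rwa [e] at h5
  rw [hwj'] at h4
  simp at h4

section fam

variable [Finite G] [Finite F] [CharP F 2] {P U L : Subgroup G} {AA : Set (Subgroup G)} (X : BSit S P P' U V L AA)

include X

/-- every index occurs -/
theorem exists_idx {B : Subgroup G} (hB : Fr V (DM U AA) B) {i : Fin k} (O : One M U B i) (j : Fin k) :
    ∃ s ∈ S, Fr V (DM U AA) (cj s B) ∧ One M U (cj s B) j := by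
  obtain ⟨s, hs, hsj⟩ := M.trans i j
  have h1 := (h.fam X).Fr_conj_S hs hB
  obtain ⟨j', O'⟩ := h.one X h1
  have h2 := h.idx_conj O hs hsj O'
  rw [h2] at O'
  exact ⟨s, hs, h1, O'⟩

omit X [Finite G] [Finite F] [CharP F 2] in
/-- two root groups of the same index have the same commutator -/
theorem comm_eq_of_idx {B B' : Subgroup G} (hB : B ≤ S) (hB' : B' ≤ S) {i : Fin k} (O : One M U B i)
    (O' : One M U B' i) : ⁅V, B⁆ ≤ ⁅V, B'⁆ := comm_le fun v hv b hb => by
  obtain ⟨β, hβ⟩ := O.act b hb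
  obtain ⟨b', hb', hβ'⟩ := O'.all β
  have h1 := h.same (h.SP' (hB hb)) (h.SP' (hB' hb')) hβ hβ' hv
  have e : v * b * v⁻¹ * b⁻¹ = v * b' * v⁻¹ * b'⁻¹ := by
    calc v * b * v⁻¹ * b⁻¹ = v * (b * v * b⁻¹)⁻¹ := by group
      _ = v * (b' * v * b'⁻¹)⁻¹ := by rw [h1]
      _ = v * b' * v⁻¹ * b'⁻¹ := by group
  rw [e]
  exact mem_comm hv hb'

theorem orb {B : Subgroup G} (hB : Fr V (DM U AA) B) {B' : Subgroup G} (hB' : Fr V (DM U AA) B') :
    ∃ s ∈ S, cj s ⁅V, B⁆ = ⁅V, B'⁆ := by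
  obtain ⟨i, O⟩ := h.one X hB
  obtain ⟨j, O'⟩ := h.one X hB'
  obtain ⟨s, hs, h1, O1⟩ := h.exists_idx X hB O j
  refine ⟨s, hs, ?_⟩
  rw [cj_comm, cj_eq_of_mem_normalizer (h.VP' (h.SP' hs))]
  exact le_antisymm (h.comm_eq_of_idx (X.le _ h1.1.1) (X.le _ hB'.1.1) O1 O')
    (h.comm_eq_of_idx (X.le _ hB'.1.1) (X.le _ h1.1.1) O' O1)

omit h X [Finite G] [Finite F] [CharP F 2] in
theorem mem_K1 {B : Subgroup G} (hB : Fr V (DM U AA) B) {y : G} (hy : y ∈ P') {b : G} (hb : b ∈ B) :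
    y * b * y⁻¹ ∈ K1 P' V (DM U AA) := subset_closure ⟨B, hB, y, hy, mem_cj_of hb⟩

omit h X [Finite G] [Finite F] [CharP F 2] in
theorem mem_KK {B : Subgroup G} (hB : Fr V (DM U AA) B) {y : G} (hy : y ∈ K1 P' V (DM U AA)) {b : G} (hb : b ∈ B) :
    y * b * y⁻¹ ∈ KK P' V (DM U AA) := subset_closure ⟨B, hB, y, hy, mem_cj_of hb⟩

/-- **an element of `V` which is centralised by `KK` is in `D`** -/
theorem hk {v : G} (hv : v ∈ V) (hc : ∀ g ∈ KK P' V (DM U AA), g * v = v * g) : M.e v = 0 := by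
  funext i
  obtain ⟨B0, hB0⟩ := X.ex
  obtain ⟨i0, O0⟩ := h.one X hB0
  obtain ⟨s, -, hB, O⟩ := h.exists_idx X hB0 O0 i
  set B := cj s B0
  have hBP : B ≤ P' := (X.le _ hB.1.1).trans h.SP'
  obtain ⟨b, hb, hbA⟩ := O.all 1
  obtain ⟨y, hy, hyA⟩ := M.lift (sg i (wm 1 one_ne_zero))
  -- `y b y⁻¹` acts as `lo (-1)`
  have h1 : ActsSL M.e V D (y * b * y⁻¹) (sg i (lo (-1))) := by
    have h2 := h.acts_mul (inv_mem hy) (h.acts_mul (hBP hb) hyA hbA) (h.acts_inv hy hyA)
    have e : sg i (wm (1 : F) one_ne_zero) * sg i (up 1) * (sg i (wm 1 one_ne_zero))⁻¹ = sg i (lo (-1)) := by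
      rw [← sg_mul, wm_up, sg_mul, mul_inv_cancel_right]
      simp
    rwa [e] at h2
  have hy1 : b * (y * b * y⁻¹) * b ∈ K1 P' V (DM U AA) := by
    have h3 := mem_K1 (P' := P') hB (one_mem _) hb
    rw [one_mul, inv_one, mul_one] at h3
    exact mul_mem (mul_mem h3 (mem_K1 hB hy hb)) h3
  have hyP : y * b * y⁻¹ ∈ P' := mul_mem (mul_mem hy (hBP hb)) (inv_mem hy)
  have h2 := h.acts_mul (hBP hb) (h.acts_mul hyP hbA h1) hbA
  have hzP : b * (y * b * y⁻¹) * b ∈ P' := mul_mem (mul_mem (hBP hb) hyP) (hBP hb)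
  set z := b * (y * b * y⁻¹) * b
  have h3 : ActsSL M.e V D (z * b * z⁻¹) (sg i (lo (-1))) := by
    have h4 := h.acts_mul (inv_mem hzP) (h.acts_mul (hBP hb) h2 hbA) (h.acts_inv hzP h2)
    have e : sg i (up (1 : F)) * sg i (lo (-1)) * sg i (up 1) * sg i (up 1) *
        (sg i (up (1 : F)) * sg i (lo (-1)) * sg i (up 1))⁻¹ = sg i (lo (-1)) := by
      rw [mul_inv_eq_iff_eq_mul, ← sg_mul, ← sg_mul, ← sg_mul, ← sg_mul]
      congr 1
      refine ext_ent ?_ ?_ ?_ ?_ <;> (simp only [ent_mul]; simp)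
    rwa [e] at h4
  have hbK := mem_KK (P' := P') hB (one_mem _) hb
  rw [one_mul, inv_one, mul_one] at hbK
  have k1 := hc b hbK
  have k2 := hc _ (mem_KK hB hy1 hb)
  have e1 : b * v * b⁻¹ = v := by rw [k1]; group
  have e2 : z * b * z⁻¹ * v * (z * b * z⁻¹)⁻¹ = v := by rw [k2]; group
  have f1 := congrFun (hbA.1 v hv i) 0
  have f2 := congrFun (h3.1 v hv i) 1
  rw [e1, sg_self, ap_up_0, one_mul] at f1
  rw [e2, sg_self, ap_lo_1] at f2
  refine vec_eq ?_ ?_
  · have : -1 * M.e v i 0 = 0 := by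
      rw [add_comm] at f2
      exact left_eq_add.1 f2
    rw [neg_one_mul, neg_eq_zero] at this
    exact this
  · exact left_eq_add.1 f1

theorem n0 {B : Subgroup G} (hB : Fr V (DM U AA) B) : ¬ ⁅V, B⁆ ≤ CK P' V (DM U AA) := fun h0 => by
  obtain ⟨i, O⟩ := h.one X hB
  obtain ⟨x, hx, hxi⟩ := h.exists_comm (X.le _ hB.1.1) O 1
  have h1 := h.hk X (h.e_comm (X.le _ hB.1.1) O hx).1 fun g hg => mem_centralizer_iff.1 (h0 hx) g hg
  rw [h1] at hxi
  exact zero_ne_one hxi

theorem mv {Z : Subgroup G} (hZV : Z ≤ V) (hZD : ¬ Z ≤ D) : ∃ z ∈ Z, z ∉ CK P' V (DM U AA) := by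
  by_contra h0
  push Not at h0
  refine hZD fun z hz => (M.ker z (hZV hz)).1 (h.hk X (hZV hz) fun g hg => mem_centralizer_iff.1 (h0 z hz) g hg)

omit X [Finite G] [Finite F] in
/-- `|F| = 2`: `[V, A]` has one element `≠ 1` -/
theorem comm_two (h2 : ∀ β : F, β = 0 ∨ β = 1) {A : Subgroup G} (hA : A ≤ S) {i : Fin k} {U : Subgroup G}
    (O : One M U A i) : ∃ x, x ∈ V ∧ M.e x i 0 = 1 ∧ ∀ y ∈ ⁅V, A⁆, y = 1 ∨ y = x := by
  obtain ⟨w, hw, hwi, -⟩ := exists_single M i ![0, 1]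
  obtain ⟨a, ha, hab⟩ := O.all 1
  have haP := h.SP' (hA ha)
  have hx : a * w * a⁻¹ * w⁻¹ ∈ V := mul_mem (h.memV haP hw) (inv_mem hw)
  refine ⟨a * w * a⁻¹ * w⁻¹, hx, ?_, ?_⟩
  · rw [h.e_div (h.memV haP hw) hw, Pi.add_apply, Pi.add_apply, hab.1 w hw i, sg_self, hwi, ap_up_0]
    simp
  · set x := a * w * a⁻¹ * w⁻¹ with hxd
    let K : Subgroup G :=
      { carrier := {y | y = 1 ∨ y = x}
        mul_mem' := by
          rintro b c (rfl | rfl) (rfl | rfl)
          · left; rw [mul_one]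
          · right; rw [one_mul]
          · right; rw [mul_one]
          · left; exact h.sq hx
        one_mem' := Or.inl rfl
        inv_mem' := by
          rintro b (rfl | rfl)
          · left; rw [inv_one]
          · right; exact h.inv_eq hx }
    have h1 : ⁅V, A⁆ ≤ K := comm_le fun v hv c hc => by
      obtain ⟨β, hβ⟩ := O.act c hc
      have hcP := h.SP' (hA hc)
      have e : v * c * v⁻¹ * c⁻¹ = (c * v * c⁻¹ * v⁻¹)⁻¹ := by group
      rw [e]
      refine inv_mem (show c * v * c⁻¹ * v⁻¹ ∈ K from ?_)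
      rcases h2 β with rfl | rfl
      · left
        rw [up_zero, sg_one] at hβ
        rw [h.comm_of_one hcP hβ hv]
        group
      · have h3 := h.same hcP haP hβ hab hv
        have h4 := h.same hcP haP hβ hab hw
        rcases h2 (M.e v i 1) with h5 | h5
        · left
          rw [(O.cen v hv).2 h5 c hc]
          group
        · right
          have hm := mul_mem hv (inv_mem hw)
          have h6 := (O.cen _ hm).2 (by
            rw [h.e_div hv hw, Pi.add_apply, Pi.add_apply, h5, hwi]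
            exact CharTwo.add_self_eq_zero _) a ha
          rw [h3, hxd]
          calc a * v * a⁻¹ * v⁻¹ = (a * (v * w⁻¹)) * w * a⁻¹ * v⁻¹ := by group
            _ = (v * w⁻¹) * a * w * a⁻¹ * v⁻¹ := by rw [h6]
            _ = (v * w⁻¹) * (a * w * a⁻¹) * v⁻¹ := by group
            _ = (a * w * a⁻¹) * (v * w⁻¹) * v⁻¹ := by rw [h.cm hm (h.memV haP hw)]
            _ = (a * w * a⁻¹) * (v * w⁻¹ * v⁻¹) := by group
            _ = (a * w * a⁻¹) * (w⁻¹ * v * v⁻¹) := by rw [h.cm hv (inv_mem hw)]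
            _ = a * w * a⁻¹ * w⁻¹ := by group
    exact fun y hy => h1 hy

/-- **(B1), natural modules over the field with two elements** -/
theorem fix (h2 : ∀ β : F, β = 0 ∨ β = 1) : ∃ z ∈ U, z ≠ 1 ∧ ∀ g ∈ P, g * z = z * g := by
  classical
  let _ : Fintype G := Fintype.ofFinite G
  refine (h.fam X).exists_fix M.e M.mul (fun v hv hc => h.hk X hv hc) fun h0 => ?_
  obtain ⟨B, hB⟩ := X.ex
  obtain ⟨i, O⟩ := h.one X hB
  obtain ⟨x, hx, hxi, hxy⟩ := h.comm_two h2 (X.le _ hB.1.1) O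
  have h3 := congrFun (congrFun h0 i) 0
  rw [Finset.sum_apply, Finset.sum_apply, Finset.sum_eq_single x] at h3
  · rw [hxi] at h3
    exact one_ne_zero h3
  · intro y hy hyx
    obtain ⟨hy1, B', hB', hyB⟩ := (Finset.mem_filter.1 hy).2
    obtain ⟨j, O'⟩ := h.one X hB'
    by_cases hj : j = i
    · exfalso
      rw [hj] at O'
      have h4 := h.comm_eq_of_idx (X.le _ hB'.1.1) (X.le _ hB.1.1) O' O hyB
      rcases hxy y h4 with h5 | h5
      · exact hy1 h5
      · exact hyx h5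
    · rw [(h.e_comm (X.le _ hB'.1.1) O' hyB).2.1 i (fun e => hj e.symm)]
      rfl
  · intro hn
    exfalso
    apply hn
    obtain ⟨y, hy, hyi⟩ := h.exists_comm (X.le _ hB.1.1) O 1
    rcases hxy y hy with h5 | h5
    · rw [h5, e_one] at hyi
      exact absurd hyi zero_ne_one
    · rw [← h5]
      refine Finset.mem_filter.2 ⟨Finset.mem_univ _, fun h6 => ?_, B, hB, hy⟩
      rw [h6, e_one] at hyi
      exact zero_ne_one hyi

end fam

end Nb

end Cfsg.Agent.Omega.NO3S.ThmB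

end
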