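import Cfsg.Agent.Mrg.Omega.NO3S.ThmB.Fam
import Cfsg.Agent.Mrg.Omega.NO3S.ThmB.End.NatIdx


/-!
# THEOREM B, (7), natural case: `N_P(S)` is transitive on `Z#`

`W` is a sum of natural `SL₂(F)`-modules for `P` (`NatK F S P W ⊥ k`), `S` is a Sylow 2-subgroup of `P` and
`Z = W ∩ C(S)`.  The fields `fx`, `nZ`, `tr` of `TrHyp`.

`tr`: the components of `z ∈ Z#` are nonzero and lie on the lines `x 1 = 0`; for `z, z' ∈ Z#` let `t ∈ P` act as the
family `dg (z'_i / z_i)`.  Then `S^t ≤ S C_P(W)`, and Sylow's theorem in `S C_P(W)` gives `c ∈ C_P(W)` with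
`c t ∈ N_P(S)`.
-/

set_option autoImplicit false

namespace Cfsg.Agent.Omega.NO3S.ThmB.TrNat

open Subgroup Cfsg Cfsg.Agent.ZN Cfsg.Agent.ZN.ChoiceBase Cfsg.Agent.ZN.ChoiceSit
open Cfsg.Agent.Omega.FFThm Cfsg.Agent.Omega.NO3S.ThmB.End.NatIdx
open Cfsg.Agent.Omega.NatPair (ap ap_mul ap_one ap_inv_ap ap_ap_inv ap_inj ap_zero' ap_one' ext2)
open Cfsg.Agent.Lib.SL2Mat

universe u

variable {G : Type u} [Group G]

/-- a 2-group fixes a nontrivial element of a nontrivial 2-group -/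
theorem exists_fixed [Finite G] {S M : Subgroup G} (hS : IsPGroup 2 S) (hM : IsPGroup 2 M)
    (hSM : S ≤ normalizer (M : Set G)) (hne : M ≠ ⊥) : ∃ d ∈ M, d ≠ 1 ∧ ∀ s ∈ S, s * d = d * s := by
  have : Fact (Nat.Prime 2) := ⟨Nat.prime_two⟩
  let _ : MulAction S M :=
    { smul := fun s d => ⟨(s : G) * d * (s : G)⁻¹, (mem_normalizer_iff.1 (hSM s.2) d).1 d.2⟩
      one_smul := fun d => Subtype.ext (by
        show (1 : G) * d * (1 : G)⁻¹ = d
        group)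
      mul_smul := fun s t d => Subtype.ext (by
        show (s : G) * t * d * ((s : G) * t)⁻¹ = (s : G) * ((t : G) * d * (t : G)⁻¹) * (s : G)⁻¹
        group) }
  have h2 : 2 ∣ Nat.card M := by
    obtain ⟨n, hn⟩ := IsPGroup.iff_card.1 hM
    rw [hn]
    have : n ≠ 0 := by
      rintro rfl
      rw [pow_zero] at hn
      exact hne (Subgroup.card_eq_one.1 hn)
    exact dvd_pow_self 2 this
  obtain ⟨d, hd, hd1⟩ := hS.exists_fixed_point_of_prime_dvd_card_of_fixed_point M h2 (a := 1) (by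
    intro s
    apply Subtype.ext
    show (s : G) * (1 : G) * (s : G)⁻¹ = 1
    group)
  refine ⟨d, d.2, fun e => hd1 (Subtype.ext e.symm), fun s hs => ?_⟩
  have h3 : (⟨s, hs⟩ : S) • d = d := hd _
  have h4 : s * (d : G) * s⁻¹ = d := congrArg Subtype.val h3
  exact mul_inv_eq_iff_eq_mul.1 h4

/-- the field `fx` -/
theorem fx [Finite G] {S W : Subgroup G} (hS : IsPGroup 2 S) (hW : IsPGroup 2 W) :
    ∀ M : Subgroup G, M ≤ W → S ≤ normalizer (M : Set G) → M ≠ ⊥ →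
      ∃ z ∈ M, z ∈ W ⊓ centralizer (S : Set G) ∧ z ≠ 1 := by
  intro M hM hSM hne
  obtain ⟨d, hd, hd1, hc⟩ := exists_fixed hS (hW.to_le hM) hSM hne
  exact ⟨d, hd, ⟨hM hd, mem_centralizer_iff.2 hc⟩, hd1⟩

/-- the field `nZ` -/
theorem nZ {S P W : Subgroup G} (hW : P ≤ normalizer (W : Set G)) :
    ∀ g ∈ P, g ∈ normalizer (S : Set G) → ∀ z ∈ W ⊓ centralizer (S : Set G),
      g * z * g⁻¹ ∈ W ⊓ centralizer (S : Set G) := by
  rintro g hg hgS z ⟨hzW, hzS⟩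
  refine ⟨(mem_normalizer_iff.1 (hW hg) z).1 hzW, mem_centralizer_iff.2 fun s hs => ?_⟩
  have h1 : g⁻¹ * s * g ∈ S := by
    have h2 := (mem_normalizer_iff.1 (inv_mem hgS) s).1 hs
    rwa [inv_inv] at h2
  have h2 := mem_centralizer_iff.1 hzS _ h1
  calc s * (g * z * g⁻¹) = g * (g⁻¹ * s * g * z) * g⁻¹ := by group
    _ = g * (z * (g⁻¹ * s * g)) * g⁻¹ := by rw [h2]
    _ = g * z * g⁻¹ * s := by group

/-- a Sylow subgroup of `P` is a Sylow subgroup of every intermediate group -/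
theorem syl_of_le {S K P : Subgroup G} (hS : Syl S P) (hSK : S ≤ K) (hK : K ≤ P) : Syl S K :=
  ⟨hSK, hS.2.1, fun Q hQ h2 h => hS.2.2 Q (hQ.trans hK) h2 h⟩

/-- Frattini: if `S^t ≤ S C` with `C` normalised by `S`, then `c t` normalises `S` for some `c ∈ C`. -/
theorem exists_normalizer [Finite G] {S P C : Subgroup G} (hS : Syl S P) (hCP : C ≤ P)
    (hSC : S ≤ normalizer (C : Set G)) {t : G} (ht : t ∈ P)
    (h : ∀ s ∈ S, ∃ s' ∈ S, ∃ c ∈ C, t * s * t⁻¹ = s' * c) :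
    ∃ c ∈ C, c * t ∈ normalizer (S : Set G) := by
  have hK : S ⊔ C ≤ P := sup_le hS.1 hCP
  have h1 : cj t S ≤ S ⊔ C := by
    rintro _ ⟨s, hs, rfl⟩
    obtain ⟨s', hs', c, hc, e⟩ := h s hs
    change t * s * t⁻¹ ∈ S ⊔ C
    rw [e]
    exact mul_mem (mem_sup_left hs') (mem_sup_right hc)
  have h2 : Syl (cj t S) (S ⊔ C) := by
    refine syl_of_le (P := P) ⟨h1.trans hK, hS.2.1.map _, fun Q hQ h2 h => ?_⟩ h1 hK
    have h4 : cj t⁻¹ Q ≤ P := by
      have h5 := cj_mono t⁻¹ hQ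
      rwa [cj_eq_of_mem_normalizer (le_normalizer (inv_mem ht))] at h5
    have h5 : S ≤ cj t⁻¹ Q := by
      have h6 := cj_mono t⁻¹ h
      rwa [cj_inv_cj] at h6
    rw [← hS.2.2 _ h4 (h2.map _) h5, cj_cj_inv]
  obtain ⟨x, hx, e⟩ := syl_conj h2 (syl_of_le hS le_sup_left hK)
  obtain ⟨c, hc, s, hs, hcs⟩ : ∃ c ∈ C, ∃ s ∈ S, s * c = x := by
    have h4 : x ∈ ((S ⊔ C : Subgroup G) : Set G) := hx
    rw [Subgroup.coe_mul_of_left_le_normalizer_right S C hSC] at h4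
    obtain ⟨s, hs, c, hc, e⟩ := Set.mem_mul.1 h4
    exact ⟨c, hc, s, hs, e⟩
  refine ⟨c, hc, mem_normalizer_iff_cj.2 ?_⟩
  have h5 := congrArg (cj s⁻¹) e
  rw [cj_cj, cj_cj, cj_eq_of_mem_normalizer (le_normalizer (inv_mem hs))] at h5
  have h6 : s⁻¹ * (x * t) = c * t := by rw [← hcs]; group
  rwa [mul_assoc, h6] at h5

variable {F : Type} [Field F] {S P W : Subgroup G} {k : ℕ} (N : NatK F S P W ⊥ k)

include N

theorem comp {z : G} (hz : z ∈ W ⊓ centralizer (S : Set G)) (hz1 : z ≠ 1) (i : Fin k) :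
    N.e z i 1 = 0 ∧ N.e z i 0 ≠ 0 := by
  have hfix : ∀ s ∈ S, s * z * s⁻¹ = z := fun s hs => by
    rw [mem_centralizer_iff.1 hz.2 s hs]; group
  have h1 : ∀ i, N.e z i 1 = 0 := fun i => by
    obtain ⟨s, hs, hA⟩ := N.unip fun _ => 1
    have h2 := hA.1 z hz.1 i
    rw [hfix s hs] at h2
    have h3 := congrFun h2 0
    rw [ap_zero', up_00, up_01, one_mul, one_mul] at h3
    exact left_eq_add.1 h3
  refine ⟨h1 i, fun h0 => hz1 ?_⟩
  have h2 : ∀ j, N.e z j = 0 := fun j => by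
    obtain ⟨s, hs, hA⟩ := N.trans i j
    have h3 := hA z hz.1
    rw [hfix s hs] at h3
    exact h3.2 (ext2 h0 (h1 i))
  have h3 := (N.ker z hz.1).1 (funext h2)
  exact mem_bot.1 h3

/-- the field `tr` -/
theorem tr [Finite G] (hW : P ≤ normalizer (W : Set G)) (hS : Syl S P) :
    ∀ z ∈ W ⊓ centralizer (S : Set G), ∀ z' ∈ W ⊓ centralizer (S : Set G), z ≠ 1 → z' ≠ 1 →
      ∃ g ∈ P, g ∈ normalizer (S : Set G) ∧ g * z * g⁻¹ = z' := by
  intro z hz z' hz' hz1 hz1'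
  have h1 := comp N hz hz1
  have h2 := comp N hz' hz1'
  obtain ⟨t, ht, hA⟩ := N.lift fun i => dg (N.e z' i 0 / N.e z i 0) (div_ne_zero (h2 i).2 (h1 i).2)
  have hinj : ∀ v ∈ W, ∀ w ∈ W, N.e v = N.e w → v = w := fun v hv w hw hvw => by
    have hvw' : w * (w⁻¹ * v) = v := by group
    have h3 := N.mul w hw _ (mul_mem (inv_mem hw) hv)
    rw [hvw', hvw] at h3
    have h4 := (N.ker _ (mul_mem (inv_mem hw) hv)).1 (left_eq_add.1 h3)
    exact (inv_mul_eq_one.1 (mem_bot.1 h4)).symm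
  have hfix : ∀ z ∈ W ⊓ centralizer (S : Set G), ∀ s ∈ S, s * z * s⁻¹ = z := fun z hz s hs => by
    rw [mem_centralizer_iff.1 hz.2 s hs]; group
  have hcj : ∀ g ∈ P, ∀ v ∈ W, g * v * g⁻¹ ∈ W := fun g hg v hv => (mem_normalizer_iff.1 (hW hg) v).1 hv
  have htz : t * z * t⁻¹ = z' := by
    refine hinj _ (hcj t ht z hz.1) _ hz'.1 (funext fun i => ?_)
    rw [hA.1 z hz.1 i]
    apply ext2
    · have h3 := (h1 i).2
      rw [ap_zero', dg_00, dg_01]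
      field_simp
      ring
    · rw [ap_one', dg_10, dg_11, (h1 i).1, (h2 i).1]
      ring
  -- `s t s⁻¹ ∈ S t C_P(W)`
  have key : ∀ s ∈ S, ∃ u ∈ S, ∃ c ∈ P ⊓ centralizer (W : Set G), s * t * s⁻¹ = u * t * c := by
    intro s hs
    have hsP := hS.1 hs
    obtain ⟨B, hB⟩ := N.norm s hsP t ht _ hA.1
    obtain ⟨σ, hσ⟩ := N.line s hs
    -- `B i` is upper triangular
    have hB10 : ∀ i, ent (B i) 1 0 = 0 := fun i => by
      obtain ⟨v, hv, hev⟩ := N.surj fun _ => ![1, 0]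
      have h3 : N.e (s⁻¹ * v * s) (σ.symm i) 1 = 0 := by
        have h4 : s⁻¹ * v * s ∈ W := by
          have h5 := hcj s⁻¹ (inv_mem hsP) v hv
          rwa [inv_inv] at h5
        have h5 := hσ _ h4 (σ.symm i)
        have h6 : s * (s⁻¹ * v * s) * s⁻¹ = v := by group
        rw [h6, Equiv.apply_symm_apply, hev] at h5
        exact h5.1 rfl
      have h4 : s⁻¹ * v * s ∈ W := by
        have h5 := hcj s⁻¹ (inv_mem hsP) v hv
        rwa [inv_inv] at h5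
      have h5 : N.e (t * (s⁻¹ * v * s) * t⁻¹) (σ.symm i) 1 = 0 := by
        rw [hA.1 _ h4, ap_one', dg_10, dg_11, h3]
        ring
      have h6 := (hσ _ (hcj t ht _ h4) (σ.symm i)).2 h5
      have h7 : s * (t * (s⁻¹ * v * s) * t⁻¹) * s⁻¹ = s * t * s⁻¹ * v * (s * t * s⁻¹)⁻¹ := by group
      rw [h7, Equiv.apply_symm_apply, hB v hv i, hev, ap_one'] at h6
      simpa using h6
    -- `B i` maps `z_i` to `z'_i`
    have hBz : s * t * s⁻¹ * z * (s * t * s⁻¹)⁻¹ = z' := by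
      have h3 := hfix z hz s⁻¹ (inv_mem hs)
      have h4 : s * t * s⁻¹ * z * (s * t * s⁻¹)⁻¹ = s * (t * (s⁻¹ * z * s⁻¹⁻¹) * t⁻¹) * s⁻¹ := by group
      rw [h4, h3, htz]
      exact hfix z' hz' s hs
    have hB00 : ∀ i, ent (B i) 0 0 = N.e z' i 0 / N.e z i 0 := fun i => by
      have h3 := hB z hz.1 i
      rw [hBz] at h3
      have h4 := congrFun h3 0
      rw [ap_zero', (h1 i).1, mul_zero, add_zero] at h4
      rw [h4, mul_div_assoc, div_self (h1 i).2, mul_one]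
    have hBu : ∀ i, ∃ b : F, B i = up b * dg (N.e z' i 0 / N.e z i 0) (div_ne_zero (h2 i).2 (h1 i).2) := fun i => by
      have hd := det_eq (B i)
      rw [hB10 i, hB00 i, mul_zero, sub_zero] at hd
      have h0 := div_ne_zero (h2 i).2 (h1 i).2
      have h11 : ent (B i) 1 1 = (N.e z' i 0 / N.e z i 0)⁻¹ := eq_inv_of_mul_eq_one_right hd
      refine ⟨ent (B i) 0 1 * (N.e z' i 0 / N.e z i 0), ?_⟩
      refine ext_ent ?_ ?_ ?_ ?_
      · rw [ent_mul, up_00, dg_00, up_01, dg_10, hB00 i]; ring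
      · rw [ent_mul, up_00, dg_01, up_01, dg_11, mul_assoc, mul_inv_cancel₀ h0]; ring
      · rw [ent_mul, up_10, dg_00, up_11, dg_10, hB10 i]; ring
      · rw [ent_mul, up_10, dg_01, up_11, dg_11, h11]; ring
    choose b hb using hBu
    obtain ⟨u, hu, hU⟩ := N.unip b
    have huP := hS.1 hu
    -- `s t s⁻¹` acts like `u t`
    have hact : ∀ v ∈ W, s * t * s⁻¹ * v * (s * t * s⁻¹)⁻¹ = u * t * v * (u * t)⁻¹ := by
      intro v hv
      refine hinj _ (hcj _ (mul_mem (mul_mem hsP ht) (inv_mem hsP)) v hv) _ (hcj _ (mul_mem huP ht) v hv)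
        (funext fun i => ?_)
      have h3 : u * t * v * (u * t)⁻¹ = u * (t * v * t⁻¹) * u⁻¹ := by group
      rw [hB v hv i, h3, hU.1 _ (hcj t ht v hv) i, hA.1 v hv i, hb i, ap_mul]
    -- `c = (u t)⁻¹ (s t s⁻¹)` centralises `W`
    refine ⟨u, hu, (u * t)⁻¹ * (s * t * s⁻¹), ⟨P.mul_mem (P.inv_mem (P.mul_mem huP ht))
      (P.mul_mem (P.mul_mem hsP ht) (P.inv_mem hsP)), mem_centralizer_iff.2 fun v hv => ?_⟩, by group⟩
    have h3 := hact v hv
    calc v * ((u * t)⁻¹ * (s * t * s⁻¹))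
        = (u * t)⁻¹ * (u * t * v * (u * t)⁻¹) * (s * t * s⁻¹) := by group
      _ = (u * t)⁻¹ * (s * t * s⁻¹ * v * (s * t * s⁻¹)⁻¹) * (s * t * s⁻¹) := by rw [← h3]
      _ = (u * t)⁻¹ * (s * t * s⁻¹) * v := by group
  have hPC : ∀ g ∈ P, ∀ c ∈ P ⊓ centralizer (W : Set G), g * c * g⁻¹ ∈ P ⊓ centralizer (W : Set G) := by
    rintro g hg c ⟨hc, hcW⟩
    refine ⟨P.mul_mem (P.mul_mem hg hc) (P.inv_mem hg), mem_centralizer_iff.2 fun v hv => ?_⟩
    have h3 := hcj g⁻¹ (inv_mem hg) v hv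
    have h4 := mem_centralizer_iff.1 hcW _ h3
    calc v * (g * c * g⁻¹) = g * (g⁻¹ * v * g⁻¹⁻¹ * c) * g⁻¹ := by group
      _ = g * (c * (g⁻¹ * v * g⁻¹⁻¹)) * g⁻¹ := by rw [h4]
      _ = g * c * g⁻¹ * v := by group
  have hn : S ≤ normalizer ((P ⊓ centralizer (W : Set G) : Subgroup G) : Set G) := by
    intro s hs
    rw [mem_normalizer_iff]
    intro c
    refine ⟨fun hc => hPC s (hS.1 hs) c hc, fun hc => ?_⟩
    have h3 := hPC s⁻¹ (inv_mem (hS.1 hs)) _ hc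
    have h4 : s⁻¹ * (s * c * s⁻¹) * s⁻¹⁻¹ = c := by group
    rwa [h4] at h3
  obtain ⟨c, hc, hct⟩ := exists_normalizer hS inf_le_left hn ht fun s hs => by
    obtain ⟨u, hu, c, hc, e⟩ := key s⁻¹ (inv_mem hs)
    refine ⟨s * u, mul_mem hs hu, _, hPC t ht c hc, ?_⟩
    calc t * s * t⁻¹ = s * (s⁻¹ * t * s⁻¹⁻¹) * t⁻¹ := by group
      _ = s * (u * t * c) * t⁻¹ := by rw [e]
      _ = s * u * (t * c * t⁻¹) := by group
  refine ⟨c * t, mul_mem hc.1 ht, hct, ?_⟩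
  have h3 := mem_centralizer_iff.1 hc.2 z' hz'.1
  calc c * t * z * (c * t)⁻¹ = c * (t * z * t⁻¹) * c⁻¹ := by group
    _ = z' * c * c⁻¹ := by rw [htz, h3]
    _ = z' := by group

end Cfsg.Agent.Omega.NO3S.ThmB.TrNat
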