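import Cfsg.Agent.Mrg.Omega.NO3S.ThmB.Inst
import Cfsg.Agent.Mrg.Omega.NO3S.ThmB.B2Nat
import Cfsg.Agent.Mrg.Omega.NO3S.ThmB.TrNat
import Cfsg.Agent.Mrg.Omega.NO3S.ThmB.Torus
import Cfsg.Agent.Mrg.Omega.NO3S.FF
import Cfsg.Agent.Mrg.Omega.NO3S.Level.Socket
import Cfsg.Agent.Mrg.Omega.TTn.DiCoreAbs
import Cfsg.Agent.Mrg.Omega.NO3S.Level.Lim
import Cfsg.Agent.Mrg.Omega.NO3S.Fld.NS
import Cfsg.Agent.MinSimple.Geo

section


/-!
# THEOREM B: all members of `P*(S)` have at least the stage of `P`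

`P ∈ P**` (`⟨P, C_G(Z)⟩` nonlocal), `|Z| = 2` or `V_P` of the types of the FF theorem, `R ∈ P*(S)`, `⟨R, C_G(Z)⟩` local
or `|Z| ≥ 4`: a family of best offenders contained in `O₂(P)` is contained in `O₂(R)`.

* `isLoc_sup` : `⟨P, R⟩` is local for `P, R ∈ P*(S)` (NOFF);
* `sym_zc` : `V_P` of type `S_{2^m+1}^k` gives `|Z| = 2`;
* `no_small` : `|Z| = 2` (torus lemma); `no_big` : `|Z| ≥ 4` (`Nb.no_nat`);
* `stage` : `lev S n ≤ O₂(P)` implies `lev S n ≤ O₂(R)` for all `R ∈ P*(S)` with `⟨R, C_G(Z)⟩` local;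
* `hpar` : `lev S n ≤ O₂(R)` for all `R ∈ P**` implies the same for all `R ∈ P*(S)`; `hpar_lev`, `hpar_hypC`.
-/

set_option autoImplicit false
set_option linter.unusedSectionVars false

namespace Cfsg.Agent.Omega.NO3S.ThmB.Main

open Subgroup Cfsg Cfsg.Agent.ZN Cfsg.Agent.ZN.ChoiceBase Cfsg.Agent.Omega.MinPar Cfsg.Agent.Omega.Frame
open Cfsg.Agent.Omega.NO3S Cfsg.Agent.Omega.NO3S.ThmB
open Cfsg.Agent.Omega.NO3S.Level (Lev BO lev lev_isLev nxt)
open Cfsg.Agent.Omega.FFThm (NatKM SymKM NatK SymK OffM ElemM NoOverM StmtM ConclM ActsSL ActsSym)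
open Cfsg.Agent.Omega.FrameFF (cv)
open Cfsg.Agent.Omega.FrameNOFF (CZ)

universe u

variable {G : Type u} [Group G] [Finite G] {S : Sylow 2 G} {P R : Subgroup G}

omit [Finite G] in
theorem exists_ne {H : Subgroup G} (h : H ≠ ⊥) : ∃ z ∈ H, z ≠ 1 := by
  by_contra hcon
  push Not at hcon
  exact h (eq_bot_iff.2 fun x hx => mem_bot.2 (hcon x hx))

/-- NOFF: two members of `P*(S)` generate a local subgroup. -/
theorem isLoc_sup (hG : IsCharacteristicTwoType G) (hF : ¬ FF (S : Subgroup G)) (hP : IsParS (S : Subgroup G) P)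
    (hR : IsParS (S : Subgroup G) R) : IsLoc (S : Subgroup G) (P ⊔ R) := by
  refine ⟨hP.le.trans le_sup_left, fun hcore => ?_⟩
  let X : Bool → Subgroup G := fun b => if b then R else P
  have hX : ∀ i, IsParS (S : Subgroup G) (X i) := fun i => by cases i <;> [exact hP; exact hR]
  obtain ⟨b, -, -, i, -, h2, -⟩ := MinPar.IsPar.odd_of_not_FF hG S hF (P := X) (fun i => (hX i).toIsPar) hcore
  exact (hX (!i)).not_zc h2

/-- `Z = C_{V_P}(S)` -/
theorem zc_eq (hG : IsCharacteristicTwoType G) (hP : IsLoc (S : Subgroup G) P) :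
    zl (S : Subgroup G) P ⊓ centralizer ((S : Subgroup G) : Set G) = zc (S : Subgroup G) := by
  refine le_antisymm (fun x hx => ?_) (fun x hx => ⟨ZN.zc_le_zl hx, mem_centralizer_iff.2 fun s hs =>
    (ChoiceBase.mem_zc.1 hx).2.2 s hs⟩)
  have h1 := ChoiceBase.mem_zc.1 (hP.zl_le S hG hx.1)
  exact ChoiceBase.mem_zc.2 ⟨hP.o2_le S h1.1, h1.2.1, fun s hs => mem_centralizer_iff.1 hx.2 s hs⟩

/-- `R` does not centralise `Z`. -/
theorem not_cent (hR : IsParS (S : Subgroup G) R) : ¬ R ≤ centralizer (zc (S : Subgroup G) : Set G) := fun h =>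
  hR.not_zc (h.trans (centralizer_le_normalizer _))

/-- `Z ≰ C_{V_R}(O²(R))` -/
theorem not_le_cv (hR : IsParS (S : Subgroup G) R) : ¬ zc (S : Subgroup G) ≤ cv (S : Subgroup G) R := by
  intro h
  apply not_cent hR
  rw [← TTn.DiCoreAbs.oddGen_sup hR.le (MinSimple.Basic.not_dvd_relIndex S hR.le)]
  refine sup_le ?_ ?_
  · exact le_centralizer_iff.1 (h.trans inf_le_right)
  · exact fun s hs => mem_centralizer_iff.2 fun z hz => ((ChoiceBase.mem_zc.1 hz).2.2 s hs).symm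

/-- `V_P` of type `S_{2^m+1}^k` with `C_{V_P}(O²(P)) = 1`: `|Z| ≤ 2`. -/
theorem sym_zc (hG : IsCharacteristicTwoType G) (hP : IsParS (S : Subgroup G) P)
    (hcv : cv (S : Subgroup G) P = ⊥) {k m : ℕ} (hk : 0 < k) (hm : 1 ≤ m)
    (N : SymK (S : Subgroup G) P (zl (S : Subgroup G) P) (cv (S : Subgroup G) P) k m) {z z' : G}
    (hz : z ∈ zc (S : Subgroup G)) (hz' : z' ∈ zc (S : Subgroup G)) (h1 : z ≠ 1) (h1' : z' ≠ 1) : z = z' := by
  have c := OneLine.minH hG hP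
  have h := OneLine.sy_of c N hk hm SQ1.FFOf.cv_le SQ1.FFOf.cv_norm
  -- `e z i` is constant outside `0` and `e z i 0 = 0`
  have key : ∀ z ∈ zc (S : Subgroup G), ∃ a : ZMod 2, ∀ i x, N.e z i x = if x = 0 then 0 else a := by
    intro z hz
    have hzV := ZN.zc_le_zl (L := P) hz
    have hfix : ∀ s ∈ (S : Subgroup G), s * z * s⁻¹ = z := fun s hs => by
      rw [(ChoiceBase.mem_zc.1 hz).2.2 s hs]; group
    have hcon : ∀ i x y, x ≠ 0 → y ≠ 0 → N.e z i x = N.e z i y := by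
      intro i x y hx hy
      obtain ⟨t, ht, π, hg, hπ⟩ := OneLine.cyc_T' c N h hm i hx hy
      have h2 := hg.act z hzV i x
      rw [hfix t ht, Equiv.Perm.one_apply, Pi.mulSingle_eq_same, hπ] at h2
      exact h2.symm
    have hlast : (Fin.last (2 ^ m) : Fin (2 ^ m + 1)) ≠ 0 := by
      intro h0
      have h2 := congrArg Fin.val h0
      rw [Fin.val_last, Fin.val_zero] at h2
      exact (pow_ne_zero m two_ne_zero) h2
    have hzero : ∀ i, N.e z i 0 = 0 := by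
      intro i
      have h2 := N.even z hzV i
      rw [Fin.sum_univ_succ] at h2
      have h3 : ∀ x : Fin (2 ^ m), N.e z i x.succ = N.e z i (Fin.last (2 ^ m)) := fun x =>
        hcon i _ _ (Fin.succ_ne_zero x) hlast
      rw [Finset.sum_congr rfl fun x _ => h3 x, Finset.sum_const, Finset.card_univ, Fintype.card_fin] at h2
      have h4 : (2 ^ m) • N.e z i (Fin.last (2 ^ m)) = 0 := by
        generalize N.e z i (Fin.last (2 ^ m)) = c
        obtain ⟨l, hl⟩ : ∃ l, m = l + 1 := ⟨m - 1, by omega⟩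
        rw [hl, pow_succ, mul_smul, two_nsmul, CharTwo.add_self_eq_zero, smul_zero]
      rw [h4, add_zero] at h2
      exact h2
    refine ⟨N.e z ⟨0, hk⟩ (Fin.last (2 ^ m)), fun i x => ?_⟩
    by_cases hx : x = 0
    · rw [if_pos hx, hx]; exact hzero i
    · rw [if_neg hx]
      obtain ⟨t, ht, σ, τ, hta, hσ⟩ := N.trans ⟨0, hk⟩ i
      have h2 := hta z hzV ⟨0, hk⟩ (Fin.last (2 ^ m))
      rw [hfix t ht, hσ] at h2
      rw [← h2]
      refine hcon i _ _ hx fun h0 => hlast ?_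
      have h3 := N.fix0 t ht σ τ hta ⟨0, hk⟩
      exact (τ ⟨0, hk⟩).injective (h0.trans h3.symm)
  obtain ⟨a, ha⟩ := key z hz
  obtain ⟨a', ha'⟩ := key z' hz'
  have hne : ∀ z ∈ zc (S : Subgroup G), z ≠ 1 → ∀ a : ZMod 2, (∀ i x, N.e z i x = if x = 0 then 0 else a) → a = 1 := by
    intro z hz h1 a ha
    have ha0 : a ≠ 0 := fun h0 => h1 (by
      have h2 : N.e z = 0 := by
        funext i x
        rw [ha, h0, ite_self]
        rfl
      have h3 := (N.ker z (ZN.zc_le_zl hz)).1 h2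
      rw [hcv, mem_bot] at h3
      exact h3)
    have key2 : ∀ a : ZMod 2, a ≠ 0 → a = 1 := by decide
    exact key2 a ha0
  have e1 := hne z hz h1 a ha
  have e2 := hne z' hz' h1' a' ha'
  refine OneLine.sy_inj h hcv (ZN.zc_le_zl hz) (ZN.zc_le_zl hz') ?_
  funext i x
  rw [ha, ha', e1, e2]

/-! ### The core -/

section core

variable (h : HypN S P) (hR : IsParS (S : Subgroup G) R) {FF0 : Set (Subgroup G)}
  (X : BSit (S : Subgroup G) P R (zl (S : Subgroup G) (P ⊔ R)) (zl (S : Subgroup G) R) (P ⊔ R) FF0)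
  {F : Type} [Field F] [Finite F] [CharP F 2] {k : ℕ}
  (M : NatKM F (S : Subgroup G) R (zl (S : Subgroup G) R) (cv (S : Subgroup G) R) k)

include h hR X M

theorem fxU : ∀ N : Subgroup G, N ≤ zl (S : Subgroup G) (P ⊔ R) → (S : Subgroup G) ≤ normalizer (N : Set G) →
    N ≠ ⊥ → ∃ z ∈ N, z ∈ zc (S : Subgroup G) ∧ z ≠ 1 := by
  have hL := isLoc_sup h.ctx.char2 h.noFF h.star hR
  intro N hN hSN hne
  have hU2 : IsPGroup 2 (zl (S : Subgroup G) (P ⊔ R)) := S.isPGroup'.to_le (Inst.zl_sup_S h.ctx.char2 hL)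
  obtain ⟨z, hz, hzZ, hz1⟩ := TrNat.fx S.isPGroup' hU2 N hN hSN hne
  rw [zc_eq h.ctx.char2 hL] at hzZ
  exact ⟨z, hz, hzZ, hz1⟩

/-- **`|Z| ≥ 4`, `V_P` natural: impossible.** -/
theorem no_big {F0 : Type} [Field F0] [Finite F0] [CharP F0 2] {k0 : ℕ}
    (N : NatK F0 (S : Subgroup G) P (zl (S : Subgroup G) P) (cv (S : Subgroup G) P) k0)
    {z z' : G} (hz : z ∈ zc (S : Subgroup G)) (hz' : z' ∈ zc (S : Subgroup G)) (h1 : z ≠ 1) (h1' : z' ≠ 1)
    (hne : z ≠ z') : False := by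
  have hG := h.ctx.char2
  have hWP : P ≤ normalizer (zl (S : Subgroup G) P : Set G) := le_normalizer_zl _ _
  have hS : ChoiceSit.Syl (S : Subgroup G) P := OneLine.syl_of h.star
  rw [h.toHyp.cv] at N
  have hZ := zc_eq hG h.star.isLoc
  have T : TrHyp (S : Subgroup G) P R (zl (S : Subgroup G) (P ⊔ R)) (zl (S : Subgroup G) R)
      (DM (zl (S : Subgroup G) (P ⊔ R)) FF0) (zc (S : Subgroup G)) := by
    refine (Inst.nb hG hR M).trHyp X (fxU h hR X M) ?_ ?_ ZN.zc_le_zl (not_le_cv hR)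
    · rw [← hZ]
      exact TrNat.nZ hWP
    · rw [← hZ]
      exact TrNat.tr N hWP hS
  refine (Inst.nb hG hR M).no_nat X T N ?_ hS hWP rfl ZN.zc_le_zl fun K hK hPK => MinSimple.VModule.zl_le hK hPK
  -- `4 ≤ |F₀|`
  by_contra hcon
  have h2 : ∀ β : F0, β ≠ 0 → β = 1 := by
    classical
    have : Fintype F0 := Fintype.ofFinite F0
    have h3 : Nat.card F0 = 2 := by
      obtain ⟨e, -, he⟩ := FiniteField.card F0 2
      rw [Nat.card_eq_fintype_card, he] at hcon ⊢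
      have he0 : 0 < (e : ℕ) := e.pos
      have he1 : (e : ℕ) < 2 := by
        by_contra hge
        have : 2 ^ 2 ≤ 2 ^ (e : ℕ) := Nat.pow_le_pow_right (by norm_num) (by omega)
        omega
      have he2 : (e : ℕ) = 1 := by omega
      rw [he2, pow_one]
    rw [Nat.card_eq_two_iff' (0 : F0)] at h3
    obtain ⟨y, -, hy⟩ := h3
    exact fun β hβ => (hy β hβ).trans (hy 1 one_ne_zero).symm
  apply hne
  have hzZ : z ∈ zl (S : Subgroup G) P ⊓ centralizer ((S : Subgroup G) : Set G) := by rw [hZ]; exact hz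
  have hzZ' : z' ∈ zl (S : Subgroup G) P ⊓ centralizer ((S : Subgroup G) : Set G) := by rw [hZ]; exact hz'
  refine Cfsg.Agent.Omega.NO3S.ThmB.e_inj N rfl hzZ.1 hzZ'.1 ?_
  funext i
  have k1 := TrNat.comp N hzZ h1 i
  have k2 := TrNat.comp N hzZ' h1' i
  exact vec_eq ((h2 _ k1.2).trans (h2 _ k2.2).symm) (k1.1.trans k2.1.symm)

/-- **`|Z| = 2`: `P ≤ ⟨R, C_G(Z)⟩`.** -/
theorem no_small (hloc : IsLoc (S : Subgroup G) (R ⊔ CZ (S : Subgroup G)))
    (hZ2 : ∀ z ∈ zc (S : Subgroup G), ∀ z' ∈ zc (S : Subgroup G), z ≠ 1 → z' ≠ 1 → z = z') : False := by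
  have hG := h.ctx.char2
  have Nb' := Inst.nb hG hR M
  -- `C_Z(R) = 1`
  have hcR : zc (S : Subgroup G) ⊓ centralizer (R : Set G) = ⊥ := by
    by_contra hne
    obtain ⟨z, hz, hz1⟩ := exists_ne hne
    apply not_cent hR
    intro g hg
    rw [mem_centralizer_iff]
    intro z' hz'
    by_cases h1 : z' = 1
    · rw [h1, one_mul, mul_one]
    · have e := hZ2 z' hz' z hz.1 h1 hz1
      rw [e]
      exact (mem_centralizer_iff.1 hz.2 g hg).symm
  have hD : cv (S : Subgroup G) R = ⊥ := NoFF.LinesPlug.inf_oddGen_eq_bot hG S hR.toIsPar hcR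
  have T : TrHyp (S : Subgroup G) P R (zl (S : Subgroup G) (P ⊔ R)) (zl (S : Subgroup G) R)
      (DM (zl (S : Subgroup G) (P ⊔ R)) FF0) (zc (S : Subgroup G)) := by
    refine Nb'.trHyp X (fxU h hR X M) ?_ ?_ ZN.zc_le_zl (not_le_cv hR)
    · intro g _ hgS z hz
      have h1 := mem_normalizer_iff.1 ((Level.normalizer_le_zc (S : Subgroup G)) hgS) z
      exact h1.1 hz
    · intro z hz z' hz' h1 h1'
      refine ⟨1, one_mem _, one_mem _, ?_⟩
      rw [one_mul, inv_one, mul_one]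
      exact hZ2 z hz z' hz' h1 h1'
  have hRoot : Root M.e (zl (S : Subgroup G) R) (DM (zl (S : Subgroup G) (P ⊔ R)) FF0) := by
    intro B hB
    obtain ⟨i, O⟩ := Nb'.one X hB
    have hBS := X.le B hB.1.1
    refine ⟨i, fun x hx => ⟨fun hx' => ?_, fun hx' => ?_⟩⟩
    · have h2 := Nb'.e_comm hBS O hx'
      exact ⟨h2.2.2, h2.2.1⟩
    · obtain ⟨y, hy, hyi⟩ := Nb'.exists_comm hBS O (M.e x i 0)
      have h2 := Nb'.e_comm hBS O hy
      have h3 : x = y := by
        refine Cfsg.Agent.Omega.NO3S.ThmB.e_inj M.toNatK hD hx h2.1 ?_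
        funext l
        by_cases hl : l = i
        · rw [hl]
          exact vec_eq hyi.symm (hx'.1.trans h2.2.2.symm)
        · rw [hx'.2 l hl, h2.2.1 l hl]
      rw [h3]; exact hy
  obtain ⟨z, hz, hz1⟩ := exists_ne h.toHyp.zc_ne
  have hP : P ≤ R ⊔ CZ (S : Subgroup G) := by
    refine torus_le M.toNatK (Nb'.fam X) hRoot T hD hz1 (ChoiceBase.mem_zc.1 hz).2.2 hz le_sup_left fun x hx => ?_
    refine (le_sup_right : CZ (S : Subgroup G) ≤ _) (mem_centralizer_iff.2 fun z' hz' => ?_)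
    by_cases h1 : z' = 1
    · rw [h1, one_mul, mul_one]
    · have e := hZ2 z' hz' z hz h1 hz1
      rw [e]
      exact hx.symm
  have hn : P ⊔ CZ (S : Subgroup G) ≤ normalizer (o2 (R ⊔ CZ (S : Subgroup G)) : Set G) :=
    (sup_le hP le_sup_right).trans (le_normalizer_o2 _)
  exact hloc.o2_ne (h.toHyp.nonLoc _ (isPGroup_o2 _) (le_sup_left.trans hn) (le_sup_right.trans hn))

end core

/-! ### The stages -/

/-- `|Z| = 2` or `V_P` of the types of the FF theorem -/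
def Ty (S P : Subgroup G) : Prop :=
  (∀ z ∈ zc S, ∀ z' ∈ zc S, z ≠ 1 → z' ≠ 1 → z = z') ∨ ConclM S P

/-- **THEOREM B** over a family. -/
theorem core (h : HypN S P) (hty : Ty (S : Subgroup G) P) (hR : IsParS (S : Subgroup G) R)
    (hloc : ¬ NonLoc R (CZ (S : Subgroup G)) ∨ ∃ z ∈ zc (S : Subgroup G), ∃ z' ∈ zc (S : Subgroup G), z ≠ 1 ∧ z' ≠ 1 ∧
      z ≠ z') {FF0 : Set (Subgroup G)}
    (X : BSit (S : Subgroup G) P R (zl (S : Subgroup G) (P ⊔ R)) (zl (S : Subgroup G) R) (P ⊔ R) FF0)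
    (h2 : ∃ A ∈ FF0, ¬ A ≤ o2 R) : False := by
  have hG := h.ctx.char2
  have hL := isLoc_sup hG h.noFF h.star hR
  obtain ⟨F, i1, i2, i3, k, -, -, ⟨M⟩⟩ := Inst.four_of hG h.star hR hL FF.Glob.ffthmM X h2 h.toHyp.inf_eq_bot
  by_cases hZ : ∀ z ∈ zc (S : Subgroup G), ∀ z' ∈ zc (S : Subgroup G), z ≠ 1 → z' ≠ 1 → z = z'
  · rcases hloc with hl | ⟨z, hz, z', hz', h1, h1', hne⟩
    · exact no_small h hR X M ((not_nonLoc_iff S hR.le).1 hl) hZ
    · exact hne (hZ z hz z' hz' h1 h1')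
  · rcases hty with h3 | h3
    · exact hZ h3
    push Not at hZ
    obtain ⟨z, hz, z', hz', h1, h1', hne⟩ := hZ
    rcases h3 with ⟨F0, j1, j2, j3, k0, -, ⟨N⟩⟩ | ⟨k0, m, hk0, hm, ⟨N⟩⟩
    · exact no_big h hR X M N.toNatK hz hz' h1 h1' hne
    · exact hne (sym_zc hG h.star h.toHyp.cv hk0 (by omega) N.toSymK hz hz' h1 h1')

/-- **THEOREM B** over a `BFam`: a family of best offenders which is contained in `O₂(P)` is contained in `O₂(R)`. -/
theorem le_of_bfam (h : HypN S P) (hty : Ty (S : Subgroup G) P) (hR : IsParS (S : Subgroup G) R)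
    (hloc : ¬ NonLoc R (CZ (S : Subgroup G)) ∨ ∃ z ∈ zc (S : Subgroup G), ∃ z' ∈ zc (S : Subgroup G), z ≠ 1 ∧ z' ≠ 1 ∧
      z ≠ z') {FF0 : Set (Subgroup G)}
    (X : BFam (S : Subgroup G) (zl (S : Subgroup G) (P ⊔ R)) (P ⊔ R) FF0) (h1 : ∀ A ∈ FF0, A ≤ o2 P) :
    ∀ A ∈ FF0, A ≤ o2 R := by
  by_contra hcon
  push Not at hcon
  have hL := isLoc_sup h.ctx.char2 h.noFF h.star hR
  exact core h hty hR hloc (Inst.bsit h.ctx.char2 h.star hR hL X h1 hcon) hcon

/-- **THEOREM B at the levels**: `lev S n ≤ O₂(P)` implies `lev S n ≤ O₂(R)`. -/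
theorem stage (h : HypN S P) (hty : Ty (S : Subgroup G) P) (hR : IsParS (S : Subgroup G) R)
    (hloc : ¬ NonLoc R (CZ (S : Subgroup G)) ∨ ∃ z ∈ zc (S : Subgroup G), ∃ z' ∈ zc (S : Subgroup G), z ≠ 1 ∧ z' ≠ 1 ∧
      z ≠ z') (n : ℕ) (hn : lev (S : Subgroup G) n ≤ o2 P) : lev (S : Subgroup G) n ≤ o2 R := by
  have hG := h.ctx.char2
  have hL := isLoc_sup hG h.noFF h.star hR
  induction n with
  | zero =>
    by_contra hcon
    have hn' : jj (S : Subgroup G) ≤ o2 P := hn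
    have hcon' : ¬ jj (S : Subgroup G) ≤ o2 R := hcon
    refine core h hty hR hloc (Inst.bsit_AA hG h.star hR hL hn' hcon') ?_
    by_contra hc
    push Not at hc
    rw [jj_eq] at hcon'
    exact hcon' (sSup_le hc)
  | succ n ih =>
    by_contra hcon
    have h1 := ih ((Level.lev_le_succ _ n).trans hn)
    have h2 := Inst.exists_BO hG hR (lev_isLev _ n) h1 hcon
    exact core h hty hR hloc (Inst.bsit_BO hG h.star hR hL (lev_isLev _ n) ((Level.lev_le_succ _ n).trans hn) h1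
      (fun A hA => (Level.BO.le_nxt hA).trans hn) h2) h2

/-- `J(S) ≤ O₂(P)` implies `J(S) ≤ O₂(R)`. -/
theorem stage_jj (h : HypN S P) (hty : Ty (S : Subgroup G) P) (hR : IsParS (S : Subgroup G) R)
    (hloc : ¬ NonLoc R (CZ (S : Subgroup G)) ∨ ∃ z ∈ zc (S : Subgroup G), ∃ z' ∈ zc (S : Subgroup G), z ≠ 1 ∧ z' ≠ 1 ∧
      z ≠ z') (hn : jj (S : Subgroup G) ≤ o2 P) : jj (S : Subgroup G) ≤ o2 R :=
  stage h hty hR hloc 0 hn

/-- **`hpar`**: if `lev S n ≤ O₂(R)` for all `R ∈ P**`, then for all `R ∈ P*(S)`. -/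
theorem hpar (h : HypN S P) (hty : Ty (S : Subgroup G) P) {n : ℕ}
    (hn : ∀ R : Subgroup G, IsParS (S : Subgroup G) R → NonLoc R (CZ (S : Subgroup G)) →
      lev (S : Subgroup G) n ≤ o2 R) :
    ∀ R : Subgroup G, IsParS (S : Subgroup G) R → lev (S : Subgroup G) n ≤ o2 R := by
  intro R hR
  by_cases hl : NonLoc R (CZ (S : Subgroup G))
  · exact hn R hR hl
  · exact stage h hty hR (Or.inl hl) n (hn P h.star h.nonLoc)

/-- `V_P` is of the types of the FF theorem if `lev S n ≤ O₂(P)`, `lev S (n + 1) ≰ O₂(P)`. -/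
theorem ty_of_lev (h : HypN S P) {n : ℕ} (h1 : lev (S : Subgroup G) n ≤ o2 P)
    (h2 : ¬ lev (S : Subgroup G) (n + 1) ≤ o2 P) : Ty (S : Subgroup G) P := by
  obtain ⟨A, hA, hAQ⟩ := Inst.exists_BO h.ctx.char2 h.star (lev_isLev _ n) h1 h2
  exact Or.inr (h.toHyp.ff FF.Glob.ffthmM
    (Level.ffMod_of_BO h.ctx.char2 h.star (lev_isLev _ n) h1 hA hAQ)).2

/-- **THEOREM B, final form**: `P ∈ P**`, `lev S n ≤ O₂(R)` for all `R ∈ P**`, `lev S (n + 1) ≰ O₂(P)`; then
`lev S n ≤ O₂(R)` for all `R ∈ P*(S)`. -/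
theorem hpar_lev (h : HypN S P) {n : ℕ}
    (hn : ∀ R : Subgroup G, IsParS (S : Subgroup G) R → NonLoc R (CZ (S : Subgroup G)) →
      lev (S : Subgroup G) n ≤ o2 R) (h2 : ¬ lev (S : Subgroup G) (n + 1) ≤ o2 P) :
    ∀ R : Subgroup G, IsParS (S : Subgroup G) R → lev (S : Subgroup G) n ≤ o2 R :=
  hpar h (ty_of_lev h (hn P h.star h.nonLoc) h2) hn

/-- THEOREM B, final form, over `HypC`. -/
theorem hpar_hypC (h : HypC S) (hP : IsParS (S : Subgroup G) P) (hPn : NonLoc P (CZ (S : Subgroup G))) {n : ℕ}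
    (hn : ∀ R : Subgroup G, IsParS (S : Subgroup G) R → NonLoc R (CZ (S : Subgroup G)) →
      lev (S : Subgroup G) n ≤ o2 R) (h2 : ¬ lev (S : Subgroup G) (n + 1) ≤ o2 P) :
    ∀ R : Subgroup G, IsParS (S : Subgroup G) R → lev (S : Subgroup G) n ≤ o2 R :=
  hpar_lev (h.hypN hP hPn) hn h2

end Cfsg.Agent.Omega.NO3S.ThmB.Main

end

section


/-!
# Leaf NO-3S: FF-lines at any level (helper781 #16560)

* `LevSt S P` : the stage of `P`: `J(S) ≰ O₂(P)`, or there is `n` such that the `n`-th level `lev n`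
  (`Level/Basic.lean`; `lev 0 = J(S)`, `lev (n + 1) = ⟨best offenders of S on Ω₁(Z(lev n))⟩ C_S(Ω₁(Z(lev n)))`) lies in
  `O₂(R)` for **all** `R ∈ P*(S)`, and `lev (n + 1) ≰ O₂(P)`;
* `HypF S P` : `HypN S P` and `|V_R| ≠ 4` for all `R ∈ P**`; `HypL S P` : `HypF S P` and `LevSt S P`;
* `HypL.ffMod`, `HypL.concl` : `V_P` is an FF-module (no over-offender; natural / even-subset blocks, module form
  `FFThm.ConclM`);
* `HypL.exists_of` : in the case `HypC`, if some `P ∈ P**` has `V_P ≰ V^!(S)`, then some `P ∈ P**` satisfies `HypL S P`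
  (THEOREM B, `ThmB/Main.lean`: helper555, 879, 365, 922, 134);
* `FullK V R` : `[w, K_R] = R` for all `w ∈ W_R - R` (`N_R = R` and `K_R` full), `FullK.ntr`, `fullK_of_ntr`;
* `FrB F S P B R` : the `(R, B)`-frame of helper973 (#16714) for a natural line `V_P`: `R` an `F`-line of `V_P` normalised
  by `S`, `B = C_S(R)`; `FrB.geo`, `FrB.exists_crit` : the geometry of the points `R^g` (`Geo B R (N_G(R)) {P}`) and a
  critical pair.

`P** =` the members `P` of `P*(S)` with `⟨P, C_G(Z)⟩` nonlocal.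
-/

set_option autoImplicit false

namespace Cfsg.Agent.Omega.NO3S

open Subgroup Cfsg Cfsg.Agent.ZN Cfsg.Agent.Omega.MinPar Cfsg.Agent.Omega.Frame Cfsg.Agent.Omega.FrameNOFF
open Cfsg.Agent.Omega.FrameFF (cv Single)
open Cfsg.Agent.Omega.NoFF.Lines
open Cfsg.Agent.Omega.NO3S.Level

universe u

/-- `P ∈ P**`. -/
structure PSS {G : Type u} [Group G] (S P : Subgroup G) : Prop where
  par : IsParS S P
  nonLoc : NonLoc P (CZ S)

/-- The stage of `P`: `J(S) ≰ O₂(P)`, or there is `n` such that `lev S n ≤ O₂(R)` for **all** `R ∈ P*(S)` (THEOREM B)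
and `lev S (n + 1) ≰ O₂(P)`. -/
def LevSt {G : Type u} [Group G] [Finite G] (S P : Subgroup G) : Prop :=
  ¬ jj S ≤ o2 P ∨ ∃ n, (∀ R, IsParS S R → lev S n ≤ o2 R) ∧ ¬ lev S (n + 1) ≤ o2 P

/-- `HypN` and no `V_R` of order 4, `R ∈ P**`: all the ends over a frame (`FrB`, ..) use, no stage. -/
structure HypF {G : Type u} [Group G] [Finite G] (S : Sylow 2 G) (P : Subgroup G) : Prop extends HypN S P where
  four : ∀ R : Subgroup G, PSS (S : Subgroup G) R → Nat.card (zl (S : Subgroup G) R) ≠ 4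

/-- **The hypotheses of the FF-lines, at any level.** -/
structure HypL {G : Type u} [Group G] [Finite G] (S : Sylow 2 G) (P : Subgroup G) : Prop extends HypF S P where
  stage : LevSt (S : Subgroup G) P

section facts

variable {G : Type u} [Group G] [Finite G] {S : Sylow 2 G} {P : Subgroup G}

theorem Hyp.pss (h : Hyp S P) : PSS (S : Subgroup G) P := ⟨h.star, h.nonLoc⟩

/-- `HypJ` is stage `-1`. -/
theorem HypJ.toL (h : HypJ S P)
    (h4 : ∀ R : Subgroup G, PSS (S : Subgroup G) R → Nat.card (zl (S : Subgroup G) R) ≠ 4) : HypL S P where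
  toHypF := { toHypN := h.toHypN, four := h4 }
  stage := Or.inl h.jnot

/-- Stage `n`: a best offender on `Ω₁(Z(lev n))` which is not in `O₂(P)`. -/
theorem exists_BO (hG : IsCharacteristicTwoType G) (hP : IsParS (S : Subgroup G) P) {n : ℕ}
    (h1 : lev (S : Subgroup G) n ≤ o2 P) (h2 : ¬ lev (S : Subgroup G) (n + 1) ≤ o2 P) :
    ∃ A ∈ BO (S : Subgroup G) (lev (S : Subgroup G) n), ¬ A ≤ o2 P := by
  by_contra hcon
  push Not at hcon
  apply h2
  show nxt (S : Subgroup G) (lev (S : Subgroup G) n) ≤ o2 P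
  refine sup_le ?_ (sSup_le hcon)
  have h3 : zl (S : Subgroup G) P ≤ zc (lev (S : Subgroup G) n) :=
    (hP.isLoc.zl_le S hG).trans ((lev_isLev (S : Subgroup G) n).zc_o2_le h1 (hP.isLoc.o2_le S))
  have h4 := IsParS.inf_centralizer S hG hP
  rw [← h4]
  exact inf_le_inf_left _ (centralizer_le h3)

/-- `V_P` is an FF-module. -/
theorem HypL.ffMod (h : HypL S P) : FFMod (S : Subgroup G) P := by
  rcases h.stage with hj | ⟨n, hn, hn1⟩
  · exact HypJ.ffMod ⟨h.toHypN, hj⟩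
  · obtain ⟨A, hA, hAQ⟩ := exists_BO h.ctx.char2 h.star (hn P h.star) hn1
    exact ffMod_of_BO h.ctx.char2 h.star (lev_isLev _ n) (hn P h.star) hA hAQ

/-- **The FF theorem**: no over-offender, natural or even-subset blocks (module form). -/
theorem HypL.concl (h : HypL S P) :
    FFThm.NoOverM (zl (S : Subgroup G) P) P ∧ FFThm.ConclM (S : Subgroup G) P :=
  h.toHyp.ff FF.Glob.ffthmM h.ffMod

/-- Some `P ∈ P**` has `V_P ≰ V^!(S)`: choose one of minimal stage. -/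
theorem HypL.exists_of (h : HypC S)
    (hv : ∃ R : Subgroup G, PSS (S : Subgroup G) R ∧ ¬ zl (S : Subgroup G) R ≤ VB (S : Subgroup G)) :
    ∃ P, HypL S P := by
  have hex : ∃ n, ∃ R : Subgroup G, PSS (S : Subgroup G) R ∧ ¬ lev (S : Subgroup G) (n + 1) ≤ o2 R := by
    obtain ⟨R, hR, hRv⟩ := hv
    rcases exists_lev h.ctx.char2 hR.par hRv with h1 | ⟨n, -, h2, -⟩
    · exact absurd (h.jle R hR.par hR.nonLoc) h1
    · exact ⟨n, R, hR, h2⟩
  classical
  obtain ⟨P, hP, hPn⟩ := Nat.find_spec hex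
  have hle : ∀ R, PSS (S : Subgroup G) R → lev (S : Subgroup G) (Nat.find hex) ≤ o2 R := by
    intro Q hQ
    rcases Nat.eq_zero_or_pos (Nat.find hex) with h0 | h0
    · rw [h0]; exact h.jle Q hQ.par hQ.nonLoc
    · obtain ⟨m, hm⟩ := Nat.exists_eq_succ_of_ne_zero h0.ne'
      have hmin := Nat.find_min hex (m := m) (by omega)
      push Not at hmin
      rw [hm]
      exact hmin Q hQ
  exact ⟨P, { toHypF := { toHypN := h.hypN hP.par hP.nonLoc, four := fun R hR => h.four R hR.par hR.nonLoc }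
              stage := Or.inr ⟨_, ThmB.Main.hpar_hypC h hP.par hP.nonLoc (fun R h1 h2 => hle R ⟨h1, h2⟩) hPn, hPn⟩ }⟩

end facts

/-- **FULL**: `[w, K_R] = R` for all `w ∈ W_R - R`; `W_R` = the product of the lines through `R`, `K_R` = the kernel of
`C_G(R)` on `W_R / R`. In the texts: "`N_p = p` and `K_p` is full". -/
def FullK {G : Type u} [Group G] (V R : Subgroup G) : Prop :=
  ∀ w ∈ PT.ws V R, w ∉ R → ∀ r ∈ R, ∃ k ∈ PT.kx V R, k * w * k⁻¹ * w⁻¹ = r

/-- `N_R = R` -/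
theorem FullK.ntr {G : Type u} [Group G] {V R : Subgroup G} (h : FullK V R) (hR : R ≠ ⊥) {w : G}
    (hw : w ∈ PT.ws V R) (hc : ∀ k ∈ PT.kx V R, k * w = w * k) : w ∈ R := by
  by_contra hn
  obtain ⟨r, hr, hr1⟩ := R.bot_or_exists_ne_one.resolve_left hR
  obtain ⟨k, hk, hkw⟩ := h w hw hn r hr
  apply hr1
  rw [← hkw, hc k hk]
  group

/-- `|R| = 2`: `N_R = R` is enough. -/
theorem fullK_of_ntr {G : Type u} [Group G] {V R : Subgroup G} (hR : Nat.card R = 2)
    (h : ∀ w ∈ PT.ws V R, (∀ k ∈ PT.kx V R, k * w = w * k) → w ∈ R) : FullK V R := by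
  intro w hw hwR r hr
  have h2 : ¬ ∀ k ∈ PT.kx V R, k * w = w * k := fun hc => hwR (h w hw hc)
  by_cases hr1 : r = 1
  · exact ⟨1, one_mem _, by rw [hr1]; group⟩
  push Not at h2
  obtain ⟨k, hk, hkw⟩ := h2
  refine ⟨k, hk, ?_⟩
  have h3 : k * w * k⁻¹ * w⁻¹ ∈ R := hk.2 w hw
  have h4 : k * w * k⁻¹ * w⁻¹ ≠ 1 := fun e => hkw (by
    calc k * w = (k * w * k⁻¹ * w⁻¹) * (w * k) := by group
      _ = w * k := by rw [e, one_mul])
  obtain ⟨y, -, hy⟩ := (Nat.card_eq_two_iff' (1 : R)).1 hR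
  have e1 := hy ⟨_, h3⟩ (fun e => h4 (congrArg Subtype.val e))
  have e2 := hy ⟨r, hr⟩ (fun e => hr1 (congrArg Subtype.val e))
  exact congrArg Subtype.val (e1.trans e2.symm)

/-- **The `(R, B)`-frame for a natural line** (helper973 #16714; `NO3S/PB/*.lean`): points are the conjugates of `R`. -/
structure FrB (F : Type) [Field F] {G : Type u} [Group G] [Finite G] (S : Sylow 2 G) (P B R : Subgroup G) :
    Prop where
  pb : PT.PB S B P (zl (S : Subgroup G) P) R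
  om : PT.OmB B (zl (S : Subgroup G) P)
  card : Nat.card R = Nat.card F
  /-- LEMMA UNIQ over `B` (helper749, `Fld/UniqB.lean`, `Fld/UniqLev.lean`) -/
  uniq : ∀ Q : Subgroup G, IsParS (S : Subgroup G) Q →
    Q ≤ normalizer (R : Set G) ∨ zl (S : Subgroup G) Q = zl (S : Subgroup G) P

section frame

variable {F : Type} [Field F] {G : Type u} [Group G] [Finite G] {S : Sylow 2 G} {P B R : Subgroup G}

/-- The geometry of the points `R^g`: the first argument is `B`. -/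
theorem FrB.geo (h : FrB F S P B R) (hp : Hyp S P) : Geo B R (normalizer (R : Set G)) {P} := h.pb.geo hp

theorem FrB.exists_crit (h : FrB F S P B R) (hp : Hyp S P) :
    ∃ n, 1 ≤ n ∧ ∃ y, Crit R (normalizer (R : Set G)) {P} n 1 y := h.pb.exists_crit hp

end frame

end Cfsg.Agent.Omega.NO3S

end

section


/-!
# THEOREM B at the limit level

* `zl_le_VB` : `V_R ≤ V^!(S)` for all `R ∈ P**` implies the same for all `R ∈ P*(S)` (some `P ∈ P**` with `|Z| = 2` or
  `V_P` of the types of the FF theorem);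
* `le_norm_lim_hypC` : then all of `P*(S)` normalises `lim S` and `V^!(S)`.
-/

set_option autoImplicit false
set_option linter.unusedSectionVars false

namespace Cfsg.Agent.Omega.NO3S.ThmB.Limit

open Subgroup Cfsg Cfsg.Agent.ZN Cfsg.Agent.ZN.ChoiceBase Cfsg.Agent.Omega.MinPar
open Cfsg.Agent.Omega.NO3S Cfsg.Agent.Omega.NO3S.ThmB Cfsg.Agent.Omega.NO3S.ThmB.Main
open Cfsg.Agent.Omega.FrameNOFF (CZ)

universe u

variable {G : Type u} [Group G] [Finite G] {S : Sylow 2 G} {P : Subgroup G}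

/-- **The limit level**: if `lim S ≤ O₂(R)` for all `R ∈ P**`, then for all `R ∈ P*(S)`. -/
theorem lim_le (h : HypN S P) (hty : Ty (S : Subgroup G) P)
    (hV : ∀ R : Subgroup G, IsParS (S : Subgroup G) R → NonLoc R (CZ (S : Subgroup G)) →
      zl (S : Subgroup G) R ≤ Level.VB (S : Subgroup G)) :
    ∀ R : Subgroup G, IsParS (S : Subgroup G) R → Level.lim (S : Subgroup G) ≤ o2 R := by
  intro R hR
  have key := hpar h hty (n := Nat.card G + 1) fun R hR hRn => by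
    rw [Level.lev_lim]
    exact (Level.zl_le_VB_iff h.ctx.char2 hR).1 (hV R hR hRn)
  have h1 := key R hR
  rwa [Level.lev_lim] at h1

/-- **The limit level**: if `V_R ≤ V^!(S)` for all `R ∈ P**`, then for all `R ∈ P*(S)`. -/
theorem zl_le_VB (h : HypN S P) (hty : Ty (S : Subgroup G) P)
    (hV : ∀ R : Subgroup G, IsParS (S : Subgroup G) R → NonLoc R (CZ (S : Subgroup G)) →
      zl (S : Subgroup G) R ≤ Level.VB (S : Subgroup G)) :
    ∀ R : Subgroup G, IsParS (S : Subgroup G) R → zl (S : Subgroup G) R ≤ Level.VB (S : Subgroup G) :=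
  fun R hR => (Level.zl_le_VB_iff h.ctx.char2 hR).2 (lim_le h hty hV R hR)

/-- The type condition over `HypC`, `P ∈ P**` an FF-line (`FFMod`). -/
theorem ty_of_ffMod (h : HypN S P) (hff : FFMod (S : Subgroup G) P) : Ty (S : Subgroup G) P :=
  Or.inr (h.toHyp.ff FF.Glob.ffthmM hff).2

/-- **The limit level over `HypC`**, `P ∈ P**` an FF-line (`FFMod`). -/
theorem zl_le_VB_hypC (h : HypC S) (hP : IsParS (S : Subgroup G) P) (hPn : NonLoc P (CZ (S : Subgroup G)))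
    (hff : FFMod (S : Subgroup G) P)
    (hV : ∀ R : Subgroup G, IsParS (S : Subgroup G) R → NonLoc R (CZ (S : Subgroup G)) →
      zl (S : Subgroup G) R ≤ Level.VB (S : Subgroup G)) :
    ∀ R : Subgroup G, IsParS (S : Subgroup G) R → zl (S : Subgroup G) R ≤ Level.VB (S : Subgroup G) :=
  zl_le_VB (h.hypN hP hPn) (ty_of_ffMod (h.hypN hP hPn) hff) hV

/-- Then all of `P*(S)` and `N_G(S)` normalise `lim S` and `V^!(S)`. -/
theorem le_norm_lim_hypC (h : HypC S) (hP : IsParS (S : Subgroup G) P) (hPn : NonLoc P (CZ (S : Subgroup G)))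
    (hff : FFMod (S : Subgroup G) P)
    (hV : ∀ R : Subgroup G, IsParS (S : Subgroup G) R → NonLoc R (CZ (S : Subgroup G)) →
      zl (S : Subgroup G) R ≤ Level.VB (S : Subgroup G)) :
    ∀ R : Subgroup G, IsParS (S : Subgroup G) R →
      R ≤ normalizer (Level.lim (S : Subgroup G) : Set G) ∧ R ≤ normalizer (Level.VB (S : Subgroup G) : Set G) :=
  fun R hR =>
    have h1 := Level.le_norm_lim h.ctx.char2 hR (zl_le_VB_hypC h hP hPn hff hV R hR)
    ⟨h1, h1.trans (Level.norm_lim_le _)⟩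

end Cfsg.Agent.Omega.NO3S.ThmB.Limit

end

section


/-!
# `FullK` for `|V_P| = 4` in the language of `MinSimple/Geo.lean`

* `ws_eq`, `kq_eq` : `Geo.ws V z = PT.ws V ⟨z⟩`, `Geo.kq V z = PT.kx V ⟨z⟩`;
* `zc_eq` : `Ω₁(Z(S)) = ⟨z⟩` if `|V_P| = 4`;
* `fullK_iff` : `FullK V_P Ω₁(Z(S))` iff `N_z = z`, i.e. every `w ∈ W_z` centralised by `kq V_P z` is in `⟨z⟩`.
-/

set_option autoImplicit false

namespace Cfsg.Agent.Omega.NO3S.FullTwo

open Subgroup Cfsg Cfsg.Agent.ZN Cfsg.Agent.Omega.MinPar Cfsg.Agent.MinSimple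
open Cfsg.Agent.MinSimple.VModule (zc_le_zl zc_sq)

universe u

section basic

variable {G : Type*} [Group G]

theorem cj_eq (g : G) (H : Subgroup G) : ChoiceBase.cj g H = PT.cj g H := by
  ext x
  rw [PT.mem_cj, ChoiceBase.mem_cj]

theorem ws_eq (V : Subgroup G) (z : G) : Geo.ws V z = PT.ws V (zpowers z) := by
  have h : Geo.lines V z = {L | PT.IsCj V L ∧ zpowers z ≤ L} := by
    ext L
    constructor
    · rintro ⟨⟨g, hg⟩, hz⟩
      exact ⟨⟨g, hg.trans (cj_eq g V)⟩, zpowers_le.2 hz⟩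
    · rintro ⟨⟨g, hg⟩, hz⟩
      exact ⟨⟨g, hg.trans (cj_eq g V).symm⟩, zpowers_le.1 hz⟩
  show sSup (Geo.lines V z) = sSup {L | PT.IsCj V L ∧ zpowers z ≤ L}
  rw [h]

theorem kq_eq (V : Subgroup G) (z : G) : Geo.kq V z = PT.kx V (zpowers z) := by
  ext c
  constructor
  · rintro ⟨h1, h2, -⟩
    refine ⟨fun x hx => ?_, fun w hw => h2 w (by rw [ws_eq]; exact hw)⟩
    obtain ⟨n, rfl⟩ := mem_zpowers_iff.1 hx
    have h : Commute c z := mem_centralizer_singleton_iff.1 h1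
    exact (h.zpow_right n).eq
  · intro h
    have h' := (PT.kx V (zpowers z)).inv_mem h
    refine ⟨mem_centralizer_singleton_iff.2 (h.1 z (mem_zpowers z)), fun w hw => h.2 w (by rwa [← ws_eq]),
      fun w hw => ?_⟩
    have h1 := h'.2 w (by rwa [← ws_eq])
    rwa [inv_inv] at h1

end basic

variable {G : Type u} [Group G] [Finite G] {S : Sylow 2 G} {P : Subgroup G}

theorem zc_eq (h : Hyp S P) (hc : Nat.card (zl (S : Subgroup G) P) = 4) {z : G} (hz : z ∈ zc (S : Subgroup G))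
    (hz1 : z ≠ 1) : zc (S : Subgroup G) = zpowers z := by
  apply le_antisymm
  · intro x hx
    by_cases hx1 : x = 1
    · rw [hx1]; exact one_mem _
    · rw [eq_of_zc_four h.ctx h.star h.nonLoc hc hz hz1 hx hx1]; exact mem_zpowers z
  · exact zpowers_le.2 hz

theorem card_zc (h : Hyp S P) (hc : Nat.card (zl (S : Subgroup G) P) = 4) : Nat.card (zc (S : Subgroup G)) = 2 := by
  obtain ⟨z, hz1⟩ := Subgroup.ne_bot_iff_exists_ne_one.1
    (MinSimple.Basic.zc_ne_bot S.isPGroup' (h.ctx.sylow_ne_bot S))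
  have hz1' : (z : G) ≠ 1 := fun e => hz1 (Subtype.ext e)
  rw [zc_eq h hc z.2 hz1', Nat.card_zpowers]
  exact orderOf_eq_prime (MinSimple.VModule.zc_sq _ _ z.2) hz1'

/-- **`FullK` for `|V_P| = 4`**: `N_z = z`. -/
theorem fullK_iff (h : Hyp S P) (hc : Nat.card (zl (S : Subgroup G) P) = 4) {z : G}
    (hz : z ∈ zc (S : Subgroup G)) (hz1 : z ≠ 1) :
    FullK (zl (S : Subgroup G) P) (zc (S : Subgroup G)) ↔
      ∀ w ∈ Geo.ws (zl (S : Subgroup G) P) z, (∀ k ∈ Geo.kq (zl (S : Subgroup G) P) z, k * w = w * k) →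
        w ∈ zpowers z := by
  have h2 := card_zc h hc
  rw [zc_eq h hc hz hz1] at h2 ⊢
  have hne : zpowers z ≠ ⊥ := by rw [Ne, zpowers_eq_bot]; exact hz1
  constructor
  · intro hf w hw hk
    exact hf.ntr hne (by rwa [← ws_eq]) fun k hk' => hk k (by rwa [kq_eq])
  · intro hn
    refine fullK_of_ntr h2 fun w hw hk => hn w (by rwa [ws_eq]) fun k hk' => hk k (by rwa [← kq_eq])

end Cfsg.Agent.Omega.NO3S.FullTwo

end
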