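import Cfsg.Agent.ZN.ChoiceBase

section


/-!
# THEOREM B, abstract part

`P, P'` are subgroups over `S`, `U` is an elementary abelian group normalised by `P` and `P'`, `V ≤ U` is normalised by
`P'`; `DD` is a family of subgroups of `J ≤ S` which is invariant under `P`, and under `P'` as far as its members
centralise `V`.  A member which does not centralise `V` satisfies `U = V C_U(A)`; `J` acts on `V` in such a way that
an element which centralises `C_V(A)` acts on `V` like an element of `A`; `[V, A]` is centralised by `J`.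

* `Fam.Fr A` : `A ∈ DD` does not centralise `V`;
* `Fam.uniq` : `D` a `P`-conjugate of such an `A`; `e ∈ J` centralises `C_U(D)`: `e` acts on `U` like an element of `D`;
* `Fam.four` : if `D` centralises `V`, then `[U, D]` is centralised by all `B^h`, `Fr B`, `h ∈ K1 = ⟨B^y : y ∈ P'⟩`;
* `KK` is the group generated by these `B^h`.
-/

set_option autoImplicit false

namespace Cfsg.Agent.Omega.NO3S.ThmB

open Subgroup Cfsg Cfsg.Agent.ZN Cfsg.Agent.ZN.ChoiceBase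

universe u

variable {G : Type u} [Group G]

/-- `A` is a member of `DD` which does not centralise `V`. -/
def Fr (V : Subgroup G) (DD : Set (Subgroup G)) (A : Subgroup G) : Prop :=
  A ∈ DD ∧ ¬ A ≤ centralizer (V : Set G)

/-- The situation of THEOREM B. -/
structure Fam (S P P' U V J : Subgroup G) (DD : Set (Subgroup G)) : Prop where
  SP : S ≤ P
  SP' : S ≤ P'
  JS : J ≤ S
  JP : P ≤ normalizer (J : Set G)
  DJ : ∀ A ∈ DD, A ≤ J
  DP : ∀ A ∈ DD, ∀ g ∈ P, cj g A ∈ DD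
  DP' : ∀ A ∈ DD, A ≤ centralizer (V : Set G) → ∀ h ∈ P', cj h A ∈ DD
  U2 : IsElementaryAbelian 2 U
  UP : P ≤ normalizer (U : Set G)
  UP' : P' ≤ normalizer (U : Set G)
  VU : V ≤ U
  VP' : P' ≤ normalizer (V : Set G)
  ex : ∃ A, Fr V DD A
  full : ∀ A, Fr V DD A → ∀ u ∈ U, ∃ v ∈ V, ∃ c ∈ U, (∀ a ∈ A, a * c = c * a) ∧ u = v * c
  uq : ∀ A, Fr V DD A → ∀ e ∈ J,
    (∀ v ∈ V, (∀ a ∈ A, a * v = v * a) → e * v = v * e) → ∃ a ∈ A, ∀ v ∈ V, e * v * e⁻¹ = a * v * a⁻¹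
  cJ : ∀ A, Fr V DD A → ∀ x ∈ ⁅V, A⁆, ∀ e ∈ J, e * x = x * e

theorem elem_comm {A : Subgroup G} (hA : IsElementaryAbelian 2 A) {a b : G} (ha : a ∈ A) (hb : b ∈ A) :
    a * b = b * a := congrArg Subtype.val (hA.1.is_comm.comm ⟨a, ha⟩ ⟨b, hb⟩)

theorem conj_mem {P V : Subgroup G} (h : P ≤ normalizer (V : Set G)) {g v : G} (hg : g ∈ P) (hv : v ∈ V) :
    g * v * g⁻¹ ∈ V := (mem_normalizer_iff.1 (h hg) v).1 hv

theorem conj_mem' {P V : Subgroup G} (h : P ≤ normalizer (V : Set G)) {g v : G} (hg : g ∈ P) (hv : v ∈ V) :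
    g⁻¹ * v * g ∈ V := by
  have h1 := conj_mem h (inv_mem hg) hv
  rwa [inv_inv] at h1

theorem mem_cj_of {g x : G} {H : Subgroup G} (hx : x ∈ H) : g * x * g⁻¹ ∈ cj g H := by
  rw [mem_cj]
  have e : g⁻¹ * (g * x * g⁻¹) * g = x := by group
  rw [e]
  exact hx

theorem exists_of_mem_cj {g x : G} {H : Subgroup G} (hx : x ∈ cj g H) : ∃ y ∈ H, x = g * y * g⁻¹ :=
  ⟨g⁻¹ * x * g, mem_cj.1 hx, by group⟩

theorem cj_comm (g : G) (H K : Subgroup G) : cj g ⁅H, K⁆ = ⁅cj g H, cj g K⁆ := map_commutator _ _ _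

theorem mem_comm {H K : Subgroup G} {u a : G} (hu : u ∈ H) (ha : a ∈ K) : u * a * u⁻¹ * a⁻¹ ∈ ⁅H, K⁆ := by
  have h := commutator_mem_commutator hu ha
  rwa [commutatorElement_def] at h

theorem comm_le {H K L : Subgroup G} (h : ∀ u ∈ H, ∀ a ∈ K, u * a * u⁻¹ * a⁻¹ ∈ L) : ⁅H, K⁆ ≤ L := by
  rw [commutator_le]
  intro u hu a ha
  rw [commutatorElement_def]
  exact h u hu a ha

/-- `c` commutes with `a` iff the conjugates commute. -/
theorem comm_conj {g a c : G} (h : a * c = c * a) : (g * a * g⁻¹) * (g * c * g⁻¹) = (g * c * g⁻¹) * (g * a * g⁻¹) := by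
  have e1 : (g * a * g⁻¹) * (g * c * g⁻¹) = g * (a * c) * g⁻¹ := by group
  have e2 : (g * c * g⁻¹) * (g * a * g⁻¹) = g * (c * a) * g⁻¹ := by group
  rw [e1, e2, h]

/-- the group generated by the `P'`-conjugates of the members of `DD` which do not centralise `V` -/
def K1 (P' V : Subgroup G) (DD : Set (Subgroup G)) : Subgroup G :=
  closure {x | ∃ B, Fr V DD B ∧ ∃ y ∈ P', x ∈ cj y B}

/-- the group generated by the `K1`-conjugates of the members of `DD` which do not centralise `V` -/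
def KK (P' V : Subgroup G) (DD : Set (Subgroup G)) : Subgroup G :=
  closure {x | ∃ B, Fr V DD B ∧ ∃ y ∈ K1 P' V DD, x ∈ cj y B}

namespace Fam

variable {S P P' U V J : Subgroup G} {DD : Set (Subgroup G)} (F : Fam S P P' U V J DD)

include F

theorem comm {a b : G} (ha : a ∈ U) (hb : b ∈ U) : a * b = b * a := elem_comm F.U2 ha hb

theorem DS {A : Subgroup G} (hA : A ∈ DD) : A ≤ S := (F.DJ A hA).trans F.JS

theorem commutator_eq {A : Subgroup G} (hA : Fr V DD A) : ⁅U, A⁆ = ⁅V, A⁆ := by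
  apply le_antisymm
  · refine comm_le fun u hu a ha => ?_
    obtain ⟨v, hv, c, hc, hac, rfl⟩ := F.full A hA u hu
    have e : v * c * a * (v * c)⁻¹ * a⁻¹ = v * a * v⁻¹ * a⁻¹ := by
      have h1 := hac a ha
      calc v * c * a * (v * c)⁻¹ * a⁻¹ = v * (c * a) * c⁻¹ * v⁻¹ * a⁻¹ := by group
        _ = v * (a * c) * c⁻¹ * v⁻¹ * a⁻¹ := by rw [h1]
        _ = v * a * v⁻¹ * a⁻¹ := by group
    rw [e]
    exact mem_comm hv ha
  · exact commutator_mono F.VU le_rfl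

theorem K1_le : K1 P' V DD ≤ P' := by
  rw [K1, closure_le]
  rintro x ⟨B, hB, y, hy, hx⟩
  obtain ⟨b, hb, rfl⟩ := exists_of_mem_cj hx
  exact mul_mem (mul_mem hy (F.SP' (F.DS hB.1 hb))) (inv_mem hy)

theorem K1_act {h : G} (hh : h ∈ K1 P' V DD) : ∀ u ∈ U, h * u * h⁻¹ * u⁻¹ ∈ V := by
  have hP := F.K1_le
  induction hh using closure_induction with
  | mem x hx =>
    obtain ⟨B, hB, y, hy, hx⟩ := hx
    obtain ⟨b, hb, rfl⟩ := exists_of_mem_cj hx
    intro u hu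
    obtain ⟨v, hv, c, hc, hbc, e⟩ := F.full B hB _ (conj_mem' F.UP' hy hu)
    have hbP : b ∈ P' := F.SP' (F.DS hB.1 hb)
    have h1 : b * (v * c) * b⁻¹ * (v * c)⁻¹ ∈ V := by
      have e1 : b * (v * c) * b⁻¹ * (v * c)⁻¹ = (b * v * b⁻¹) * v⁻¹ := by
        calc b * (v * c) * b⁻¹ * (v * c)⁻¹ = b * v * (c * b⁻¹) * c⁻¹ * v⁻¹ := by group
          _ = b * v * (b⁻¹ * (b * c) * b⁻¹) * c⁻¹ * v⁻¹ := by group
          _ = b * v * (b⁻¹ * (c * b) * b⁻¹) * c⁻¹ * v⁻¹ := by rw [hbc b hb]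
          _ = (b * v * b⁻¹) * v⁻¹ := by group
      rw [e1]
      exact mul_mem (conj_mem F.VP' hbP hv) (inv_mem hv)
    rw [← e] at h1
    have h2 := conj_mem F.VP' hy h1
    have e2 : y * (b * (y⁻¹ * u * y) * b⁻¹ * (y⁻¹ * u * y)⁻¹) * y⁻¹ =
        y * b * y⁻¹ * u * (y * b * y⁻¹)⁻¹ * u⁻¹ := by group
    rwa [e2] at h2
  | one => intro u _; simp
  | mul x y hx hy ihx ihy =>
    intro u hu
    have hyP := hP hy
    have hxP := hP hx
    have h1 := conj_mem F.VP' hxP (ihy u hu)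
    have h2 := ihx u hu
    have e : x * y * u * (x * y)⁻¹ * u⁻¹ = x * (y * u * y⁻¹ * u⁻¹) * x⁻¹ * (x * u * x⁻¹ * u⁻¹) := by group
    rw [e]
    exact mul_mem h1 h2
  | inv x hx ih =>
    intro u hu
    have e2 : x⁻¹ * u * x⁻¹⁻¹ * u⁻¹ = (x * (x⁻¹ * u * x) * x⁻¹ * (x⁻¹ * u * x)⁻¹)⁻¹ := by group
    rw [e2]
    exact inv_mem (ih _ (conj_mem' F.UP' (hP hx) hu))

/-- (3) -/
theorem uniq {A : Subgroup G} (hA : Fr V DD A) {g : G} (hg : g ∈ P) {e : G} (he : e ∈ J)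
    (hc : ∀ u ∈ U, (∀ a ∈ cj g A, a * u = u * a) → e * u = u * e) :
    ∃ a ∈ cj g A, ∀ u ∈ U, e * u * e⁻¹ = a * u * a⁻¹ := by
  -- `e' = e^g` centralises `C_U(A)`
  have he' : g⁻¹ * e * g ∈ J := conj_mem' F.JP hg he
  have hc' : ∀ u ∈ U, (∀ a ∈ A, a * u = u * a) → (g⁻¹ * e * g) * u = u * (g⁻¹ * e * g) := by
    intro u hu hau
    have h1 := hc (g * u * g⁻¹) (conj_mem F.UP hg hu) fun a ha => by
      obtain ⟨b, hb, rfl⟩ := exists_of_mem_cj ha
      exact comm_conj (hau b hb)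
    have h2 := comm_conj (g := g⁻¹) h1
    have e1 : g⁻¹ * (g * u * g⁻¹) * g⁻¹⁻¹ = u := by group
    have e2 : g⁻¹ * e * g⁻¹⁻¹ = g⁻¹ * e * g := by group
    rwa [e1, e2] at h2
  obtain ⟨a, ha, hav⟩ := F.uq A hA _ he' fun v hv h => hc' v (F.VU hv) h
  refine ⟨g * a * g⁻¹, mem_cj_of ha, fun u hu => ?_⟩
  obtain ⟨v, hv, c, hcU, hac, huv⟩ := F.full A hA _ (conj_mem' F.UP hg hu)
  have h1 := hav v hv
  have h2 := hc' c hcU hac
  have h3 : (g⁻¹ * e * g) * (v * c) * (g⁻¹ * e * g)⁻¹ = a * (v * c) * a⁻¹ := by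
    have e1 : ∀ x : G, x * c = c * x → x * (v * c) * x⁻¹ = (x * v * x⁻¹) * c := by
      intro x hx
      calc x * (v * c) * x⁻¹ = x * v * (c * x⁻¹) := by group
        _ = x * v * (x⁻¹ * (x * c) * x⁻¹) := by group
        _ = x * v * (x⁻¹ * (c * x) * x⁻¹) := by rw [hx]
        _ = (x * v * x⁻¹) * c := by group
    rw [e1 _ h2, e1 _ (hac a ha), h1]
  rw [← huv] at h3
  have h4 := congrArg (fun t => g * t * g⁻¹) h3
  have e3 : g * (g⁻¹ * e * g * (g⁻¹ * u * g) * (g⁻¹ * e * g)⁻¹) * g⁻¹ = e * u * e⁻¹ := by group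
  have e4 : g * (a * (g⁻¹ * u * g) * a⁻¹) * g⁻¹ = g * a * g⁻¹ * u * (g * a * g⁻¹)⁻¹ := by group
  simp only [e3, e4] at h4
  exact h4

theorem cJU {A : Subgroup G} (hA : Fr V DD A) {g : G} (hg : g ∈ P) {x : G} (hx : x ∈ ⁅U, cj g A⁆) {e : G}
    (he : e ∈ J) : e * x = x * e := by
  have h1 : ⁅U, cj g A⁆ = cj g ⁅V, A⁆ := by
    rw [← F.commutator_eq hA, cj_comm, cj_eq_of_mem_normalizer (F.UP hg)]
  rw [h1] at hx
  obtain ⟨y, hy, rfl⟩ := exists_of_mem_cj hx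
  have h2 := comm_conj (g := g) (F.cJ A hA y hy _ (conj_mem' F.JP hg he))
  have e1 : g * (g⁻¹ * e * g) * g⁻¹ = e := by group
  rwa [e1] at h2

/-- `[U, D]` is `K1`-invariant if `D` centralises `V`. -/
theorem K1_inv {A : Subgroup G} (hA : Fr V DD A) {g : G} (hg : g ∈ P)
    (hV : cj g A ≤ centralizer (V : Set G)) {h : G} (hh : h ∈ K1 P' V DD) {x : G} (hx : x ∈ ⁅U, cj g A⁆) :
    h * x * h⁻¹ ∈ ⁅U, cj g A⁆ := by
  have hhP : h ∈ P' := F.K1_le hh
  have hle : cj h ⁅U, cj g A⁆ ≤ ⁅U, cj g A⁆ := by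
    rw [cj_comm, cj_eq_of_mem_normalizer (F.UP' hhP)]
    refine comm_le fun u hu e he => ?_
    have heJ : e ∈ J := F.DJ _ (F.DP' _ (F.DP A hA.1 g hg) hV h hhP) he
    obtain ⟨a, ha, hau⟩ := F.uniq hA hg heJ (fun w hw haw => by
      -- `w` centralised by `A^g`: so `w^(h⁻¹)` is, and `e` centralises `w`
      obtain ⟨b, hb, rfl⟩ := exists_of_mem_cj he
      have h1 := F.K1_act (inv_mem hh) w hw
      rw [inv_inv] at h1
      have h2 : b * (h⁻¹ * w * h * w⁻¹) = (h⁻¹ * w * h * w⁻¹) * b :=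
        ((mem_centralizer_iff.1 (hV hb)) _ h1).symm
      have h3 : b * w = w * b := haw b hb
      have h4 : b * (h⁻¹ * w * h) = (h⁻¹ * w * h) * b := by
        calc b * (h⁻¹ * w * h) = b * (h⁻¹ * w * h * w⁻¹) * w := by group
          _ = (h⁻¹ * w * h * w⁻¹) * (b * w) := by rw [h2]; group
          _ = (h⁻¹ * w * h * w⁻¹) * (w * b) := by rw [h3]
          _ = (h⁻¹ * w * h) * b := by group
      have h5 := comm_conj (g := h) h4
      have e1 : h * (h⁻¹ * w * h) * h⁻¹ = w := by group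
      rwa [e1] at h5)
    have h6 := hau u hu
    have e2 : u * e * u⁻¹ * e⁻¹ = u * a * u⁻¹ * a⁻¹ := by
      have h7 : e * u⁻¹ * e⁻¹ = a * u⁻¹ * a⁻¹ := by
        have e3 : e * u⁻¹ * e⁻¹ = (e * u * e⁻¹)⁻¹ := by group
        have e4 : a * u⁻¹ * a⁻¹ = (a * u * a⁻¹)⁻¹ := by group
        rw [e3, e4, h6]
      calc u * e * u⁻¹ * e⁻¹ = u * (e * u⁻¹ * e⁻¹) := by group
        _ = u * (a * u⁻¹ * a⁻¹) := by rw [h7]
        _ = u * a * u⁻¹ * a⁻¹ := by group
    rw [e2]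
    exact mem_comm hu ha
  exact hle (mem_cj_of hx)

/-- (4) -/
theorem four {A : Subgroup G} (hA : Fr V DD A) {g : G} (hg : g ∈ P)
    (hV : cj g A ≤ centralizer (V : Set G)) {x : G} (hx : x ∈ ⁅U, cj g A⁆) {k : G} (hk : k ∈ KK P' V DD) :
    k * x = x * k := by
  induction hk using closure_induction with
  | mem k hk =>
    obtain ⟨B, hB, h, hh, hk⟩ := hk
    obtain ⟨b, hb, rfl⟩ := exists_of_mem_cj hk
    have h1 := F.K1_inv hA hg hV (inv_mem hh) hx
    have h2 := F.cJU hA hg h1 (F.DJ B hB.1 hb)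
    have h3 := comm_conj (g := h) h2
    have e1 : h * (h⁻¹ * x * h⁻¹⁻¹) * h⁻¹ = x := by group
    rwa [e1] at h3
  | one => simp
  | mul a b _ _ iha ihb => rw [mul_assoc, ihb, ← mul_assoc, iha, mul_assoc]
  | inv a _ iha =>
    calc a⁻¹ * x = a⁻¹ * (x * a) * a⁻¹ := by group
      _ = a⁻¹ * (a * x) * a⁻¹ := by rw [iha]
      _ = x * a⁻¹ := by group

end Fam

end Cfsg.Agent.Omega.NO3S.ThmB

end

section


/-!
# THEOREM B, (6): a fixed point of `P`

`W` = the set of nontrivial elements of the groups `[V, B]`, `B ∈ DD` not centralising `V`.  If the product of the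
elements of `W` is not centralised by `KK`, then `C_U(P) ≠ 1`: the product of the nontrivial
elements of the groups `[U, B^g]`, `g ∈ P`, is `P`-invariant and not `1`.
-/

set_option autoImplicit false

namespace Cfsg.Agent.Omega.NO3S.ThmB

open Subgroup Cfsg Cfsg.Agent.ZN Cfsg.Agent.ZN.ChoiceBase

universe u

variable {G : Type u} [Group G]

/-- the nontrivial elements of the groups `[V, B]` -/
def WW (V : Subgroup G) (DD : Set (Subgroup G)) : Set G := {x | x ≠ 1 ∧ ∃ B, Fr V DD B ∧ x ∈ ⁅V, B⁆}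

/-- the nontrivial elements of the groups `[U, B^g]`, `g ∈ P` -/
def WP (P U V : Subgroup G) (DD : Set (Subgroup G)) : Set G :=
  {x | x ≠ 1 ∧ ∃ B, Fr V DD B ∧ ∃ g ∈ P, x ∈ ⁅U, cj g B⁆}

namespace Fam

variable {S P P' U V J : Subgroup G} {DD : Set (Subgroup G)} (F : Fam S P P' U V J DD)

include F

theorem WP_sub {x : G} (hx : x ∈ WP P U V DD) : x ∈ U := by
  obtain ⟨-, B, hB, g, hg, hx⟩ := hx
  have h1 : ⁅U, cj g B⁆ ≤ U := comm_le fun u hu a ha => by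
    obtain ⟨b, hb, rfl⟩ := exists_of_mem_cj ha
    have hbP : g * b * g⁻¹ ∈ P := mul_mem (mul_mem hg (F.SP (F.DS hB.1 hb))) (inv_mem hg)
    have h2 := mul_mem hu (conj_mem F.UP hbP (inv_mem hu))
    have e : u * (g * b * g⁻¹ * u⁻¹ * (g * b * g⁻¹)⁻¹) = u * (g * b * g⁻¹) * u⁻¹ * (g * b * g⁻¹)⁻¹ := by group
    rwa [e] at h2
  exact h1 hx

theorem WP_conj {x g : G} (hx : x ∈ WP P U V DD) (hg : g ∈ P) : g * x * g⁻¹ ∈ WP P U V DD := by
  obtain ⟨hx1, B, hB, h, hh, hx⟩ := hx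
  refine ⟨fun h0 => hx1 ?_, B, hB, g * h, mul_mem hg hh, ?_⟩
  · have e : x = g⁻¹ * (g * x * g⁻¹) * g := by group
    rw [e, h0]; group
  · have h1 := mem_cj_of (g := g) hx
    rwa [cj_comm, cj_cj, cj_eq_of_mem_normalizer (F.UP hg)] at h1

theorem WP_cases {x : G} (hx : x ∈ WP P U V DD) : x ∈ WW V DD ∨ ∀ k ∈ KK P' V DD, k * x = x * k := by
  obtain ⟨hx1, B, hB, g, hg, hx⟩ := hx
  by_cases hV : cj g B ≤ centralizer (V : Set G)
  · exact Or.inr fun k hk => F.four hB hg hV hx hk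
  · have hF : Fr V DD (cj g B) := ⟨F.DP B hB.1 g hg, hV⟩
    rw [F.commutator_eq hF] at hx
    exact Or.inl ⟨hx1, _, hF, hx⟩

theorem WW_sub {x : G} (hx : x ∈ WW V DD) : x ∈ WP P U V DD := by
  obtain ⟨hx1, B, hB, hx⟩ := hx
  refine ⟨hx1, B, hB, 1, one_mem _, ?_⟩
  rw [cj_one, F.commutator_eq hB]
  exact hx

theorem WW_V {x : G} (hx : x ∈ WW V DD) : x ∈ V := by
  obtain ⟨-, B, hB, hx⟩ := hx
  have h1 : ⁅V, B⁆ ≤ V := comm_le fun u hu b hb => by
    have h2 := mul_mem hu (conj_mem F.VP' (F.SP' (F.DS hB.1 hb)) (inv_mem hu))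
    have e : u * (b * u⁻¹ * b⁻¹) = u * b * u⁻¹ * b⁻¹ := by group
    rwa [e] at h2
  exact h1 hx

open Classical in
/-- **(6)**: `C_U(P) ≠ 1`. -/
theorem exists_fix [Fintype G] {M : Type*} [AddCommGroup M] (f : G → M) (hf : ∀ v ∈ V, ∀ w ∈ V, f (v * w) = f v + f w)
    (hk : ∀ v ∈ V, (∀ k ∈ KK P' V DD, k * v = v * k) → f v = 0)
    (n2 : ∑ x ∈ Finset.univ.filter (fun x => x ∈ WW V DD), f x ≠ 0) :
    ∃ z ∈ U, z ≠ 1 ∧ ∀ g ∈ P, g * z = z * g := by
  let _ : CommGroup U := { (inferInstance : Group U) with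
    mul_comm := fun a b => Subtype.ext (F.comm a.2 b.2) }
  let A : Finset U := Finset.univ.filter fun x => (x : G) ∈ WP P U V DD
  let z : U := ∏ x ∈ A, x
  -- invariance
  have hinv : ∀ g ∈ P, g * (z : G) * g⁻¹ = z := by
    intro g hg
    let φ : U →* U :=
      { toFun := fun x => ⟨g * x * g⁻¹, conj_mem F.UP hg x.2⟩
        map_one' := Subtype.ext (by simp)
        map_mul' := fun x y => Subtype.ext (by
          change g * ((x : G) * y) * g⁻¹ = g * x * g⁻¹ * (g * y * g⁻¹)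
          group) }
    have h1 : φ z = z := by
      have h2 : φ z = ∏ x ∈ A, φ x := map_prod φ _ _
      rw [h2]
      refine Finset.prod_bij (fun x _ => φ x) (fun x hx => ?_) (fun x _ y _ hxy => ?_) (fun y hy => ?_)
        (fun x _ => rfl)
      · have h3 : (x : G) ∈ WP P U V DD := (Finset.mem_filter.1 hx).2
        exact Finset.mem_filter.2 ⟨Finset.mem_univ _, F.WP_conj h3 hg⟩
      · have h3 : g * (x : G) * g⁻¹ = g * y * g⁻¹ := congrArg Subtype.val hxy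
        exact Subtype.ext (mul_left_cancel (mul_right_cancel h3))
      · have h3 : (y : G) ∈ WP P U V DD := (Finset.mem_filter.1 hy).2
        have h4 := F.WP_conj h3 (inv_mem hg)
        refine ⟨⟨g⁻¹ * y * g⁻¹⁻¹, F.WP_sub h4⟩, Finset.mem_filter.2 ⟨Finset.mem_univ _, h4⟩, ?_⟩
        refine Subtype.ext ?_
        change g * (g⁻¹ * (y : G) * g⁻¹⁻¹) * g⁻¹ = y
        group
    exact congrArg Subtype.val h1
  refine ⟨z, z.2, fun hz1 => ?_, fun g hg => ?_⟩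
  swap
  · have h1 := hinv g hg
    calc g * (z : G) = (g * z * g⁻¹) * g := by group
      _ = z * g := by rw [h1]
  -- split the product
  let A1 : Finset U := A.filter fun x => (x : G) ∈ WW V DD
  let A2 : Finset U := A.filter fun x => ¬ (x : G) ∈ WW V DD
  let z1 : U := ∏ x ∈ A1, x
  let z2 : U := ∏ x ∈ A2, x
  have hsplit : z = z1 * z2 := (Finset.prod_filter_mul_prod_filter_not _ _ _).symm
  -- the subgroup of `U` centralised by `KK`
  let C : Subgroup U := (centralizer ((KK P' V DD : Subgroup G) : Set G)).subgroupOf U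
  have hC : ∀ x : U, x ∈ C ↔ ∀ k ∈ KK P' V DD, k * (x : G) = x * k := fun x => by
    change (x : G) ∈ centralizer _ ↔ _
    rw [mem_centralizer_iff]
    rfl
  have h2 : z2 ∈ C := by
    refine Subgroup.prod_mem _ fun x hx => ?_
    have h3 := (Finset.mem_filter.1 hx).2
    have h4 : (x : G) ∈ WP P U V DD := (Finset.mem_filter.1 (Finset.mem_filter.1 hx).1).2
    rcases F.WP_cases h4 with h5 | h5
    · exact absurd h5 h3
    · exact (hC x).2 h5
  have hz : z = 1 := Subtype.ext hz1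
  have h3 : z1 ∈ C := by
    have h4 : z1 = z2⁻¹ := by rw [hz] at hsplit; exact eq_inv_of_mul_eq_one_left hsplit.symm
    rw [h4]
    exact inv_mem h2
  -- apply `f`
  apply n2
  have h5 : ∀ B : Finset U, (∀ x ∈ B, (x : G) ∈ V) →
      ((∏ x ∈ B, x : U) : G) ∈ V ∧ f ((∏ x ∈ B, x : U) : G) = ∑ x ∈ B, f (x : G) := by
    intro B
    induction B using Finset.induction_on with
    | empty =>
      intro _
      refine ⟨one_mem _, ?_⟩
      rw [Finset.prod_empty, Finset.sum_empty]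
      have h6 := hf 1 (one_mem _) 1 (one_mem _)
      rw [mul_one] at h6
      exact left_eq_add.1 h6
    | insert a B ha ih =>
      intro hB
      have h6 := ih fun x hx => hB x (Finset.mem_insert_of_mem hx)
      have h7 := hB a (Finset.mem_insert_self _ _)
      rw [Finset.prod_insert ha, Finset.sum_insert ha]
      refine ⟨mul_mem h7 h6.1, ?_⟩
      rw [← h6.2]
      exact hf _ h7 _ h6.1
  have h6 := h5 A1 fun x hx => F.WW_V (Finset.mem_filter.1 hx).2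
  have h7 := hk _ h6.1 ((hC _).1 h3)
  rw [h6.2] at h7
  rw [← h7]
  symm
  refine Finset.sum_bij (fun x _ => (x : G)) (fun x hx => ?_) (fun x _ y _ hxy => Subtype.ext hxy) (fun y hy => ?_)
    (fun x _ => rfl)
  · exact Finset.mem_filter.2 ⟨Finset.mem_univ _, (Finset.mem_filter.1 hx).2⟩
  · have h8 := (Finset.mem_filter.1 hy).2
    have h9 := F.WW_sub h8
    exact ⟨⟨y, F.WP_sub h9⟩, Finset.mem_filter.2 ⟨Finset.mem_filter.2 ⟨Finset.mem_univ _, h9⟩, h8⟩, rfl⟩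

end Fam

end Cfsg.Agent.Omega.NO3S.ThmB

end

section


/-!
# THEOREM B, (7): `N_P(S)` transitive on `Z#`

If `N_P(S)` is transitive on `Z#`, then `P` permutes the groups `[V, B]`, `B ∈ DD` not centralising `V`, and `Z` is
contained in their product `M1`.
-/

set_option autoImplicit false

namespace Cfsg.Agent.Omega.NO3S.ThmB

open Subgroup Cfsg Cfsg.Agent.ZN Cfsg.Agent.ZN.ChoiceBase

universe u

variable {G : Type u} [Group G]

/-- the product of the groups `[V, B]` -/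
def M1 (V : Subgroup G) (DD : Set (Subgroup G)) : Subgroup G := closure {x | ∃ B, Fr V DD B ∧ x ∈ ⁅V, B⁆}

/-- `x` is centralised by `KK` -/
def CK (P' V : Subgroup G) (DD : Set (Subgroup G)) : Subgroup G := centralizer ((KK P' V DD : Subgroup G) : Set G)

/-- The hypotheses of (7). -/
structure TrHyp (S P P' U V : Subgroup G) (DD : Set (Subgroup G)) (Z : Subgroup G) : Prop where
  fx : ∀ M : Subgroup G, M ≤ U → S ≤ normalizer (M : Set G) → M ≠ ⊥ → ∃ z ∈ M, z ∈ Z ∧ z ≠ 1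
  nZ : ∀ g ∈ P, g ∈ normalizer (S : Set G) → ∀ z ∈ Z, g * z * g⁻¹ ∈ Z
  tr : ∀ z ∈ Z, ∀ z' ∈ Z, z ≠ 1 → z' ≠ 1 → ∃ g ∈ P, g ∈ normalizer (S : Set G) ∧ g * z * g⁻¹ = z'
  mv : ∃ z ∈ Z, z ∉ CK P' V DD
  orb : ∀ B, Fr V DD B → ∀ B', Fr V DD B' → ∃ s ∈ S, cj s ⁅V, B⁆ = ⁅V, B'⁆
  n0 : ∀ B, Fr V DD B → ¬ ⁅V, B⁆ ≤ CK P' V DD

namespace Fam

variable {S P P' U V J : Subgroup G} {DD : Set (Subgroup G)} (F : Fam S P P' U V J DD)

include F

theorem Fr_conj_S {s : G} (hs : s ∈ S) {B : Subgroup G} (hB : Fr V DD B) : Fr V DD (cj s B) := by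
  refine ⟨F.DP B hB.1 s (F.SP hs), fun h => hB.2 ?_⟩
  rw [cj_le_iff, cj_centralizer, cj_eq_of_mem_normalizer (F.VP' (inv_mem (F.SP' hs)))] at h
  exact h

theorem cen_conj_S {s : G} (hs : s ∈ S) {B : Subgroup G} (hB : B ≤ centralizer (V : Set G)) :
    cj s B ≤ centralizer (V : Set G) := by
  rw [cj_le_iff, cj_centralizer, cj_eq_of_mem_normalizer (F.VP' (inv_mem (F.SP' hs)))]
  exact hB

theorem conj_commutator {B : Subgroup G} (hB : Fr V DD B) {g : G} (hg : g ∈ P) :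
    cj g ⁅V, B⁆ = ⁅U, cj g B⁆ := by
  rw [← F.commutator_eq hB, cj_comm, cj_eq_of_mem_normalizer (F.UP hg)]

theorem le_CK {B : Subgroup G} (hB : Fr V DD B) {g : G} (hg : g ∈ P) (hV : cj g B ≤ centralizer (V : Set G)) :
    ⁅U, cj g B⁆ ≤ CK P' V DD := fun _ hx =>
  mem_centralizer_iff.2 fun _ hk => F.four hB hg hV hx hk

omit F in
theorem le_M1 {B : Subgroup G} (hB : Fr V DD B) : ⁅V, B⁆ ≤ M1 V DD := fun _ hx =>
  subset_closure ⟨B, hB, hx⟩

theorem M1_le : M1 V DD ≤ V := by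
  rw [M1, closure_le]
  rintro x ⟨B, hB, hx⟩
  by_cases h1 : x = 1
  · rw [h1]; exact one_mem _
  · exact F.WW_V ⟨h1, B, hB, hx⟩

omit F in
/-- `M1^g` is generated by the conjugates. -/
theorem cj_M1_le {g : G} {K : Subgroup G} (h : ∀ B, Fr V DD B → cj g ⁅V, B⁆ ≤ K) : cj g (M1 V DD) ≤ K := by
  rw [cj_le_iff, M1, closure_le]
  rintro x ⟨B, hB, hx⟩
  exact (cj_le_iff.1 (h B hB)) hx

variable {Z : Subgroup G} (T : TrHyp S P P' U V DD Z)

include T

/-- step 1 -/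
theorem step1 {τ : G} (hτ : τ ∈ P) (hτS : τ ∈ normalizer (S : Set G)) {B : Subgroup G} (hB : Fr V DD B)
    (h : Fr V DD (cj τ B)) {B' : Subgroup G} (hB' : Fr V DD B') : Fr V DD (cj τ B') := by
  refine ⟨F.DP B' hB'.1 τ hτ, fun hc => ?_⟩
  obtain ⟨s, hs, e⟩ := T.orb B hB B' hB'
  have hs' : τ * s * τ⁻¹ ∈ S := (mem_normalizer_iff.1 hτS s).1 hs
  have h1 := F.Fr_conj_S hs' h
  refine T.n0 _ h1 ?_
  have h2 := F.le_CK hB' hτ hc
  rw [← F.conj_commutator hB' hτ, ← e, cj_cj] at h2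
  have e2 : τ * s = (τ * s * τ⁻¹) * τ := by group
  rw [e2, ← cj_cj, F.conj_commutator hB hτ, F.commutator_eq h, cj_comm,
    cj_eq_of_mem_normalizer (F.VP' (F.SP' hs'))] at h2
  exact h2

omit T in
theorem norm_M1 : S ≤ normalizer (M1 V DD : Set G) := by
  intro s hs
  have h1 : ∀ t ∈ S, cj t (M1 V DD) ≤ M1 V DD := fun t ht => by
    refine cj_M1_le fun B hB => ?_
    rw [cj_comm, cj_eq_of_mem_normalizer (F.VP' (F.SP' ht))]
    exact le_M1 (F.Fr_conj_S ht hB)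
  rw [mem_normalizer_iff_cj]
  refine le_antisymm (h1 s hs) ?_
  have h2 := cj_mono s (h1 s⁻¹ (inv_mem hs))
  rwa [cj_cj_inv] at h2

/-- step 2: `Z ≤ M1` -/
theorem Z_le_M1 : Z ≤ M1 V DD := by
  obtain ⟨B0, hB0⟩ := F.ex
  have hne : M1 V DD ≠ ⊥ := fun h0 => T.n0 B0 hB0 fun x hx => by
    have h1 := le_M1 hB0 hx
    rw [h0, mem_bot] at h1
    rw [h1]; exact one_mem _
  obtain ⟨z1, hz1, hz1Z, hz11⟩ := T.fx _ (F.M1_le.trans F.VU) F.norm_M1 hne
  -- elements of `Z` outside `C(KK)` are in `M1`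
  have key : ∀ z ∈ Z, z ∉ CK P' V DD → z ∈ M1 V DD := by
    intro z hz hzC
    have hz1' : z ≠ 1 := fun h0 => hzC (h0 ▸ one_mem _)
    obtain ⟨τ, hτ, hτS, e⟩ := T.tr z1 hz1Z z hz hz11 hz1'
    have hzτ : z ∈ cj τ (M1 V DD) := e ▸ mem_cj_of hz1
    by_cases hA : Fr V DD (cj τ B0)
    · have h1 : cj τ (M1 V DD) ≤ M1 V DD := cj_M1_le fun B hB => by
        have h2 := F.step1 T hτ hτS hB0 hA hB
        rw [F.conj_commutator hB hτ, F.commutator_eq h2]
        exact le_M1 h2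
      exact h1 hzτ
    · exfalso
      apply hzC
      have h1 : cj τ (M1 V DD) ≤ CK P' V DD := cj_M1_le fun B hB => by
        rw [F.conj_commutator hB hτ]
        refine F.le_CK hB hτ ?_
        by_contra hc
        exact hA (F.step1 T hτ hτS hB ⟨F.DP B hB.1 τ hτ, hc⟩ hB0)
      exact h1 hzτ
  obtain ⟨z, hz, hzC⟩ := T.mv
  intro y hy
  by_cases hyC : y ∈ CK P' V DD
  · have h1 : z * y ∉ CK P' V DD := fun h => hzC (by
      have h2 := mul_mem h (inv_mem hyC)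
      rwa [mul_inv_cancel_right] at h2)
    have h2 := mul_mem (inv_mem (key z hz hzC)) (key _ (mul_mem hz hy) h1)
    rwa [inv_mul_cancel_left] at h2
  · exact key y hy hyC

/-- step 3: `N_P(S)` permutes the members which do not centralise `V`. -/
theorem step3 {τ : G} (hτ : τ ∈ P) (hτS : τ ∈ normalizer (S : Set G)) {B : Subgroup G} (hB : Fr V DD B) :
    Fr V DD (cj τ B) := by
  refine ⟨F.DP B hB.1 τ hτ, fun hc => ?_⟩
  obtain ⟨z, hz, hzC⟩ := T.mv
  apply hzC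
  have h1 : cj τ (M1 V DD) ≤ CK P' V DD := cj_M1_le fun B' hB' => by
    rw [F.conj_commutator hB' hτ]
    refine F.le_CK hB' hτ ?_
    by_contra hc'
    exact (F.step1 T hτ hτS hB' ⟨F.DP B' hB'.1 τ hτ, hc'⟩ hB).2 hc
  have h2 : z ∈ cj τ (M1 V DD) := by
    rw [mem_cj]
    have h3 := T.nZ τ⁻¹ (inv_mem hτ) (inv_mem hτS) z hz
    rw [inv_inv] at h3
    exact F.Z_le_M1 T h3
  exact h1 h2

/-- step 4: `P` permutes the members which do not centralise `V`. -/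
theorem step4 {g : G} (hg : g ∈ P) {B : Subgroup G} (hB : Fr V DD B) : Fr V DD (cj g B) := by
  refine ⟨F.DP B hB.1 g hg, fun hc => ?_⟩
  -- the group generated by the `S`-conjugates of `[U, B^g]`
  let M' : Subgroup G := closure {x | ∃ s ∈ S, x ∈ ⁅U, cj (s * g) B⁆}
  have hsg : ∀ s ∈ S, cj (s * g) B ≤ centralizer (V : Set G) := fun s hs => by
    rw [← cj_cj]; exact F.cen_conj_S hs hc
  have hM'U : M' ≤ U := by
    rw [closure_le]
    rintro x ⟨s, hs, hx⟩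
    by_cases h1 : x = 1
    · rw [h1]; exact one_mem _
    · exact F.WP_sub ⟨h1, B, hB, s * g, mul_mem (F.SP hs) hg, hx⟩
  have hM'S : ∀ t ∈ S, cj t M' ≤ M' := by
    intro t ht
    rw [cj_le_iff, closure_le]
    rintro x ⟨s, hs, hx⟩
    rw [SetLike.mem_coe, mem_cj]
    refine subset_closure ⟨t * s, mul_mem ht hs, ?_⟩
    have h1 := mem_cj_of (g := t) hx
    rw [cj_comm, cj_cj, cj_eq_of_mem_normalizer (F.UP (F.SP ht)), ← mul_assoc] at h1
    have e : t⁻¹⁻¹ * x * t⁻¹ = t * x * t⁻¹ := by group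
    rwa [e]
  have hM'N : S ≤ normalizer (M' : Set G) := by
    intro s hs
    rw [mem_normalizer_iff_cj]
    refine le_antisymm (hM'S s hs) ?_
    have h2 := cj_mono s (hM'S s⁻¹ (inv_mem hs))
    rwa [cj_cj_inv] at h2
  have hne : M' ≠ ⊥ := by
    intro h0
    have h1 : ⁅U, cj g B⁆ ≤ M' := fun x hx => subset_closure ⟨1, one_mem _, by rwa [one_mul]⟩
    rw [h0, ← F.conj_commutator hB hg, cj_le_iff] at h1
    refine T.n0 B hB fun x hx => ?_
    have h2 := h1 hx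
    rw [mem_cj, mem_bot] at h2
    have h3 : x = 1 := by
      have e : x = g⁻¹ * (g⁻¹⁻¹ * x * g⁻¹) * g := by group
      rw [e, h2]; group
    rw [h3]; exact one_mem _
  obtain ⟨z', hz', hz'Z, hz'1⟩ := T.fx M' hM'U hM'N hne
  obtain ⟨z, hz, hzC⟩ := T.mv
  have hz1 : z ≠ 1 := fun h0 => hzC (h0 ▸ one_mem _)
  obtain ⟨τ, hτ, hτS, e⟩ := T.tr z' hz'Z z hz hz'1 hz1
  apply hzC
  have h1 : cj τ M' ≤ CK P' V DD := by
    rw [cj_le_iff, closure_le]
    rintro x ⟨s, hs, hx⟩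
    have hsgP : s * g ∈ P := mul_mem (F.SP hs) hg
    have h2 : cj (τ * (s * g)) B ≤ centralizer (V : Set G) := by
      by_contra hc'
      have h3 : Fr V DD (cj (τ * (s * g)) B) := ⟨F.DP B hB.1 _ (mul_mem hτ hsgP), hc'⟩
      have h4 := F.step3 T (inv_mem hτ) (inv_mem hτS) h3
      rw [cj_cj, inv_mul_cancel_left] at h4
      exact h4.2 (hsg s hs)
    have h5 := F.le_CK hB (mul_mem hτ hsgP) h2
    have h6 := mem_cj_of (g := τ) hx
    rw [cj_comm, cj_cj, cj_eq_of_mem_normalizer (F.UP hτ)] at h6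
    rw [SetLike.mem_coe, mem_cj]
    have e2 : τ⁻¹⁻¹ * x * τ⁻¹ = τ * x * τ⁻¹ := by group
    rw [e2]
    exact h5 h6
  rw [← e]
  exact h1 (mem_cj_of hz')

/-- `M1` is normalised by `P`. -/
theorem M1_norm : P ≤ normalizer (M1 V DD : Set G) := by
  have h1 : ∀ t ∈ P, cj t (M1 V DD) ≤ M1 V DD := fun t ht => by
    refine cj_M1_le fun B hB => ?_
    have h2 := F.step4 T ht hB
    rw [F.conj_commutator hB ht, F.commutator_eq h2]
    exact le_M1 h2
  intro s hs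
  rw [mem_normalizer_iff_cj]
  refine le_antisymm (h1 s hs) ?_
  have h2 := cj_mono s (h1 s⁻¹ (inv_mem hs))
  rwa [cj_cj_inv] at h2

end Fam

end Cfsg.Agent.Omega.NO3S.ThmB

end
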