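import Cfsg.Agent.Mrg.Omega.NO3S.ThmB.SymFix
import Cfsg.Agent.Mrg.Omega.NO3S.ThmB.Best
import Cfsg.Agent.Mrg.Omega.NO3S.Level.Lim
import Cfsg.Agent.Mrg.Omega.NO3S.Level.Fam
import Cfsg.Agent.Mrg.Omega.NO3S.OneLine.LevOf
import Cfsg.Agent.Mrg.Omega.All.HOneKer


/-!
# THEOREM B: the instances (helper134; for helper555, helper781)

* `nb`, `sb` : the structures `Nb`, `Sb` for `V_{P'} = ⟨Z^{P'}⟩`, `P' ∈ P*(S)`;
* `bsit` : the setting `BSit` for `U = ⟨Z^L⟩`, `L = ⟨P, P'⟩` local, and a family `FF` of best offenders on `U` with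
  `⟨FF⟩ ≤ O₂(P)`, `⟨FF⟩ ≰ O₂(P')`; `bsit_AA`, `bsit_BO` : `FF = A(S)` and `FF = BO S K`, `K` a level;
* `no_two`, `no_sym` : **(B1)**, `P'` is not of an `F₂`-type;
* `four_of` : by the FF theorem `P'` is of type `SL₂(F)^k`, `|F| ≥ 4`; `four_AA`, `four_BO`, `four_lev` for the two families.
-/

set_option autoImplicit false
set_option linter.unusedSectionVars false

namespace Cfsg.Agent.Omega.NO3S.ThmB.Inst

open Subgroup Cfsg Cfsg.Agent.ZN Cfsg.Agent.ZN.ChoiceBase Cfsg.Agent.Omega.MinPar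
open Cfsg.Agent.Omega.NO3S.Level (Lev BO lev lev_isLev bfam_AA bfam_BO conj_le_of_le_o2 conj_le_of_cent
  zl_le_zc_of_norm nxt)
open Cfsg.Agent.Omega.FFThm (NatKM SymKM OffM ElemM NoOverM StmtM ConclM)
open Cfsg.Agent.Omega.FrameFF (cv)
open Cfsg.Agent.Omega.All.HOne (comm_of_both zl_sq' zl_comm' conjZ conjD)

universe u

variable {G : Type u} [Group G] [Finite G] {S : Sylow 2 G} {P P' : Subgroup G}

/-! ### The blocks -/

section blocks

variable (hG : IsCharacteristicTwoType G) (hP' : IsParS (S : Subgroup G) P')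

include hG hP'

theorem zl_el : IsElementaryAbelian 2 (zl (S : Subgroup G) P') :=
  PLocal.ThompsonJ.isElementaryAbelian_iff.2 ⟨fun _ hv _ hw => zl_comm' hG S hP' hv hw, fun v hv => by
    rw [pow_two]; exact zl_sq' hG S hP' hv⟩

omit [Finite G] hG hP' in
theorem le_normalizer_cv : P' ≤ normalizer (cv (S : Subgroup G) P' : Set G) := fun g hg =>
  mem_normalizer_iff.2 fun v => ⟨fun hv => conjD hg hv, fun hv => by
    have h1 := conjD (inv_mem hg) hv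
    have e : g⁻¹ * (g * v * g⁻¹) * g⁻¹⁻¹ = v := by group
    rwa [e] at h1⟩

/-- `Nb` for `V_{P'}` -/
theorem nb {F : Type} [Field F] {k : ℕ}
    (M : NatKM F (S : Subgroup G) P' (zl (S : Subgroup G) P') (cv (S : Subgroup G) P') k) : Nb M where
  SP' := hP'.le
  V2 := zl_el hG hP'
  VP' := le_normalizer_zl _ _
  DV := inf_le_left
  DP' := le_normalizer_cv
  triv g hg h1 h2 v hv := by
    refine comm_of_both hG S hP' ⟨hg, fun w hw => ?_⟩ h2 v hv
    have hw' : g * w * g⁻¹ ∈ zl (S : Subgroup G) P' := conjZ hg hw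
    rw [← M.ker _ (mul_mem hw' (inv_mem hw)), M.mul _ hw' _ (inv_mem hw), h1 w hw, ← M.mul _ hw _ (inv_mem hw),
      mul_inv_cancel]
    exact (M.ker 1 (one_mem _)).2 (one_mem _)

/-- `Sb` for `V_{P'}` -/
theorem sb {k m : ℕ} (hm : 2 ≤ m)
    (M : SymKM (S : Subgroup G) P' (zl (S : Subgroup G) P') (cv (S : Subgroup G) P') k m) : Sb M where
  m2 := hm
  S2 := S.isPGroup'
  SP' := hP'.le
  V2 := zl_el hG hP'
  VP' := le_normalizer_zl _ _
  DV := inf_le_left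
  DP' := le_normalizer_cv
  triv g hg h1 h2 v hv := by
    refine comm_of_both hG S hP' ⟨hg, fun w hw => ?_⟩ h2 v hv
    have hw' : g * w * g⁻¹ ∈ zl (S : Subgroup G) P' := conjZ hg hw
    rw [← M.ker _ (mul_mem hw' (inv_mem hw)), M.mul _ hw' _ (inv_mem hw), h1 w hw, ← M.mul _ hw _ (inv_mem hw),
      mul_inv_cancel]
    exact (M.ker 1 (one_mem _)).2 (one_mem _)

end blocks

/-! ### The setting -/

section sit

variable (hG : IsCharacteristicTwoType G) (hP : IsParS (S : Subgroup G) P) (hP' : IsParS (S : Subgroup G) P')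
  (hL : IsLoc (S : Subgroup G) (P ⊔ P'))

include hG hL in
theorem zl_sup_le : zl (S : Subgroup G) (P ⊔ P') ≤ zc (o2 (P ⊔ P')) := hL.zl_le S hG

include hG hL in
theorem zl_sup_S : zl (S : Subgroup G) (P ⊔ P') ≤ (S : Subgroup G) :=
  (zl_sup_le hG hL).trans ((zc_le _).trans (hL.o2_le S))

include hG hL in
theorem zl_sup_el : IsElementaryAbelian 2 (zl (S : Subgroup G) (P ⊔ P')) :=
  PLocal.ThompsonJ.isElementaryAbelian_iff.2
    ⟨fun _ ha _ hb => (ChoiceBase.mem_zc.1 (zl_sup_le hG hL hb)).2.2 _ (ChoiceBase.mem_zc.1 (zl_sup_le hG hL ha)).1,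
    fun _ ha => (ChoiceBase.mem_zc.1 (zl_sup_le hG hL ha)).2.1⟩

include hG hP hP' hL

/-- **The setting of THEOREM B.** -/
theorem bsit {FF : Set (Subgroup G)} (F : BFam (S : Subgroup G) (zl (S : Subgroup G) (P ⊔ P')) (P ⊔ P') FF)
    (h1 : ∀ A ∈ FF, A ≤ o2 P) (h2 : ∃ A ∈ FF, ¬ A ≤ o2 P') :
    BSit (S : Subgroup G) P P' (zl (S : Subgroup G) (P ⊔ P')) (zl (S : Subgroup G) P') (P ⊔ P') FF where
  toBFam := F
  SP := hP.le
  SP' := hP'.le
  PL := le_sup_left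
  PL' := le_sup_right
  LU := le_normalizer_zl _ _
  U2 := zl_sup_el hG hL
  VU := zl_le (ZN.zc_le_zl) (le_sup_right.trans (le_normalizer_zl _ _))
  VP' := le_normalizer_zl _ _
  PS A hA g hg := conj_le_of_le_o2 hP.toIsPar (h1 A hA) hg
  PS' A hA hc g hg := conj_le_of_cent hG hP' (F.le A hA) hc hg
  nC := by
    obtain ⟨A, hA, hAQ⟩ := h2
    refine ⟨A, hA, fun hc => hAQ ?_⟩
    rw [← IsParS.inf_centralizer S hG hP']
    exact le_inf (F.le A hA) hc
  op N hN hNP hNP' := Level.le_centralizer_zl hN (sup_le hNP hNP')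

/-- level `-1` : `A(S)` -/
theorem bsit_AA (h1 : jj (S : Subgroup G) ≤ o2 P) (h2 : ¬ jj (S : Subgroup G) ≤ o2 P') :
    BSit (S : Subgroup G) P P' (zl (S : Subgroup G) (P ⊔ P')) (zl (S : Subgroup G) P') (P ⊔ P')
      (AA (S : Subgroup G)) := by
  refine bsit hG hP hP' hL (bfam_AA (zl_sup_el hG hL) (zl_sup_S hG hL)) (fun A hA => (le_jj hA).trans h1) ?_
  by_contra hcon
  push Not at hcon
  rw [jj_eq] at h2
  exact h2 (sSup_le hcon)

/-- the levels -/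
theorem bsit_BO {K : Subgroup G} (hK : Lev (S : Subgroup G) K) (hK1 : K ≤ o2 P) (hK2 : K ≤ o2 P')
    (h1 : ∀ A ∈ BO (S : Subgroup G) K, A ≤ o2 P) (h2 : ∃ A ∈ BO (S : Subgroup G) K, ¬ A ≤ o2 P') :
    BSit (S : Subgroup G) P P' (zl (S : Subgroup G) (P ⊔ P')) (zl (S : Subgroup G) P') (P ⊔ P')
      (BO (S : Subgroup G) K) := by
  have hLK : P ⊔ P' ≤ normalizer (K : Set G) :=
    sup_le (hK.le_norm_of_o2 hK1 (hP.isLoc.o2_le S)) (hK.le_norm_of_o2 hK2 (hP'.isLoc.o2_le S))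
  exact bsit hG hP hP' hL (bfam_BO (zl_le_zc_of_norm hK hLK) hLK) h1 h2

/-! ### (B1) -/

omit hP' in
/-- an element of `U` fixed by `P` is in `C_Z(P)` -/
theorem false_of_fix (hcen : zc (S : Subgroup G) ⊓ centralizer (P : Set G) = ⊥)
    (h : ∃ z ∈ zl (S : Subgroup G) (P ⊔ P'), z ≠ 1 ∧ ∀ g ∈ P, g * z = z * g) : False := by
  obtain ⟨z, hz, hz1, hc⟩ := h
  apply hz1
  have h1 : z ∈ zc (S : Subgroup G) ⊓ centralizer (P : Set G) := by
    refine ⟨ChoiceBase.mem_zc.2 ⟨zl_sup_S hG hL hz, (ChoiceBase.mem_zc.1 (zl_sup_le hG hL hz)).2.1,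
      fun s hs => hc s (hP.le hs)⟩, mem_centralizer_iff.2 fun g hg => hc g hg⟩
  rw [hcen] at h1
  exact mem_bot.1 h1

/-- **(B1)**, natural modules over `F₂` -/
theorem no_two {FF : Set (Subgroup G)}
    (X : BSit (S : Subgroup G) P P' (zl (S : Subgroup G) (P ⊔ P')) (zl (S : Subgroup G) P') (P ⊔ P') FF)
    (hcen : zc (S : Subgroup G) ⊓ centralizer (P : Set G) = ⊥) {F : Type} [Field F] [Finite F] [CharP F 2] {k : ℕ}
    (M : NatKM F (S : Subgroup G) P' (zl (S : Subgroup G) P') (cv (S : Subgroup G) P') k) : 4 ≤ Nat.card F := by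
  classical
  by_contra hcon
  have : Fintype F := Fintype.ofFinite F
  have h3 : Nat.card F = 2 := by
    obtain ⟨e, -, he⟩ := FiniteField.card F 2
    rw [Nat.card_eq_fintype_card, he] at hcon ⊢
    have he0 : 0 < (e : ℕ) := e.pos
    have he1 : (e : ℕ) < 2 := by
      by_contra hge
      have : 2 ^ 2 ≤ 2 ^ (e : ℕ) := Nat.pow_le_pow_right (by norm_num) (by omega)
      omega
    have he2 : (e : ℕ) = 1 := by omega
    rw [he2, pow_one]
  have h2 : ∀ β : F, β = 0 ∨ β = 1 := by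
    rw [Nat.card_eq_two_iff' (0 : F)] at h3
    obtain ⟨y, -, hy⟩ := h3
    intro β
    by_cases hβ : β = 0
    · exact Or.inl hβ
    · exact Or.inr ((hy β hβ).trans (hy 1 one_ne_zero).symm)
  exact false_of_fix hG hP hL hcen ((nb hG hP' M).fix X h2)

/-- **(B1)**, even-subset modules -/
theorem no_sym {FF : Set (Subgroup G)}
    (X : BSit (S : Subgroup G) P P' (zl (S : Subgroup G) (P ⊔ P')) (zl (S : Subgroup G) P') (P ⊔ P') FF)
    (hcen : zc (S : Subgroup G) ⊓ centralizer (P : Set G) = ⊥) {k m : ℕ} (hm : 2 ≤ m)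
    (M : SymKM (S : Subgroup G) P' (zl (S : Subgroup G) P') (cv (S : Subgroup G) P') k m) : False :=
  false_of_fix hG hP hL hcen ((sb hG hP' hm M).fix X)

/-! ### `P'` is of type `SL₂(F)^k`, `|F| ≥ 4` -/

/-- the conclusion of (B1) -/
def Four (S P' : Subgroup G) : Prop :=
  ∃ (F : Type) (_ : Field F) (_ : Finite F) (_ : CharP F 2) (k : ℕ),
    0 < k ∧ 4 ≤ Nat.card F ∧ Nonempty (NatKM F S P' (zl S P') (cv S P') k)

omit hP hL hG in
theorem offM_of_bfam {L U : Subgroup G} {FF : Set (Subgroup G)} (hG : IsCharacteristicTwoType G)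
    (F : BFam (S : Subgroup G) U L FF) (hU : IsElementaryAbelian 2 U) (hVU : zl (S : Subgroup G) P' ≤ U)
    (h2 : ∃ A ∈ FF, ¬ A ≤ o2 P') : ∃ A : Subgroup G, A ≤ P' ∧ OffM (zl (S : Subgroup G) P') A := by
  obtain ⟨A, hA, hAQ⟩ := h2
  refine ⟨A, (F.le A hA).trans hP'.le, F.offM hU hVU hA fun hc => hAQ ?_⟩
  rw [← IsParS.inf_centralizer S hG hP']
  exact le_inf (F.le A hA) hc

/-- **(B1)** -/
theorem four_of (hFF : StmtM.{u}) {FF : Set (Subgroup G)}
    (X : BSit (S : Subgroup G) P P' (zl (S : Subgroup G) (P ⊔ P')) (zl (S : Subgroup G) P') (P ⊔ P') FF)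
    (h2 : ∃ A ∈ FF, ¬ A ≤ o2 P') (hcen : zc (S : Subgroup G) ⊓ centralizer (P : Set G) = ⊥) :
    Four (S : Subgroup G) P' := by
  obtain ⟨-, hcon⟩ := hFF G (S : Subgroup G) P' (OneLine.syl_of hP') hP'.toIsMinPar (hP'.isLoc.char2 S hG)
    (offM_of_bfam hP' hG X.toBFam X.U2 X.VU h2)
  rcases hcon with ⟨F, i1, i2, i3, k, hk, ⟨M⟩⟩ | ⟨k, m, hk, hm, ⟨M⟩⟩
  · exact ⟨F, i1, i2, i3, k, hk, no_two hG hP hP' hL X hcen M, ⟨M⟩⟩
  · exact (no_sym hG hP hP' hL X hcen hm M).elim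

/-- (B1), level `-1` -/
theorem four_AA (hFF : StmtM.{u}) (h1 : jj (S : Subgroup G) ≤ o2 P) (h2 : ¬ jj (S : Subgroup G) ≤ o2 P')
    (hcen : zc (S : Subgroup G) ⊓ centralizer (P : Set G) = ⊥) : Four (S : Subgroup G) P' := by
  refine four_of hG hP hP' hL hFF (bsit_AA hG hP hP' hL h1 h2) ?_ hcen
  by_contra hcon
  push Not at hcon
  rw [jj_eq] at h2
  exact h2 (sSup_le hcon)

/-- (B1) at a level `K` -/
theorem four_BO (hFF : StmtM.{u}) {K : Subgroup G} (hK : Lev (S : Subgroup G) K) (hK1 : K ≤ o2 P) (hK2 : K ≤ o2 P')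
    (h1 : ∀ A ∈ BO (S : Subgroup G) K, A ≤ o2 P) (h2 : ∃ A ∈ BO (S : Subgroup G) K, ¬ A ≤ o2 P')
    (hcen : zc (S : Subgroup G) ⊓ centralizer (P : Set G) = ⊥) : Four (S : Subgroup G) P' :=
  four_of hG hP hP' hL hFF (bsit_BO hG hP hP' hL hK hK1 hK2 h1 h2) h2 hcen

omit hP hL in
/-- some best offender on the level `K ≤ O₂(P')` is not in `O₂(P')` if the next level is not. -/
theorem exists_BO {K : Subgroup G} (hK : Lev (S : Subgroup G) K) (hK2 : K ≤ o2 P')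
    (h : ¬ nxt (S : Subgroup G) K ≤ o2 P') : ∃ A ∈ BO (S : Subgroup G) K, ¬ A ≤ o2 P' := by
  by_contra hcon
  push Not at hcon
  apply h
  refine sup_le ?_ (sSup_le hcon)
  rw [← IsParS.inf_centralizer S hG hP']
  exact inf_le_inf_left _ (centralizer_le
    ((hP'.isLoc.zl_le S hG).trans (hK.zc_o2_le hK2 (hP'.isLoc.o2_le S))))

/-- (B1) at the level `K`: `nxt K ≤ O₂(P)`, `K ≤ O₂(P')`, `nxt K ≰ O₂(P')` -/
theorem four_nxt (hFF : StmtM.{u}) {K : Subgroup G} (hK : Lev (S : Subgroup G) K)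
    (hK1 : nxt (S : Subgroup G) K ≤ o2 P) (hK2 : K ≤ o2 P') (hK3 : ¬ nxt (S : Subgroup G) K ≤ o2 P')
    (hcen : zc (S : Subgroup G) ⊓ centralizer (P : Set G) = ⊥) : Four (S : Subgroup G) P' :=
  four_BO hG hP hP' hL hFF hK ((Level.le_nxt hK.le).trans hK1) hK2
    (fun _ hA => (Level.BO.le_nxt hA).trans hK1) (exists_BO hG hP' hK hK2 hK3) hcen

/-- (B1) at the level `n` -/
theorem four_lev (hFF : StmtM.{u}) {n : ℕ} (h1 : lev (S : Subgroup G) (n + 1) ≤ o2 P)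
    (h2 : lev (S : Subgroup G) n ≤ o2 P') (h3 : ¬ lev (S : Subgroup G) (n + 1) ≤ o2 P')
    (hcen : zc (S : Subgroup G) ⊓ centralizer (P : Set G) = ⊥) : Four (S : Subgroup G) P' :=
  four_nxt hG hP hP' hL hFF (lev_isLev _ n) h1 h2 h3 hcen

end sit

end Cfsg.Agent.Omega.NO3S.ThmB.Inst
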