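import Cfsg.Agent.Mrg.Omega.NO3S.ThmB.SymM


/-!
# THEOREM B: even-subset modules for `P'`, (B1)

* `Sb.hk` : an element of `V` which is centralised by `KK` is in `D`;
* `Sb.fix` : **(B1)** for even-subset modules.
-/

set_option autoImplicit false

namespace Cfsg.Agent.Omega.NO3S.ThmB

open Subgroup Cfsg Cfsg.Agent.ZN Cfsg.Agent.ZN.ChoiceBase
open Cfsg.Agent.Omega.FFThm

universe u

variable {G : Type u} [Group G] {S P' V D : Subgroup G} {k m : ℕ}

/-- a permutation which maps `x, y` to `a, b` -/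
theorem exists_perm {n : ℕ} {x y a b : Fin n} (hxy : x ≠ y) (hab : a ≠ b) :
    ∃ π : Equiv.Perm (Fin n), π x = a ∧ π y = b := by
  have h1 : Equiv.swap x a y ≠ a := fun e => by
    have h2 : Equiv.swap x a y = Equiv.swap x a x := by rw [e, Equiv.swap_apply_left]
    exact hxy ((Equiv.swap x a).injective h2).symm
  refine ⟨Equiv.swap (Equiv.swap x a y) b * Equiv.swap x a, ?_, ?_⟩
  · rw [Equiv.Perm.mul_apply, Equiv.swap_apply_left, Equiv.swap_apply_of_ne_of_ne (Ne.symm h1) hab]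
  · rw [Equiv.Perm.mul_apply, Equiv.swap_apply_left]

namespace Sb

variable {M : SymKM S P' V D k m} (h : Sb M)

include h

/-- the conjugate of a transposition by an element of `S` -/
theorem ac_conj {s t : G} (hs : s ∈ S) (ht : t ∈ P') {σ : Equiv.Perm (Fin k)}
    {τ : Fin k → Equiv.Perm (Fin (2 ^ m + 1))} (hsA : ActsSym M.e V s σ τ) {i : Fin k} {x y : Fin (2 ^ m + 1)}
    (htA : Ac M t (pr i x y)) : Ac M (s * t * s⁻¹) (pr (σ i) (τ i x) (τ i y)) := by
  have hsP := h.SP' hs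
  refine ⟨fun v hv l' z' => ?_, fun d hd => ?_⟩
  · obtain ⟨l, rfl⟩ := σ.surjective l'
    obtain ⟨z, rfl⟩ := (τ l).surjective z'
    have hw := h.memV (inv_mem hsP) hv
    have e1 : s * t * s⁻¹ * v * (s * t * s⁻¹)⁻¹ = s * (t * (s⁻¹ * v * s⁻¹⁻¹) * t⁻¹) * s⁻¹ := by group
    have e2 : s * (s⁻¹ * v * s⁻¹⁻¹) * s⁻¹ = v := by group
    have h1 := hsA _ (h.memV ht hw) l (pr i x y l z)
    have h2 := htA.1 _ hw l z
    have h3 := hsA _ hw l z
    rw [e2] at h3
    have h4 : pr (σ i) (τ i x) (τ i y) (σ l) (τ l z) = τ l (pr i x y l z) := by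
      by_cases hl : l = i
      · subst hl
        rw [pr, pr, sg_self, sg_self, Equiv.swap_apply_apply, Equiv.Perm.mul_apply, Equiv.Perm.mul_apply,
          ← Equiv.Perm.mul_apply (τ l)⁻¹, inv_mul_cancel, Equiv.Perm.one_apply]
      · rw [pr, pr, sg_ne (fun e => hl (σ.injective e)), sg_ne hl]
        rfl
    rw [e1, Equiv.Perm.one_apply, h4, h3]
    exact h1.trans h2
  · have hd' : s⁻¹ * d * s ∈ D := conj_mem' h.DP' hsP hd
    have h1 := comm_conj (g := s) (htA.2 _ hd')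
    have e : s * (s⁻¹ * d * s) * s⁻¹ = d := by group
    rwa [e] at h1

/-- the conjugate of a transposition by a family -/
theorem ac_conj' {g t : G} (hg : g ∈ P') (ht : t ∈ P') {i : Fin k} {π : Equiv.Perm (Fin (2 ^ m + 1))}
    (hgA : Ac M g (sg i π)) {x y : Fin (2 ^ m + 1)}
    (htA : Ac M t (pr i x y)) : Ac M (g * t * g⁻¹) (pr i (π x) (π y)) := by
  have h1 := h.ac_mul (inv_mem hg) (h.ac_mul ht hgA htA) (h.ac_inv hg hgA)
  have e : sg i π * pr i x y * (sg i π)⁻¹ = pr i (π x) (π y) := by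
    rw [mul_inv_eq_iff_eq_mul, pr, pr, ← sg_mul, ← sg_mul, Equiv.swap_apply_apply, inv_mul_cancel_right]
  rwa [e] at h1

section fam

variable [Finite G] {P U L : Subgroup G} {AA : Set (Subgroup G)} (X : BSit S P P' U V L AA)

include X

theorem exists_idx (i : Fin k) : ∃ B, Fr V (DM U AA) B ∧ ∃ t ∈ B, ∃ x y, x ≠ y ∧ Ac M t (pr i x y) := by
  obtain ⟨B0, hB0⟩ := X.ex
  obtain ⟨i0, x0, y0, t0, n0, O⟩ := h.one X hB0
  obtain ⟨s, hs, σ, τ, hsA, hσ⟩ := M.trans i0 i
  refine ⟨cj s B0, (h.fam X).Fr_conj_S hs hB0, s * t0 * s⁻¹, mem_cj_of O.tA, τ i0 x0, τ i0 y0, fun e => ?_, ?_⟩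
  · exact O.xy ((τ i0).injective e)
  · rw [← hσ]
    exact h.ac_conj hs (h.SP' (O.AS O.tA)) hsA O.tt

/-- **an element of `V` which is centralised by `KK` is in `D`** -/
theorem hk {v : G} (hv : v ∈ V) (hc : ∀ g ∈ KK P' V (DM U AA), g * v = v * g) : M.e v = 0 := by
  funext i
  obtain ⟨B, hB, t, ht, x, y, hxy, htA⟩ := h.exists_idx X i
  have htP : t ∈ P' := h.SP' (X.le _ hB.1.1 ht)
  -- transpositions in `K1`
  have hK1 : ∀ a b, a ≠ b → ∃ q ∈ K1 P' V (DM U AA), q ∈ P' ∧ Ac M q (pr i a b) := by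
    intro a b hab
    obtain ⟨π, hπx, hπy⟩ := exists_perm hxy hab
    obtain ⟨g, hg, hgA⟩ := M.lift (sg i π)
    have h1 := h.ac_conj' hg htP hgA htA
    rw [hπx, hπy] at h1
    exact ⟨g * t * g⁻¹, Nb.mem_K1 hB hg ht, mul_mem (mul_mem hg htP) (inv_mem hg), h1⟩
  -- transpositions in `KK`
  have hKK : ∀ b, b ≠ x → ∃ q ∈ KK P' V (DM U AA), q ∈ P' ∧ Ac M q (pr i x b) := by
    intro b hb
    by_cases hby : b = y
    · subst hby
      have h1 := Nb.mem_KK (P' := P') hB (one_mem _) ht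
      rw [one_mul, inv_one, mul_one] at h1
      exact ⟨t, h1, htP, htA⟩
    · obtain ⟨q, hq, hqP, hqA⟩ := hK1 y b (Ne.symm hby)
      have h1 := h.ac_conj' hqP htP (π := Equiv.swap y b) hqA htA
      rw [Equiv.swap_apply_left, Equiv.swap_apply_of_ne_of_ne hxy (Ne.symm hb)] at h1
      exact ⟨q * t * q⁻¹, Nb.mem_KK hB hq ht, mul_mem (mul_mem hqP htP) (inv_mem hqP), h1⟩
  have hcon : ∀ b, M.e v i b = M.e v i x := by
    intro b
    by_cases hb : b = x
    · rw [hb]
    · obtain ⟨q, hq, -, hqA⟩ := hKK b hb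
      have h1 := hqA.1 v hv i x
      have h2 : q * v * q⁻¹ = v := by rw [hc q hq]; group
      rw [h2, Equiv.Perm.one_apply, pr, sg_self, Equiv.swap_apply_left] at h1
      exact h1
  have h1 := M.even v hv i
  have h2 : ∑ z, M.e v i z = M.e v i x := by
    rw [Finset.sum_congr rfl fun z _ => hcon z, Finset.sum_const, Finset.card_univ, Fintype.card_fin, nsmul_eq_mul]
    have h3 : ((2 ^ m + 1 : ℕ) : ZMod 2) = 1 := by
      have h5 : m ≠ 0 := by have := h.m2; omega
      push_cast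
      have h6 : (2 : ZMod 2) = 0 := by decide
      rw [h6, zero_pow h5, zero_add]
    rw [h3, one_mul]
  rw [h2] at h1
  funext z
  rw [hcon z, h1]
  rfl

/-- **(B1), even-subset modules** -/
theorem fix : ∃ z ∈ U, z ≠ 1 ∧ ∀ g ∈ P, g * z = z * g := by
  classical
  let _ : Fintype G := Fintype.ofFinite G
  refine (h.fam X).exists_fix M.e M.mul (fun v hv hc => h.hk X hv hc) fun h0 => ?_
  obtain ⟨B, hB⟩ := X.ex
  obtain ⟨i, x, y, t, n0, O⟩ := h.one X hB
  obtain ⟨hwV, hwe⟩ := h.e_nxy O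
  have h3 := congrFun (congrFun h0 i) x
  have hw1 : t * n0 * t⁻¹ * n0⁻¹ ≠ 1 := fun e => by
    have h4 := congrFun (congrFun hwe i) x
    rw [e, e_one, Pi.add_apply, Pi.add_apply, dl_self, dl_ne i O.xy] at h4
    exact zero_ne_one (h4.trans (add_zero _))
  have hwB : t * n0 * t⁻¹ * n0⁻¹ ∈ ⁅V, B⁆ := by
    have h4 := mem_comm O.nV O.tA
    have e : t * n0 * t⁻¹ * n0⁻¹ = (n0 * t * n0⁻¹ * t⁻¹)⁻¹ := by group
    rw [e]
    exact inv_mem h4
  rw [Finset.sum_apply, Finset.sum_apply, Finset.sum_eq_single (t * n0 * t⁻¹ * n0⁻¹)] at h3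
  · rw [hwe, Pi.add_apply, Pi.add_apply, dl_self, dl_ne i O.xy] at h3
    exact one_ne_zero ((add_zero _).symm.trans h3)
  · intro w hw hww
    obtain ⟨hw1', B', hB', hwB'⟩ := (Finset.mem_filter.1 hw).2
    obtain ⟨j, x', y', t', n0', O'⟩ := h.one X hB'
    rcases h.comm_one O' X.VU hwB' with h4 | h4
    · exact absurd h4 hw1'
    · rw [h4, (h.e_nxy O').2, Pi.add_apply, Pi.add_apply]
      by_cases hj : j = i
      · subst hj
        by_cases hx1 : x = x'
        · -- the same transposition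
          exfalso
          subst hx1
          have h5 := h.disj (O.AS O.tA) (O'.AS O'.tA) (Ne.symm O.xy) (Ne.symm O'.xy) O.tt.1 O'.tt.1
          subst h5
          -- `n0⁻¹ n0'` is centralised by `B`
          have h6 := (O.cen _ (mul_mem (inv_mem O.nV) O'.nV)).2 (by
            rw [M.mul _ (inv_mem O.nV) _ O'.nV, h.e_inv O.nV, O.en, O'.en, add_self2]
            rfl) t O.tA
          have h7 := h.same (h.SP' (O.AS O.tA)) (h.SP' (O'.AS O'.tA)) O.tt O'.tt O'.nV
          refine hww ?_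
          rw [h4, ← h7]
          have hm : n0⁻¹ * n0' ∈ V := mul_mem (inv_mem O.nV) O'.nV
          calc t * n0' * t⁻¹ * n0'⁻¹ = t * n0 * t⁻¹ * (t * (n0⁻¹ * n0')) * t⁻¹ * n0'⁻¹ := by group
            _ = t * n0 * t⁻¹ * ((n0⁻¹ * n0') * t) * t⁻¹ * n0'⁻¹ := by rw [h6]
            _ = t * n0 * t⁻¹ * n0⁻¹ := by group
        · by_cases hx2 : x = y'
          · exfalso
            subst hx2
            have h8 : ActsSym M.e V t' 1 (pr j x x') := by
              have := O'.tt.1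
              rwa [pr, Equiv.swap_comm] at this
            have h5 := h.disj (O.AS O.tA) (O'.AS O'.tA) (Ne.symm O.xy) O'.xy O.tt.1 h8
            subst h5
            have h6 := (O.cen _ (mul_mem (inv_mem O.nV) (h.memV (h.SP' (O'.AS O'.tA)) O'.nV))).2 (by
              rw [M.mul _ (inv_mem O.nV) _ (h.memV (h.SP' (O'.AS O'.tA)) O'.nV), h.e_inv O.nV, O.en,
                e_pair h8 O'.nV O'.en, pr, sg_self, Equiv.swap_apply_right,
                Equiv.swap_apply_of_ne_of_ne (Ne.symm O.x0) (Ne.symm O.y0), add_self2]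
              rfl) t O.tA
            have h9 : Ac M t' (pr j x y) := ⟨h8, O'.tt.2⟩
            have h7 := h.same (h.SP' (O.AS O.tA)) (h.SP' (O'.AS O'.tA)) O.tt h9
              (h.memV (h.SP' (O'.AS O'.tA)) O'.nV)
            -- `t'² = 1` on `V`
            have h10 := h.t_nxy O'
            have h11 : t' * (t' * n0' * t'⁻¹) * t'⁻¹ = n0' := by
              have h12 := h.ac_mul (h.SP' (O'.AS O'.tA)) O'.tt O'.tt
              have e : pr j y x * pr j y x = 1 := by
                rw [pr, ← sg_mul, Equiv.swap_mul_self, sg_one]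
              rw [e] at h12
              have h13 := h.comm_of_one (mul_mem (h.SP' (O'.AS O'.tA)) (h.SP' (O'.AS O'.tA))) h12 O'.nV
              calc t' * (t' * n0' * t'⁻¹) * t'⁻¹ = (t' * t' * n0') * t'⁻¹ * t'⁻¹ := by group
                _ = (n0' * (t' * t')) * t'⁻¹ * t'⁻¹ := by rw [h13]
                _ = n0' := by group
            rw [h11] at h7
            refine hww ?_
            rw [h4]
            set w' := t' * n0' * t'⁻¹ with hw'
            have hw'V : w' ∈ V := h.memV (h.SP' (O'.AS O'.tA)) O'.nV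
            calc w' * n0'⁻¹ = n0'⁻¹ * w' := h.cm hw'V (inv_mem O'.nV)
              _ = n0' * w'⁻¹ := by rw [h.inv_eq O'.nV, h.inv_eq hw'V]
              _ = (t * w' * t⁻¹) * w'⁻¹ := by rw [h7]
              _ = t * n0 * t⁻¹ * (t * (n0⁻¹ * w')) * t⁻¹ * w'⁻¹ := by group
              _ = t * n0 * t⁻¹ * ((n0⁻¹ * w') * t) * t⁻¹ * w'⁻¹ := by rw [h6]
              _ = t * n0 * t⁻¹ * n0⁻¹ := by group
          · rw [dl_ne j hx1, dl_ne j hx2, add_zero]
      · rw [dl_ne' (fun e => hj e.symm), dl_ne' (fun e => hj e.symm)]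
        exact add_zero _
  · intro hn
    exact absurd (Finset.mem_filter.2 ⟨Finset.mem_univ _, hw1, B, hB, hwB⟩) hn

end fam

end Sb

end Cfsg.Agent.Omega.NO3S.ThmB
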