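import Cfsg.Agent.Mrg.Omega.NO3S.ThmB.Best

section


/-!
# THEOREM B: even-subset modules for `P'`, the action on `V`

`M : SymKM S P' V D k m`, `m ≥ 2`, and an element of `P'` which is trivial on `V / D` and on `D` is trivial on `V`
(`Sb`).

* `Sb.cc` : commuting elements;
* `Sb.disj` : two transpositions of `S` with a common point are equal;
* `Sb.nx` : `t ∈ S` acts as the transposition `(x y)` of the `i`-th summand: there is `n0 ∈ V` with `e n0 = {x, 0}`
  which is centralised by all elements which fix `x, y, 0`.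
-/

set_option autoImplicit false

namespace Cfsg.Agent.Omega.NO3S.ThmB

open Subgroup Cfsg Cfsg.Agent.ZN Cfsg.Agent.ZN.ChoiceBase
open Cfsg.Agent.Omega.FFThm

universe u

section vec

variable {k n : ℕ}

/-- the characteristic function of the point `a` of the `i`-th summand -/
def dl (i : Fin k) (a : Fin n) : Fin k → Fin n → ZMod 2 := fun l z => if l = i ∧ z = a then 1 else 0

theorem dl_self (i : Fin k) (a : Fin n) : dl i a i a = 1 := by simp [dl]

theorem dl_ne (i : Fin k) {a z : Fin n} (h : z ≠ a) (l : Fin k) : dl i a l z = 0 := by simp [dl, h]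

theorem dl_ne' {i l : Fin k} (h : l ≠ i) (a : Fin n) : dl i a l = 0 := by
  funext z
  simp [dl, h]

theorem dl_sum (i l : Fin k) (a : Fin n) : ∑ z, dl i a l z = if l = i then 1 else 0 := by
  by_cases h : l = i
  · simp [dl, h]
  · simp [dl, h]

theorem add_self2 (x : Fin k → Fin n → ZMod 2) : x + x = 0 := by
  funext i j
  exact CharTwo.add_self_eq_zero _

theorem pinv (p : Equiv.Perm (Fin n)) (x : Fin n) : p (p⁻¹ x) = x := by
  rw [← Equiv.Perm.mul_apply, mul_inv_cancel, Equiv.Perm.one_apply]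

/-- the transposition `(x y)` of the `i`-th summand -/
def pr (i : Fin k) (x y : Fin n) : Fin k → Equiv.Perm (Fin n) := sg i (Equiv.swap x y)

end vec

variable {G : Type u} [Group G] {S P' V D : Subgroup G} {k m : ℕ}

/-- `g` acts as the family `τ` and centralises `D` -/
def Ac (M : SymKM S P' V D k m) (g : G) (τ : Fin k → Equiv.Perm (Fin (2 ^ m + 1))) : Prop :=
  ActsSym M.e V g 1 τ ∧ ∀ d ∈ D, g * d = d * g

/-- the block of `P'` -/
structure Sb (M : SymKM S P' V D k m) : Prop where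
  m2 : 2 ≤ m
  S2 : IsPGroup 2 S
  SP' : S ≤ P'
  V2 : IsElementaryAbelian 2 V
  VP' : P' ≤ normalizer (V : Set G)
  DV : D ≤ V
  DP' : P' ≤ normalizer (D : Set G)
  triv : ∀ g ∈ P', (∀ v ∈ V, M.e (g * v * g⁻¹) = M.e v) → (∀ d ∈ D, g * d = d * g) → ∀ v ∈ V, g * v = v * g

namespace Sb

variable {M : SymKM S P' V D k m} (h : Sb M)

include h

theorem five : 5 ≤ 2 ^ m + 1 := by
  have h1 : 2 ^ 2 ≤ 2 ^ m := Nat.pow_le_pow_right (by norm_num) h.m2
  omega

theorem cm {v w : G} (hv : v ∈ V) (hw : w ∈ V) : v * w = w * v := elem_comm h.V2 hv hw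

theorem sq {v : G} (hv : v ∈ V) : v * v = 1 := by
  have := h.V2.2 v hv
  rwa [pow_two] at this

theorem inv_eq {v : G} (hv : v ∈ V) : v⁻¹ = v := inv_eq_of_mul_eq_one_left (h.sq hv)

omit h in
theorem e_one : M.e 1 = 0 := by
  have h1 := M.mul 1 (one_mem _) 1 (one_mem _)
  rw [one_mul] at h1
  exact left_eq_add.1 h1

theorem e_inv {v : G} (hv : v ∈ V) : M.e v⁻¹ = M.e v := by rw [h.inv_eq hv]

theorem memV {g v : G} (hg : g ∈ P') (hv : v ∈ V) : g * v * g⁻¹ ∈ V := conj_mem h.VP' hg hv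

theorem e_div {v w : G} (hv : v ∈ V) (hw : w ∈ V) : M.e (v * w⁻¹) = M.e v + M.e w := by
  rw [M.mul v hv _ (inv_mem hw), h.e_inv hw]

theorem mem_D {v w : G} (hv : v ∈ V) (hw : w ∈ V) : v * w⁻¹ ∈ D ↔ M.e v = M.e w := by
  rw [← M.ker _ (mul_mem hv (inv_mem hw)), h.e_div hv hw]
  constructor
  · intro h1
    have h2 := congrArg (· + M.e w) h1
    simp only [add_assoc, add_self2, add_zero, zero_add] at h2
    exact h2
  · intro h1
    rw [h1, add_self2]

omit h in
/-- an element of `V` for a pair of points -/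
theorem exists_pair (M : SymKM S P' V D k m) (i : Fin k) (a b : Fin (2 ^ m + 1)) :
    ∃ v ∈ V, M.e v = dl i a + dl i b := by
  refine M.surj _ fun l => ?_
  have h1 : ∑ z, (dl i a + dl i b) l z = ∑ z, (dl i a l z + dl i b l z) := rfl
  rw [h1, Finset.sum_add_distrib, dl_sum, dl_sum]
  exact CharTwo.add_self_eq_zero _

omit h in
theorem ac_e {g : G} {τ : Fin k → Equiv.Perm (Fin (2 ^ m + 1))} (hA : ActsSym M.e V g 1 τ) {v : G} (hv : v ∈ V)
    (i : Fin k) (x : Fin (2 ^ m + 1)) : M.e (g * v * g⁻¹) i x = M.e v i ((τ i)⁻¹ x) := by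
  have h1 := hA v hv i ((τ i)⁻¹ x)
  rw [Equiv.Perm.one_apply, pinv] at h1
  exact h1

theorem ac_mul {g x : G} {A B : Fin k → Equiv.Perm (Fin (2 ^ m + 1))} (hx : x ∈ P') (hA : Ac M g A) (hB : Ac M x B) :
    Ac M (g * x) (A * B) := by
  refine ⟨fun v hv i z => ?_, fun d hd => ?_⟩
  · have e1 : g * x * v * (g * x)⁻¹ = g * (x * v * x⁻¹) * g⁻¹ := by group
    have h1 := hA.1 _ (h.memV hx hv) i (B i z)
    have h2 := hB.1 v hv i z
    rw [e1, Pi.mul_apply, Equiv.Perm.mul_apply]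
    exact h1.trans h2
  · exact (show Commute g d from hA.2 d hd).mul_left (hB.2 d hd)

theorem ac_inv {g : G} {A : Fin k → Equiv.Perm (Fin (2 ^ m + 1))} (hg : g ∈ P') (hA : Ac M g A) : Ac M g⁻¹ A⁻¹ := by
  refine ⟨fun v hv i z => ?_, fun d hd => ?_⟩
  · have h1 := hA.1 _ (h.memV (inv_mem hg) hv) i ((A i)⁻¹ z)
    have e1 : g * (g⁻¹ * v * g⁻¹⁻¹) * g⁻¹ = v := by group
    rw [e1, Equiv.Perm.one_apply, pinv] at h1
    exact h1.symm
  · exact (show Commute g d from hA.2 d hd).inv_left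

omit h in
theorem ac_one : Ac M 1 1 := by
  refine ⟨fun v _ i z => ?_, fun d _ => by rw [one_mul, mul_one]⟩
  rw [one_mul, inv_one, mul_one]
  rfl

omit h in
theorem ac_e_one {g : G} (hA : ActsSym M.e V g 1 1) {v : G} (hv : v ∈ V) : M.e (g * v * g⁻¹) = M.e v := by
  funext i z
  exact hA v hv i z

theorem comm_of_one {g : G} (hg : g ∈ P') (hA : Ac M g 1) {v : G} (hv : v ∈ V) : g * v = v * g :=
  h.triv g hg (fun _ hw => ac_e_one hA.1 hw) hA.2 v hv

theorem same {g x : G} {A : Fin k → Equiv.Perm (Fin (2 ^ m + 1))} (hg : g ∈ P') (hx : x ∈ P')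
    (hA : Ac M g A) (hB : Ac M x A) {v : G} (hv : v ∈ V) : g * v * g⁻¹ = x * v * x⁻¹ := by
  have h1 := h.ac_mul hg (h.ac_inv hx hB) hA
  rw [inv_mul_cancel] at h1
  have h2 := h.comm_of_one (mul_mem (inv_mem hx) hg) h1 hv
  calc g * v * g⁻¹ = x * (x⁻¹ * g * v) * g⁻¹ := by group
    _ = x * (v * (x⁻¹ * g)) * g⁻¹ := by rw [h2]
    _ = x * v * x⁻¹ := by group

/-- commuting families: `g` and `x` commute on `V` -/
theorem swap {g x : G} {A B : Fin k → Equiv.Perm (Fin (2 ^ m + 1))} (hg : g ∈ P') (hx : x ∈ P')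
    (hA : Ac M g A) (hB : Ac M x B) (hAB : A * B = B * A) {v : G} (hv : v ∈ V) :
    g * (x * v * x⁻¹) * g⁻¹ = x * (g * v * g⁻¹) * x⁻¹ := by
  have h1 := h.ac_mul hx hA hB
  have h2 := h.ac_mul hg hB hA
  rw [← hAB] at h2
  have h3 := h.same (mul_mem hg hx) (mul_mem hx hg) h1 h2 hv
  calc g * (x * v * x⁻¹) * g⁻¹ = g * x * v * (g * x)⁻¹ := by group
    _ = x * g * v * (x * g)⁻¹ := h3
    _ = x * (g * v * g⁻¹) * x⁻¹ := by group

/-- `g` commutes with `c`, and fixes `w D`: it centralises `[c, w]` -/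
theorem cc {g c w : G} {A B : Fin k → Equiv.Perm (Fin (2 ^ m + 1))} (hg : g ∈ P') (hc : c ∈ P')
    (hA : Ac M g A) (hB : Ac M c B) (hAB : A * B = B * A) (hw : w ∈ V) (hgw : M.e (g * w * g⁻¹) = M.e w) :
    g * (c * w * c⁻¹ * w⁻¹) = (c * w * c⁻¹ * w⁻¹) * g := by
  have h1 : g * w * g⁻¹ * w⁻¹ ∈ D := by rwa [h.mem_D (h.memV hg hw) hw]
  have h2 := hB.2 _ h1
  have h3 := h.swap hg hc hA hB hAB hw
  have h4 : g * (c * w * c⁻¹) * g⁻¹ = (g * w * g⁻¹ * w⁻¹) * (c * w * c⁻¹) := by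
    rw [h3]
    calc c * (g * w * g⁻¹) * c⁻¹ = (c * (g * w * g⁻¹ * w⁻¹)) * w * c⁻¹ := by group
      _ = (g * w * g⁻¹ * w⁻¹ * c) * w * c⁻¹ := by rw [h2]
      _ = _ := by group
  have h5 : g * (c * w * c⁻¹ * w⁻¹) * g⁻¹ = c * w * c⁻¹ * w⁻¹ := by
    calc g * (c * w * c⁻¹ * w⁻¹) * g⁻¹ = (g * (c * w * c⁻¹) * g⁻¹) * (g * w * g⁻¹)⁻¹ := by group
      _ = (g * w * g⁻¹ * w⁻¹) * (c * w * c⁻¹) * (g * w * g⁻¹)⁻¹ := by rw [h4]
      _ = (c * w * c⁻¹) * (g * w * g⁻¹ * w⁻¹) * (g * w * g⁻¹)⁻¹ := by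
        rw [h.cm (h.DV h1) (h.memV hc hw)]
      _ = (c * w * c⁻¹) * ((g * w * g⁻¹) * w⁻¹ * (g * w * g⁻¹)⁻¹) := by group
      _ = (c * w * c⁻¹) * (w⁻¹ * (g * w * g⁻¹) * (g * w * g⁻¹)⁻¹) := by
        rw [h.cm (h.memV hg hw) (inv_mem hw)]
      _ = c * w * c⁻¹ * w⁻¹ := by group
  exact mul_inv_eq_iff_eq_mul.1 h5

omit h in
/-- the action on a pair -/
theorem e_pair {g : G} {τ : Fin k → Equiv.Perm (Fin (2 ^ m + 1))} (hA : ActsSym M.e V g 1 τ) {v : G} (hv : v ∈ V)
    {i : Fin k} {a b : Fin (2 ^ m + 1)} (he : M.e v = dl i a + dl i b) :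
    M.e (g * v * g⁻¹) = dl i (τ i a) + dl i (τ i b) := by
  funext l z
  rw [ac_e hA hv l z, he, Pi.add_apply, Pi.add_apply, Pi.add_apply, Pi.add_apply]
  by_cases hl : l = i
  · subst hl
    simp only [dl, true_and]
    simp only [Equiv.Perm.inv_eq_iff_eq]
  · rw [dl_ne' hl, dl_ne' hl, dl_ne' hl, dl_ne' hl]
    simp

/-- three points different from two given ones -/
theorem exists_ne (x y : Fin (2 ^ m + 1)) (z : Fin (2 ^ m + 1)) :
    ∃ a b : Fin (2 ^ m + 1), a ≠ b ∧ a ≠ x ∧ a ≠ y ∧ a ≠ z ∧ b ≠ x ∧ b ≠ y ∧ b ≠ z := by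
  classical
  have h5 := h.five
  have h1 : ∃ a : Fin (2 ^ m + 1), a ∉ ({x, y, z} : Finset (Fin (2 ^ m + 1))) := by
    by_contra hc
    push Not at hc
    have h2 : (Finset.univ : Finset (Fin (2 ^ m + 1))) ⊆ {x, y, z} := fun a _ => hc a
    have h3 := Finset.card_le_card h2
    have h4 : ({x, y, z} : Finset (Fin (2 ^ m + 1))).card ≤ 3 := Finset.card_le_three
    rw [Finset.card_univ, Fintype.card_fin] at h3
    omega
  obtain ⟨a, ha⟩ := h1
  have h1 : ∃ b : Fin (2 ^ m + 1), b ∉ ({a, x, y, z} : Finset (Fin (2 ^ m + 1))) := by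
    by_contra hc
    push Not at hc
    have h2 : (Finset.univ : Finset (Fin (2 ^ m + 1))) ⊆ {a, x, y, z} := fun a _ => hc a
    have h3 := Finset.card_le_card h2
    have h4 : ({a, x, y, z} : Finset (Fin (2 ^ m + 1))).card ≤ 4 := Finset.card_le_four
    rw [Finset.card_univ, Fintype.card_fin] at h3
    omega
  obtain ⟨b, hb⟩ := h1
  simp only [Finset.mem_insert, Finset.mem_singleton, not_or] at ha hb
  exact ⟨a, b, Ne.symm hb.1, ha.1, ha.2.1, ha.2.2, hb.2.1, hb.2.2.1, hb.2.2.2⟩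

/-- a family of permutations which is trivial on `V / D` is trivial -/
theorem faith {τ : Fin k → Equiv.Perm (Fin (2 ^ m + 1))} (hA : ActsSym M.e V 1 1 τ) : τ = 1 := by
  funext i
  ext1 a
  by_contra hne
  have hne' : τ i a ≠ a := hne
  obtain ⟨b, -, -, hb1, hb2, -⟩ := h.exists_ne a (τ i a) a
  obtain ⟨v, hv, hve⟩ := exists_pair M i a b
  have h1 := hA v hv i a
  rw [one_mul, inv_one, mul_one, hve, Equiv.Perm.one_apply, Pi.add_apply, Pi.add_apply, Pi.add_apply,
    dl_ne i hne', dl_ne i (Ne.symm hb2), dl_self, dl_ne i (Ne.symm hb1), add_zero, add_zero] at h1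
  exact zero_ne_one h1

/-- **two transpositions of `S` with a common point are equal** -/
theorem disj {t b : G} (ht : t ∈ S) (hb : b ∈ S) {i : Fin k} {x y z : Fin (2 ^ m + 1)} (hxy : y ≠ x) (hxz : z ≠ x)
    (htA : ActsSym M.e V t 1 (pr i x y)) (hbA : ActsSym M.e V b 1 (pr i x z)) : y = z := by
  by_contra hyz
  have hpow : ∀ j : ℕ, ActsSym M.e V ((t * b) ^ j) 1 ((pr i x y * pr i x z) ^ j) := by
    intro j
    induction j with
    | zero =>
      intro v hv l z'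
      rw [pow_zero, pow_zero, one_mul, inv_one, mul_one]
      rfl
    | succ j ih =>
      intro v hv l z'
      have hbv := h.memV (h.SP' hb) hv
      have htv := h.memV (h.SP' ht) hbv
      have e1 : (t * b) ^ (j + 1) * v * ((t * b) ^ (j + 1))⁻¹ =
          (t * b) ^ j * (t * (b * v * b⁻¹) * t⁻¹) * ((t * b) ^ j)⁻¹ := by
        rw [pow_succ]; group
      rw [e1, pow_succ, Pi.mul_apply, Equiv.Perm.mul_apply]
      have h1 := ih _ htv l ((pr i x y * pr i x z) l z')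
      have h2 := htA _ hbv l (pr i x z l z')
      have h3 := hbA v hv l z'
      exact h1.trans (h2.trans h3)
  obtain ⟨j, hj⟩ := h.S2 ⟨t * b, mul_mem ht hb⟩
  have hj' : (t * b) ^ 2 ^ j = 1 := congrArg Subtype.val hj
  have h1 := hpow (2 ^ j)
  rw [hj'] at h1
  have h2 := congrFun (h.faith h1) i
  have h3 : (Equiv.swap x y * Equiv.swap x z) ^ 2 ^ j = 1 := by
    have e : (pr i x y * pr i x z) = sg i (Equiv.swap x y * Equiv.swap x z) := (sg_mul _ _ _).symm
    rw [Pi.pow_apply, e, sg_self] at h2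
    exact h2
  have h4 : (Equiv.swap x y * Equiv.swap x z) ^ 3 = 1 := by
    have h5 : (Equiv.swap x y * Equiv.swap x z).IsThreeCycle :=
      Equiv.Perm.isThreeCycle_swap_mul_swap_same (Ne.symm hxy) (Ne.symm hxz) hyz
    have := h5.orderOf
    rw [← this]
    exact pow_orderOf_eq_one _
  have h5 : Equiv.swap x y * Equiv.swap x z = 1 := by
    have h6 : orderOf (Equiv.swap x y * Equiv.swap x z) ∣ Nat.gcd (2 ^ j) 3 :=
      Nat.dvd_gcd (orderOf_dvd_of_pow_eq_one h3) (orderOf_dvd_of_pow_eq_one h4)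
    have h7 : Nat.gcd (2 ^ j) 3 = 1 := Nat.Coprime.pow_left j (by norm_num)
    rw [h7, Nat.dvd_one] at h6
    exact orderOf_eq_one_iff.1 h6
  have h6 := Equiv.congr_fun h5 z
  rw [Equiv.Perm.mul_apply, Equiv.swap_apply_right, Equiv.swap_apply_left] at h6
  exact hyz h6

omit h in
theorem pr_comm {τ : Fin k → Equiv.Perm (Fin (2 ^ m + 1))} {i : Fin k} {x y : Fin (2 ^ m + 1)} (hx : τ i x = x)
    (hy : τ i y = y) : τ * pr i x y = pr i x y * τ := by
  funext l
  rw [Pi.mul_apply, Pi.mul_apply]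
  by_cases hl : l = i
  · subst hl
    rw [pr, sg_self, Equiv.mul_swap_eq_swap_mul, hx, hy]
  · rw [pr, sg_ne hl, one_mul, mul_one]

/-- the element `n0` -/
theorem nx {i : Fin k} {x y : Fin (2 ^ m + 1)} (hxy : x ≠ y) (hx0 : x ≠ 0) (hy0 : y ≠ 0) :
    ∃ n0 ∈ V, M.e n0 = dl i x + dl i 0 ∧ ∀ g ∈ P', ∀ τ : Fin k → Equiv.Perm (Fin (2 ^ m + 1)), Ac M g τ →
      τ i x = x → τ i y = y → τ i 0 = 0 → g * n0 = n0 * g := by
  obtain ⟨w, hw, hwe⟩ := exists_pair M i x y
  obtain ⟨r, hr, hrA⟩ := M.lift (pr i x y * pr i y 0)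
  have hre : M.e (r * w * r⁻¹) = dl i y + dl i 0 := by
    rw [e_pair hrA.1 hw hwe]
    have e : (pr i x y * pr i y 0) i = Equiv.swap x y * Equiv.swap y 0 := by
      rw [Pi.mul_apply, pr, pr, sg_self, sg_self]
    rw [e, Equiv.Perm.mul_apply, Equiv.Perm.mul_apply, Equiv.swap_apply_of_ne_of_ne hxy hx0, Equiv.swap_apply_left,
      Equiv.swap_apply_left, Equiv.swap_apply_of_ne_of_ne (Ne.symm hx0) (Ne.symm hy0)]
  refine ⟨r * w * r⁻¹ * w⁻¹, mul_mem (h.memV hr hw) (inv_mem hw), ?_, fun g hg τ hA hx hy h0 => ?_⟩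
  · rw [h.e_div (h.memV hr hw) hw, hre, hwe]
    have : dl i y + dl i 0 + (dl i x + dl i y) = (dl i x + dl i 0) + (dl i y + dl i y) := by abel
    rw [this, add_self2, add_zero]
  · refine h.cc hg hr hA hrA ?_ hw ?_
    · rw [← mul_assoc, pr_comm hx hy, mul_assoc, pr_comm hy h0, ← mul_assoc]
    · rw [e_pair hA.1 hw hwe, hx, hy, hwe]

end Sb

end Cfsg.Agent.Omega.NO3S.ThmB

end

section


/-!
# THEOREM B: even-subset modules for `P'`

* `Sb.one` : a smallest best offender `A` which does not centralise `V` acts on `V` as one transposition, and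
  `|U : C_U(A)| = 2`: `OneS`;
* `Sb.fam` : `Fam`;
* `Sb.hk` : an element of `V` which is centralised by `KK` is in `D`;
* `Sb.fix` : **(B1)** for even-subset modules.
-/

set_option autoImplicit false

namespace Cfsg.Agent.Omega.NO3S.ThmB

open Subgroup Cfsg Cfsg.Agent.ZN Cfsg.Agent.ZN.ChoiceBase
open Cfsg.Agent.Omega.FFThm

universe u

variable {G : Type u} [Group G] {S P' V D : Subgroup G} {k m : ℕ}

/-- `A` acts as the transposition `(x y)` of the `i`-th summand. -/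
structure OneS (M : SymKM S P' V D k m) (U A : Subgroup G) (i : Fin k) (x y : Fin (2 ^ m + 1)) (t n0 : G) : Prop where
  xy : x ≠ y
  x0 : x ≠ 0
  y0 : y ≠ 0
  AS : A ≤ S
  tA : t ∈ A
  tt : Ac M t (pr i x y)
  act : ∀ a ∈ A, a ∈ centralizer (U : Set G) ∨ t⁻¹ * a ∈ centralizer (U : Set G)
  nV : n0 ∈ V
  en : M.e n0 = dl i x + dl i 0
  full : ∀ u ∈ U, (∀ a ∈ A, a * u = u * a) ∨ ∀ a ∈ A, a * (n0⁻¹ * u) = (n0⁻¹ * u) * a
  cen : ∀ v ∈ V, (∀ a ∈ A, a * v = v * a) ↔ M.e v i x = M.e v i y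
  fix : ∀ g ∈ P', ∀ τ : Fin k → Equiv.Perm (Fin (2 ^ m + 1)), Ac M g τ →
      τ i x = x → τ i y = y → τ i 0 = 0 → g * n0 = n0 * g

namespace Sb

variable {M : SymKM S P' V D k m} (h : Sb M)

include h

omit h in
/-- the elements of an offender -/
theorem off_elem [Finite G] {P U L : Subgroup G} {AA : Set (Subgroup G)} (X : BSit S P P' U V L AA) {B : Subgroup G}
    (hB : B ∈ AA) (hc : ¬ B ≤ centralizer (V : Set G)) {g : G} (hg : g ∈ B) :
    ∃ τ : Fin k → Equiv.Perm (Fin (2 ^ m + 1)), Ac M g τ ∧ (∀ i, τ i 0 = 0) ∧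
      ∀ i x, τ i x ≠ x → τ i (τ i x) = x ∧ ∃ b ∈ B, Ac M b (pr i x (τ i x)) := by
  obtain ⟨h1, h2⟩ := M.offM B (X.le B hB) (X.toBFam.offM X.U2 X.VU hB hc)
  obtain ⟨τ, hτ, hτ'⟩ := h2 g hg
  refine ⟨τ, ⟨hτ, h1 g hg⟩, M.fix0 g (X.le B hB hg) 1 τ hτ, fun i x hx => ?_⟩
  obtain ⟨h3, b, hb, hbA⟩ := hτ' i x hx
  exact ⟨h3, b, hb, hbA, h1 b hb⟩

/-- an element of an offender preserves the transpositions of `S` -/
theorem keep [Finite G] {P U L : Subgroup G} {AA : Set (Subgroup G)} (X : BSit S P P' U V L AA) {B : Subgroup G}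
    (hB : B ∈ AA) {τ : Fin k → Equiv.Perm (Fin (2 ^ m + 1))}
    (hτ : ∀ i x, τ i x ≠ x → τ i (τ i x) = x ∧ ∃ b ∈ B, Ac M b (pr i x (τ i x)))
    {t : G} (ht : t ∈ S) {i : Fin k} {x y : Fin (2 ^ m + 1)} (hxy : x ≠ y) (htA : ActsSym M.e V t 1 (pr i x y)) :
    (τ i x = x ∧ τ i y = y) ∨ (τ i x = y ∧ τ i y = x) := by
  have hx : τ i x = x ∨ τ i x = y := by
    by_cases hx : τ i x = x
    · exact Or.inl hx
    · obtain ⟨-, b, hb, hbA⟩ := hτ i x hx
      exact Or.inr (h.disj ht (X.le B hB hb) (Ne.symm hxy) hx htA hbA.1).symm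
  have hy : τ i y = y ∨ τ i y = x := by
    by_cases hy : τ i y = y
    · exact Or.inl hy
    · obtain ⟨-, b, hb, hbA⟩ := hτ i y hy
      have htA' : ActsSym M.e V t 1 (pr i y x) := by rwa [pr, Equiv.swap_comm] at htA
      exact Or.inr (h.disj ht (X.le B hB hb) hxy hy htA' hbA.1).symm
  rcases hx with hx | hx <;> rcases hy with hy | hy
  · exact Or.inl ⟨hx, hy⟩
  · exact absurd ((τ i).injective (hx.trans hy.symm)) hxy
  · exact absurd ((τ i).injective (hx.trans hy.symm)) hxy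
  · exact Or.inr ⟨hx, hy⟩

theorem one [Finite G] {P U L : Subgroup G} {AA : Set (Subgroup G)}
    (X : BSit S P P' U V L AA) {A : Subgroup G} (hA : Fr V (DM U AA) A) : ∃ i x y t n0, OneS M U A i x y t n0 := by
  have hAS : A ≤ S := X.le A hA.1.1
  have hAP : A ≤ P' := hAS.trans h.SP'
  -- a transposition
  obtain ⟨i, x, y, t, hxy, hx0, hy0, htA, htt⟩ : ∃ i x y, ∃ t, x ≠ y ∧ x ≠ 0 ∧ y ≠ 0 ∧ t ∈ A ∧ Ac M t (pr i x y) := by
    by_contra hne
    push Not at hne
    refine hA.2 fun a ha => mem_centralizer_iff.2 fun v hv => ?_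
    obtain ⟨τ, hτ, h0, hτ'⟩ := off_elem X hA.1.1 hA.2 ha
    have h1 : τ = 1 := by
      funext i
      ext1 x
      by_contra hx
      have hx' : τ i x ≠ x := hx
      obtain ⟨-, b, hb, hbA⟩ := hτ' i x hx'
      have hx0 : x ≠ 0 := fun e => hx' (by rw [e, h0])
      have hy0 : τ i x ≠ 0 := fun e => hx0 ((τ i).injective (by rw [e, h0]))
      exact hne i x (τ i x) b (Ne.symm hx') hx0 hy0 hb hbA
    rw [h1] at hτ
    exact (h.comm_of_one (hAP ha) hτ hv).symm
  obtain ⟨n0, hn, hne, hfix⟩ := h.nx (i := i) hxy hx0 hy0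
  have htP := hAP htA
  have hpx : pr i x y i x = y := by rw [pr, sg_self, Equiv.swap_apply_left]
  have hpy : pr i x y i y = x := by rw [pr, sg_self, Equiv.swap_apply_right]
  have hp0 : pr i x y i 0 = 0 := by
    rw [pr, sg_self, Equiv.swap_apply_of_ne_of_ne (Ne.symm hx0) (Ne.symm hy0)]
  have htn : M.e (t * n0 * t⁻¹) = dl i y + dl i 0 := by rw [e_pair htt.1 hn hne, hpx, hp0]
  have htn' : t * n0 * t⁻¹ ≠ n0 := fun e => by
    rw [e, hne] at htn
    have h1 := congrFun (congrFun htn i) x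
    rw [Pi.add_apply, Pi.add_apply, Pi.add_apply, Pi.add_apply, dl_self, dl_ne i hx0, dl_ne i hxy] at h1
    simp at h1
  -- `C_V(A)`
  have hcen : ∀ v ∈ V, (∀ a ∈ A, a * v = v * a) → M.e v i x = M.e v i y := fun v hv hc => by
    have h1 := htt.1 v hv i x
    have h2 : t * v * t⁻¹ = v := by rw [hc t htA]; group
    rw [h2, hpx] at h1
    exact h1.symm
  -- every element of `A`
  have hel : ∀ a ∈ A, a * n0 = n0 * a ∨ (t⁻¹ * a) * n0 = n0 * (t⁻¹ * a) := by
    intro a ha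
    obtain ⟨τ, hτ, h0, hτ'⟩ := off_elem X hA.1.1 hA.2 ha
    rcases h.keep X hA.1.1 hτ' (hAS htA) hxy htt.1 with ⟨h1, h2⟩ | ⟨h1, h2⟩
    · exact Or.inl (hfix a (hAP ha) τ hτ h1 h2 (h0 i))
    · right
      have h3 := h.ac_mul (hAP ha) (h.ac_inv htP htt) hτ
      have e : ((pr i x y)⁻¹ * τ) i = Equiv.swap x y * τ i := by
        rw [Pi.mul_apply, Pi.inv_apply, pr, sg_self, Equiv.swap_inv]
      refine hfix _ (mul_mem (inv_mem htP) (hAP ha)) _ h3 ?_ ?_ ?_
      · rw [e, Equiv.Perm.mul_apply, h1, Equiv.swap_apply_right]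
      · rw [e, Equiv.Perm.mul_apply, h2, Equiv.swap_apply_left]
      · rw [e, Equiv.Perm.mul_apply, h0 i, Equiv.swap_apply_of_ne_of_ne (Ne.symm hx0) (Ne.symm hy0)]
  let B : Subgroup G := A ⊓ centralizer ({n0} : Set G)
  have hBmem : ∀ a, a ∈ B ↔ a ∈ A ∧ a * n0 = n0 * a := fun a => by
    rw [mem_inf, mem_centralizer_singleton_iff]
  have hBA : B ≤ A := inf_le_left
  have h1B : A ⊓ centralizer (U : Set G) ≤ B := fun a ha =>
    (hBmem a).2 ⟨ha.1, (mem_centralizer_iff.1 ha.2 n0 (X.VU hn)).symm⟩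
  have hBne : B ≠ A := fun e => by
    have h1 : t ∈ B := by rw [e]; exact htA
    exact htn' (by rw [((hBmem t).1 h1).2]; group)
  -- `|A| ≤ 2 |B|`
  have hcA : Nat.card A ≤ 2 * Nat.card B := by
    classical
    have h1 : Nat.card A ≤ Nat.card Bool * Nat.card B := by
      refine card_le_of_map (fun a => decide (a * n0 = n0 * a)) fun a ha a' ha' he => ?_
      have he' : (a * n0 = n0 * a) ↔ (a' * n0 = n0 * a') := decide_eq_decide.1 he
      refine (hBmem _).2 ⟨mul_mem (inv_mem ha) ha', ?_⟩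
      by_cases hc : a * n0 = n0 * a
      · exact ((show Commute a n0 from hc).inv_left).mul_left (he'.1 hc)
      · have h2 : Commute (t⁻¹ * a) n0 := (hel a ha).resolve_left hc
        have h3 : Commute (t⁻¹ * a') n0 := (hel a' ha').resolve_left fun h => hc (he'.2 h)
        have h4 := h2.inv_left.mul_left h3
        have e : (t⁻¹ * a)⁻¹ * (t⁻¹ * a') = a⁻¹ * a' := by group
        rw [e] at h4
        exact h4
    rwa [Nat.card_eq_fintype_card (α := Bool), Fintype.card_bool] at h1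
  -- `2 |C_U(A)| ≤ |C_U(B)|`
  let f : Bool → G := fun b => if b then n0 else 1
  have hfU : ∀ b, f b ∈ U := fun b => by
    cases b
    · exact one_mem _
    · exact X.VU hn
  have hinj : ∀ b c b' c', c ∈ U → (∀ a ∈ A, a * c = c * a) → c' ∈ U → (∀ a ∈ A, a * c' = c' * a) →
      f b * c = f b' * c' → b = b' ∧ c = c' := by
    intro b c b' c' hc hca hc' hca' e
    have key : ∀ c c' : G, (∀ a ∈ A, a * c = c * a) → (∀ a ∈ A, a * c' = c' * a) → n0 * c = c' → False := by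
      intro c c' h1 h2 h3
      have h4 : Commute t (n0 * c) := by rw [h3]; exact h2 t htA
      have h5 : Commute t (n0 * c * c⁻¹) := h4.mul_right ((show Commute t c from h1 t htA).inv_right)
      rw [mul_inv_cancel_right] at h5
      exact htn' (by rw [h5.eq]; group)
    cases b <;> cases b'
    · simp only [f] at e
      exact ⟨rfl, by simpa using e⟩
    · simp only [f] at e
      exact (key c' c hca' hca (by simpa using e.symm)).elim
    · simp only [f] at e
      exact (key c c' hca hca' (by simpa using e)).elim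
    · simp only [f] at e
      exact ⟨rfl, by simpa using e⟩
  have hcU : 2 * Nat.card ↥(U ⊓ centralizer (A : Set G)) ≤ Nat.card ↥(U ⊓ centralizer (B : Set G)) := by
    have h2 : (2 : ℕ) = Nat.card Bool := by rw [Nat.card_eq_fintype_card, Fintype.card_bool]
    rw [h2, ← Nat.card_prod]
    refine Nat.card_le_card_of_injective
      (fun p : Bool × ↥(U ⊓ centralizer (A : Set G)) =>
        (⟨f p.1 * p.2, mul_mem ⟨hfU _, ?_⟩ ?_⟩ : ↥(U ⊓ centralizer (B : Set G)))) fun p q e => ?_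
    · refine mem_centralizer_iff.2 fun a ha => ?_
      cases p.1
      · simp [f]
      · simpa [f] using ((hBmem a).1 ha).2
    · exact ⟨p.2.2.1, mem_centralizer_iff.2 fun a ha => mem_centralizer_iff.1 p.2.2.2 a (hBA ha)⟩
    · have h1 := hinj p.1 p.2 q.1 q.2 p.2.2.1 (mem_centralizer_iff.1 p.2.2.2) q.2.2.1
        (mem_centralizer_iff.1 q.2.2.2) (congrArg Subtype.val e)
      exact Prod.ext h1.1 (Subtype.ext h1.2)
  have hBU : B ≤ centralizer (U : Set G) := by
    refine X.toBFam.min_cut X.SU hA.1 h1B hBA hBne ?_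
    calc Nat.card A * Nat.card ↥(U ⊓ centralizer (A : Set G)) ≤
        2 * Nat.card B * Nat.card ↥(U ⊓ centralizer (A : Set G)) := Nat.mul_le_mul_right _ hcA
      _ = Nat.card B * (2 * Nat.card ↥(U ⊓ centralizer (A : Set G))) := by ring
      _ ≤ _ := Nat.mul_le_mul_left _ hcU
  have hUB : U ⊓ centralizer (B : Set G) = U := inf_eq_left.2 (le_centralizer_iff.1 hBU)
  have hUc : Nat.card U ≤ 2 * Nat.card ↥(U ⊓ centralizer (A : Set G)) := by
    have h1 := X.best A hA.1.1 B h1B hBA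
    rw [hUB] at h1
    have hp : 0 < Nat.card B := Nat.card_pos
    refine Nat.le_of_mul_le_mul_left ?_ hp
    calc Nat.card B * Nat.card U ≤ Nat.card A * Nat.card ↥(U ⊓ centralizer (A : Set G)) := h1
      _ ≤ 2 * Nat.card B * Nat.card ↥(U ⊓ centralizer (A : Set G)) := Nat.mul_le_mul_right _ hcA
      _ = _ := by ring
  have hfull : ∀ u ∈ U, (∀ a ∈ A, a * u = u * a) ∨ ∀ a ∈ A, a * (n0⁻¹ * u) = (n0⁻¹ * u) * a := by
    let F : Bool × ↥(U ⊓ centralizer (A : Set G)) → U := fun p => ⟨f p.1 * p.2, mul_mem (hfU _) p.2.2.1⟩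
    have hF : Function.Injective F := fun p q e => by
      have h1 := hinj p.1 p.2 q.1 q.2 p.2.2.1 (mem_centralizer_iff.1 p.2.2.2) q.2.2.1
        (mem_centralizer_iff.1 q.2.2.2) (congrArg Subtype.val e)
      exact Prod.ext h1.1 (Subtype.ext h1.2)
    have hb := hF.bijective_of_nat_card_le (by
      rw [Nat.card_prod, Nat.card_eq_fintype_card (α := Bool), Fintype.card_bool]
      exact hUc)
    intro u hu
    obtain ⟨⟨b, c⟩, hp⟩ := hb.2 ⟨u, hu⟩
    have hp' : f b * c = u := congrArg Subtype.val hp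
    cases b
    · left
      have : u = c := by rw [← hp']; simp [f]
      rw [this]
      exact mem_centralizer_iff.1 c.2.2
    · right
      have : n0⁻¹ * u = c := by rw [← hp']; simp [f]
      rw [this]
      exact mem_centralizer_iff.1 c.2.2
  refine ⟨i, x, y, t, n0, ⟨hxy, hx0, hy0, hAS, htA, htt, fun a ha => ?_, hn, hne, hfull,
    fun v hv => ⟨hcen v hv, fun he => ?_⟩, hfix⟩⟩
  · rcases hel a ha with h1 | h1
    · exact Or.inl (hBU ((hBmem a).2 ⟨ha, h1⟩))
    · exact Or.inr (hBU ((hBmem _).2 ⟨mul_mem (inv_mem htA) ha, h1⟩))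
  · rcases hfull v (X.VU hv) with h1 | h1
    · exact h1
    · exfalso
      have h2 := hcen _ (mul_mem (inv_mem hn) hv) h1
      rw [M.mul _ (inv_mem hn) _ hv, h.e_inv hn, hne] at h2
      simp only [Pi.add_apply] at h2
      rw [dl_self, dl_ne i hx0, dl_ne i (Ne.symm hxy), dl_ne i hy0, he, add_zero, add_zero, zero_add] at h2
      have h3 := add_right_cancel (h2.trans (zero_add _).symm)
      exact one_ne_zero h3

/-! ### `J` -/

/-- the elements of `P'` which act as families -/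
def acG : Subgroup G where
  carrier := {g | g ∈ P' ∧ ∃ τ, Ac M g τ}
  mul_mem' := by
    rintro a b ⟨ha, x, hx⟩ ⟨hb, y, hy⟩
    exact ⟨mul_mem ha hb, x * y, h.ac_mul hb hx hy⟩
  one_mem' := ⟨one_mem _, 1, ac_one⟩
  inv_mem' := by
    rintro a ⟨ha, x, hx⟩
    exact ⟨inv_mem ha, x⁻¹, h.ac_inv ha hx⟩

theorem acact [Finite G] {P U L : Subgroup G} {AA : Set (Subgroup G)} (X : BSit S P P' U V L AA) {g : G}
    (hg : g ∈ sSup AA) : g ∈ P' ∧ ∃ τ, Ac M g τ := by
  have h1 : sSup AA ≤ h.acG := by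
    refine sSup_le fun A hA => ?_
    intro a ha
    refine ⟨h.SP' (X.le A hA ha), ?_⟩
    by_cases hc : A ≤ centralizer (V : Set G)
    · refine ⟨1, fun v hv i x => ?_, fun d hd => (mem_centralizer_iff.1 (hc ha) d (h.DV hd)).symm⟩
      have e : a * v * a⁻¹ = v := by
        rw [← mem_centralizer_iff.1 (hc ha) v hv]
        group
      rw [e]
      rfl
    · obtain ⟨τ, hτ, -⟩ := off_elem X hA hc ha
      exact ⟨τ, hτ⟩
  exact h1 hg

/-- an element which centralises the preimage of `{x, y}^⊥` acts as `1` or as `(x y)` -/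
theorem one_or {g : G} (hg : g ∈ P') {τ : Fin k → Equiv.Perm (Fin (2 ^ m + 1))} (hτ : Ac M g τ) {i : Fin k}
    {x y : Fin (2 ^ m + 1)} (hxy : x ≠ y) (hc : ∀ v ∈ V, M.e v i x = M.e v i y → g * v = v * g) :
    τ = 1 ∨ τ = pr i x y := by
  -- pairs
  have key : ∀ l a b, a ≠ b → (l ≠ i ∨ (a ≠ x ∧ a ≠ y ∧ b ≠ x ∧ b ≠ y)) → τ l a = a ∨ τ l a = b := by
    intro l a b hab hl
    obtain ⟨v, hv, hve⟩ := exists_pair M l a b
    have h1 : M.e v i x = M.e v i y := by
      rw [hve, Pi.add_apply, Pi.add_apply, Pi.add_apply]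
      rcases hl with hl | ⟨h1, h2, h3, h4⟩
      · rw [dl_ne' (Ne.symm hl), dl_ne' (Ne.symm hl)]
        rfl
      · by_cases hl : l = i
        · subst hl
          rw [dl_ne l (Ne.symm h1), dl_ne l (Ne.symm h2), dl_ne l (Ne.symm h3), dl_ne l (Ne.symm h4)]
        · rw [dl_ne' (Ne.symm hl), dl_ne' (Ne.symm hl)]
          rfl
    have h2 := hτ.1 v hv l a
    have h3 : g * v * g⁻¹ = v := by rw [hc v hv h1]; group
    rw [h3, hve, Equiv.Perm.one_apply, Pi.add_apply, Pi.add_apply, Pi.add_apply, dl_self, dl_ne l hab, add_zero] at h2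
    by_contra hne
    push Not at hne
    rw [dl_ne l hne.1, dl_ne l hne.2, add_zero] at h2
    exact zero_ne_one h2
  have key2 : ∀ l a, (l ≠ i ∨ (a ≠ x ∧ a ≠ y)) → τ l a = a := by
    intro l a hl
    obtain ⟨b, c, hbc, hbx, hby, hba, hcx, hcy, hca⟩ := h.exists_ne x y a
    have h1 := key l a b (Ne.symm hba) (hl.imp id fun h => ⟨h.1, h.2, hbx, hby⟩)
    have h2 := key l a c (Ne.symm hca) (hl.imp id fun h => ⟨h.1, h.2, hcx, hcy⟩)
    rcases h1 with h1 | h1
    · exact h1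
    · rcases h2 with h2 | h2
      · exact h2
      · exact absurd (h1.symm.trans h2) hbc
  have hxy' : ∀ a, a = x ∨ a = y → τ i a = x ∨ τ i a = y := by
    intro a ha
    by_contra hne
    push Not at hne
    have h1 := key2 i (τ i a) (Or.inr hne)
    have h2 := (τ i).injective h1
    rcases ha with rfl | rfl
    · exact hne.1 h2
    · exact hne.2 h2
  have hx := hxy' x (Or.inl rfl)
  have hy := hxy' y (Or.inr rfl)
  rcases hx with hx | hx
  · left
    have hy' : τ i y = y := by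
      rcases hy with hy | hy
      · exact absurd ((τ i).injective (hx.trans hy.symm)) hxy
      · exact hy
    funext l
    ext1 a
    by_cases hl : l = i
    · subst hl
      by_cases hax : a = x
      · rw [hax, hx]; rfl
      · by_cases hay : a = y
        · rw [hay, hy']; rfl
        · exact key2 l a (Or.inr ⟨hax, hay⟩)
    · exact key2 l a (Or.inl hl)
  · right
    have hy' : τ i y = x := by
      rcases hy with hy | hy
      · exact hy
      · exact absurd ((τ i).injective (hx.trans hy.symm)) hxy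
    funext l
    ext1 a
    by_cases hl : l = i
    · subst hl
      rw [pr, sg_self]
      by_cases hax : a = x
      · rw [hax, hx, Equiv.swap_apply_left]
      · by_cases hay : a = y
        · rw [hay, hy', Equiv.swap_apply_right]
        · rw [Equiv.swap_apply_of_ne_of_ne hax hay]
          exact key2 l a (Or.inr ⟨hax, hay⟩)
    · rw [pr, sg_ne hl]
      exact key2 l a (Or.inl hl)

/-- `[V, A] = {1, [t, n0]}` -/
theorem comm_one {U A : Subgroup G} {i : Fin k} {x y : Fin (2 ^ m + 1)} {t n0 : G} (O : OneS M U A i x y t n0)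
    (VU : V ≤ U) {z : G} (hz : z ∈ ⁅V, A⁆) : z = 1 ∨ z = t * n0 * t⁻¹ * n0⁻¹ := by
  have htP := h.SP' (O.AS O.tA)
  have hm : t * n0 * t⁻¹ * n0⁻¹ ∈ V := mul_mem (h.memV htP O.nV) (inv_mem O.nV)
  set w := t * n0 * t⁻¹ * n0⁻¹ with hw
  let K : Subgroup G :=
    { carrier := {y | y = 1 ∨ y = w}
      mul_mem' := by
        rintro b c (rfl | rfl) (rfl | rfl)
        · left; rw [mul_one]
        · right; rw [one_mul]
        · right; rw [mul_one]
        · left; exact h.sq hm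
      one_mem' := Or.inl rfl
      inv_mem' := by
        rintro b (rfl | rfl)
        · left; rw [inv_one]
        · right; exact h.inv_eq hm }
  have h1 : ⁅V, A⁆ ≤ K := comm_le fun v hv a ha => by
    have e : v * a * v⁻¹ * a⁻¹ = (a * v * a⁻¹ * v⁻¹)⁻¹ := by group
    rw [e]
    refine inv_mem (show a * v * a⁻¹ * v⁻¹ ∈ K from ?_)
    rcases O.act a ha with h1 | h1
    · left
      rw [← mem_centralizer_iff.1 h1 v (VU hv)]
      group
    · have h2 := mem_centralizer_iff.1 h1 v (VU hv)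
      have e2 : a * v * a⁻¹ * v⁻¹ = t * v * t⁻¹ * v⁻¹ := by
        calc a * v * a⁻¹ * v⁻¹ = t * (t⁻¹ * a * v) * a⁻¹ * v⁻¹ := by group
          _ = t * (v * (t⁻¹ * a)) * a⁻¹ * v⁻¹ := by rw [h2]
          _ = _ := by group
      rw [e2]
      rcases O.full v (VU hv) with h3 | h3
      · left
        rw [h3 t O.tA]
        group
      · right
        have h4 := h3 t O.tA
        have h5 : v * n0⁻¹ = n0⁻¹ * v := h.cm hv (inv_mem O.nV)
        calc t * v * t⁻¹ * v⁻¹ = t * n0 * (n0⁻¹ * v) * t⁻¹ * v⁻¹ := by group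
          _ = t * n0 * (t⁻¹ * (t * (n0⁻¹ * v))) * t⁻¹ * v⁻¹ := by group
          _ = t * n0 * (t⁻¹ * ((n0⁻¹ * v) * t)) * t⁻¹ * v⁻¹ := by rw [h4]
          _ = t * n0 * t⁻¹ * (n0⁻¹ * v) * v⁻¹ := by group
          _ = w := by rw [hw]; group
  exact h1 hz

theorem e_nxy {U A : Subgroup G} {i : Fin k} {x y : Fin (2 ^ m + 1)} {t n0 : G} (O : OneS M U A i x y t n0) :
    t * n0 * t⁻¹ * n0⁻¹ ∈ V ∧ M.e (t * n0 * t⁻¹ * n0⁻¹) = dl i x + dl i y := by
  have htP := h.SP' (O.AS O.tA)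
  refine ⟨mul_mem (h.memV htP O.nV) (inv_mem O.nV), ?_⟩
  rw [h.e_div (h.memV htP O.nV) O.nV, e_pair O.tt.1 O.nV O.en, pr, sg_self, Equiv.swap_apply_left,
    Equiv.swap_apply_of_ne_of_ne (Ne.symm O.x0) (Ne.symm O.y0), O.en]
  have : dl i y + dl i 0 + (dl i x + dl i 0) = (dl i x + dl i y) + (dl i 0 + dl i 0) := by abel
  rw [this, add_self2, add_zero]

/-- an element which fixes `x, y, 0` centralises `[t, n0]` -/
theorem fix_nxy {U A : Subgroup G} {i : Fin k} {x y : Fin (2 ^ m + 1)} {t n0 : G} (O : OneS M U A i x y t n0)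
    {g : G} (hg : g ∈ P') {τ : Fin k → Equiv.Perm (Fin (2 ^ m + 1))} (hτ : Ac M g τ) (hx : τ i x = x) (hy : τ i y = y)
    (h0 : τ i 0 = 0) : Commute g (t * n0 * t⁻¹ * n0⁻¹) := by
  have htP := h.SP' (O.AS O.tA)
  have h1 := O.fix g hg τ hτ hx hy h0
  have h2 := h.swap hg htP hτ O.tt (pr_comm hx hy) O.nV
  have h3 : g * n0 * g⁻¹ = n0 := by rw [h1]; group
  rw [h3] at h2
  have h4 : Commute g (t * n0 * t⁻¹) := mul_inv_eq_iff_eq_mul.1 h2
  exact h4.mul_right ((show Commute g n0 from h1).inv_right)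

theorem t_nxy {U A : Subgroup G} {i : Fin k} {x y : Fin (2 ^ m + 1)} {t n0 : G} (O : OneS M U A i x y t n0) :
    Commute t (t * n0 * t⁻¹ * n0⁻¹) := by
  have htP := h.SP' (O.AS O.tA)
  have h1 := h.ac_mul htP O.tt O.tt
  have e : pr i x y * pr i x y = 1 := by
    rw [pr, ← sg_mul, Equiv.swap_mul_self, sg_one]
  rw [e] at h1
  have h2 := h.comm_of_one (mul_mem htP htP) h1 O.nV
  have hm := (h.e_nxy O).1
  -- `t [t, n0] t⁻¹ = [t, n0]⁻¹`
  have h3 : t * (t * n0 * t⁻¹ * n0⁻¹) * t⁻¹ = (t * n0 * t⁻¹ * n0⁻¹)⁻¹ := by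
    calc t * (t * n0 * t⁻¹ * n0⁻¹) * t⁻¹ = (t * t * n0) * t⁻¹ * n0⁻¹ * t⁻¹ := by group
      _ = (n0 * (t * t)) * t⁻¹ * n0⁻¹ * t⁻¹ := by rw [h2]
      _ = (t * n0 * t⁻¹ * n0⁻¹)⁻¹ := by group
  rw [h.inv_eq hm] at h3
  exact mul_inv_eq_iff_eq_mul.1 h3

/-- **`J` centralises `[V, A]`** -/
theorem J_comm [Finite G] {P U L : Subgroup G} {AA : Set (Subgroup G)} (X : BSit S P P' U V L AA)
    {A : Subgroup G} {i : Fin k} {x y : Fin (2 ^ m + 1)} {t n0 : G} (O : OneS M U A i x y t n0) {g : G}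
    (hg : g ∈ sSup AA) : Commute g (t * n0 * t⁻¹ * n0⁻¹) := by
  have h1 : sSup AA ≤ centralizer ({t * n0 * t⁻¹ * n0⁻¹} : Set G) := by
    refine sSup_le fun B hB => ?_
    intro b hb
    rw [mem_centralizer_singleton_iff]
    by_cases hc : B ≤ centralizer (V : Set G)
    · exact (mem_centralizer_iff.1 (hc hb) _ (h.e_nxy O).1).symm
    · obtain ⟨τ, hτ, h0, hτ'⟩ := off_elem X hB hc hb
      have hbP := h.SP' (X.le B hB hb)
      have htP := h.SP' (O.AS O.tA)
      rcases h.keep X hB hτ' (O.AS O.tA) O.xy O.tt.1 with ⟨h1, h2⟩ | ⟨h1, h2⟩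
      · exact h.fix_nxy O hbP hτ h1 h2 (h0 i)
      · have h3 := h.ac_mul hbP (h.ac_inv htP O.tt) hτ
        have e : ((pr i x y)⁻¹ * τ) i = Equiv.swap x y * τ i := by
          rw [Pi.mul_apply, Pi.inv_apply, pr, sg_self, Equiv.swap_inv]
        have h4 := h.fix_nxy O (mul_mem (inv_mem htP) hbP) h3
          (by rw [e, Equiv.Perm.mul_apply, h1, Equiv.swap_apply_right])
          (by rw [e, Equiv.Perm.mul_apply, h2, Equiv.swap_apply_left])
          (by rw [e, Equiv.Perm.mul_apply, h0 i, Equiv.swap_apply_of_ne_of_ne (Ne.symm O.x0) (Ne.symm O.y0)])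
        have h5 := (h.t_nxy O).mul_left h4
        rw [mul_inv_cancel_left] at h5
        exact h5
  exact mem_centralizer_singleton_iff.1 (h1 hg)

/-- **the family of `THEOREM B`** -/
theorem fam [Finite G] {P U L : Subgroup G} {AA : Set (Subgroup G)}
    (X : BSit S P P' U V L AA) : Fam S P P' U V (sSup AA) (DM U AA) := by
  refine X.fam (fun A hA u hu => ?_) (fun A hA g hg hc => ?_) (fun A hA z hz g hg => ?_)
  · obtain ⟨i, x, y, t, n0, O⟩ := h.one X hA
    rcases O.full u hu with h1 | h1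
    · exact ⟨1, one_mem _, u, hu, h1, (one_mul _).symm⟩
    · exact ⟨n0, O.nV, n0⁻¹ * u, mul_mem (inv_mem (X.VU O.nV)) hu, h1, by group⟩
  · obtain ⟨i, x, y, t, n0, O⟩ := h.one X hA
    obtain ⟨hgP, τ, hτ⟩ := h.acact X hg
    have htP := h.SP' (O.AS O.tA)
    rcases h.one_or hgP hτ O.xy fun v hv he => hc v hv ((O.cen v hv).2 he) with h1 | h1
    · rw [h1] at hτ
      refine ⟨1, one_mem _, fun v hv => ?_⟩
      rw [h.comm_of_one hgP hτ hv]
      group
    · rw [h1] at hτ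
      exact ⟨t, O.tA, fun v hv => h.same hgP htP hτ O.tt hv⟩
  · obtain ⟨i, x, y, t, n0, O⟩ := h.one X hA
    rcases h.comm_one O X.VU hz with h1 | h1
    · rw [h1, mul_one, one_mul]
    · rw [h1]
      exact h.J_comm X O hg

end Sb

end Cfsg.Agent.Omega.NO3S.ThmB

end
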